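import Cfsg.Agent.SG.IBc
import Cfsg.Agent.FT.P.BG03a

/-! Section Bd: the end of the abelian case (see notes/s0217_plan.md). -/

set_option autoImplicit false
set_option linter.unusedSectionVars false

namespace Cfsg.Agent.SG

open Subgroup Cfsg.Agent.FT Cfsg.Agent.SF Cfsg.Agent.H1
open scoped commutatorElement

universe u
variable {G : Type u} [Group G] [Finite G]

theorem bd_comm {Z U K Y : Subgroup G} (hZ : Z ≤ 𝐍(Y)) (hU : U ≤ 𝐍(Y)) (hK : K ≤ 𝐍(Y))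
    (hUK : U ≤ 𝐍(K)) (h : ⁅Z, K⁆ ≤ Y) : ⁅K, ⁅Z, U⁆⁆ ≤ Y := by
  rw [Subgroup.commutator_comm] at h ⊢
  exact three_subgroups' hZ hU hK
    ((commutator_mono (commutator_le_right' hUK) le_rfl).trans h)
    ((commutator_mono h le_rfl).trans (commutator_le_left' hU))

theorem bd_isProd {L X Y : Subgroup G} (h : L ≤ X ⊔ (L ⊓ Y)) (hn : L ≤ 𝐍(X)) : IsProd L X Y :=
  fun g hg => by
    obtain ⟨x, hx, y, hy, rfl⟩ := (mem_sup_of_le_normalizer' (inf_le_left.trans hn)).1 (h hg)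
    exact ⟨x, hx, y, hy.2, rfl⟩

theorem bd_idx {K H : Subgroup G} (N : Subgroup G) (h : K ⊴ H) :
    N.relIndex K ∣ N.relIndex H := by
  have h1 : (N ⊓ H).relIndex K = N.relIndex K := by
    rw [← inf_relIndex_right (N ⊓ H), inf_assoc, inf_eq_right.2 h.le, inf_relIndex_right]
  have h2 : IsProd (K ⊔ N ⊓ H) K (N ⊓ H) := fun g hg => by
    obtain ⟨x, hx, y, hy, rfl⟩ := (mem_sup_of_le_normalizer' (inf_le_right.trans h.norm)).1 hg
    exact ⟨x, hx, y, hy, rfl⟩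
  rw [← h1, (isProd_iff_relIndex le_sup_left).1 h2, ← inf_relIndex_right N H]
  exact relIndex_dvd_of_le_left' le_sup_right (sup_le h.le inf_le_right)

theorem bd_prod {s : ℕ} [hs : Fact s.Prime] {P H N : Subgroup G} (hP : Syl s P H)
    (h : PiNum {s} (N.relIndex H)) : IsProd H P N := by
  refine (isProd_iff_relIndex hP.le).2 (le_antisymm
    (relIndex_le_of_le_right hP.le (relIndex_pos _ _).ne') (Nat.le_of_dvd (relIndex_pos _ _) ?_))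
  have h1 := relIndex_inf_mul_relIndex N P H
  have h2 := relIndex_inf_mul_relIndex P N H
  rw [inf_eq_left.2 hP.le, inf_comm, ← h2] at h1
  refine (piNum_coprime' ((piNum_compl_singleton hs.out).2 hP.not_dvd) h).symm.dvd_of_dvd_mul_right ?_
  rw [h1]
  exact Dvd.intro_left _ rfl

variable {r q : ℕ} [Fact r.Prime] [Fact q.Prime] {A S : Subgroup G} {θ : G → Subgroup G}

theorem bd_line (h : Min r A θ) {B : Subgroup G} (hB : ♯B = r ^ 2) : ♯A = ♯B * r := by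
  rw [h.card, hB, pow_succ]

theorem bd_sup (h : Min r A θ) {B : Subgroup G} (hB : B ≤ A) (h2 : ♯B = r ^ 2) {x : G}
    (hx : x ∈ A) (hxB : x ∉ B) : A ≤ B ⊔ zpowers x := by
  have hr := (Fact.out : r.Prime)
  have h1 : B ⊔ zpowers x ≤ A := sup_le hB (zpowers_le.2 hx)
  have h3 : B.relIndex A = r :=
    Nat.eq_of_mul_eq_mul_left (card_pos' B) (by rw [card_mul_relIndex hB, bd_line h h2])
  have h4 := relIndex_mul_relIndex B (B ⊔ zpowers x) A le_sup_left h1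
  rw [h3] at h4
  rcases (Nat.dvd_prime hr).1 (Dvd.intro _ h4) with h5 | h5
  · exact absurd (relIndex_eq_one.1 h5 (mem_sup_right (mem_zpowers x))) hxB
  · rw [h5] at h4
    exact relIndex_eq_one.1 (Nat.eq_of_mul_eq_mul_left hr.pos (h4.trans (mul_one r).symm))

theorem bd_cent (h : Min r A θ) {X Y : Subgroup G} (hX : IsT r A θ X) (hY : IsT r A θ Y)
    (hc : ∀ b ∈ A, b ≠ 1 → X ⊓ θ b ≤ 𝐂(Y ⊓ θ b)) : X ≤ 𝐂(Y) := by
  refine le_of_lines h hX fun B hB h1 => cent_symm (le_of_lines h hY fun D hD h2 => cent_symm ?_)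
  obtain ⟨a, haB, haD, ha⟩ := h.exists_mem_inf hB hD (bd_line h h1) (bd_line h h2)
  refine (le_inf inf_le_left ((inf_le_inf_left _ (cent_le_cent1 haB)).trans
    (hX.le a (hB haB) ha))).trans ((hc a (hB haB) ha).trans (cent_anti ?_))
  exact le_inf inf_le_left ((inf_le_inf_left _ (cent_le_cent1 haD)).trans (hY.le a (hB haB) ha))

namespace Ab
variable (h : Ab r q A θ S)
include h

theorem bd_theta {b : G} (hb : b ∈ A) (h1 : b ≠ 1) : ¬ θ b ≤ nT A θ S := fun h2 =>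
  h.C_not_le ((thB_le hb h1).trans h2)

theorem bd_K {b : G} (hb : b ∈ A) (h1 : b ≠ 1) : ¬ core {q}ᶜ (θ b) ≤ nT A θ S := fun h2 =>
  h.bd_theta hb h1 ((h.fac b hb h1).trans (sup_le h2 inf_le_right))

theorem bd_KT {b : G} (hb : b ∈ A) (h1 : b ≠ 1) : IsT r A θ (core {q}ᶜ (θ b)) :=
  isT_core h.min.toFn _ (h.min.isT hb h1)

theorem bd_V {D : Subgroup G} (hD : D ≤ nT A θ S) (b : G) : ⁅D ⊓ θ b, S ⊓ θ b⁆ ≤ S ⊓ θ b :=
  le_inf ((commutator_mono le_rfl inf_le_left).trans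
    (commutator_le_right' (inf_le_left.trans (hD.trans (nT_le _ _ _)))))
    ((commutator_mono inf_le_right inf_le_right).trans (der_le _))

theorem bd_VA {D : Subgroup G} (hD : A ≤ 𝐍(D)) {b : G} (hb : b ∈ A) (h1 : b ≠ 1) :
    A ≤ 𝐍(⁅D ⊓ θ b, S ⊓ θ b⁆) :=
  le_normalizer_commutator (le_normalizer_inf hD (h.min.inv b hb h1))
    (le_normalizer_inf h.mx.isT.inv (h.min.inv b hb h1))

theorem bd_cop {U : Subgroup G} (hU : U ≤ S) (b : G) : (♯U).Coprime ♯(core {q}ᶜ (θ b)) :=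
  coprime_of_isPGroup (isPGroup_of_le hU h.mx.pgp) (core_piG _ _)

/-- a subgroup of `W` all of whose local commutators with `S` vanish is trivial -/
theorem bd_bot {D : Subgroup G} (h1 : D ≤ Wq q A θ) (h2 : A ≤ 𝐍(D))
    (h3 : ∀ b ∈ A, b ≠ 1 → ⁅D ⊓ θ b, S ⊓ θ b⁆ = ⊥) : D = ⊥ :=
  h.R_bot h1 ((cent_symm (bd_cent h.min (h.W_isT.mono h1 h2) h.mx.isT fun b hb hb1 =>
    le_cent_iff_commutator.2 (h3 b hb hb1))).trans (cent_le_norm _))

/-- no nontrivial invariant normal subgroup of `W` lies in `N` -/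
theorem bd_nrm {Z : Subgroup G} (h1 : Z ⊴ Wq q A θ) (h2 : A ≤ 𝐍(Z)) (h3 : Z ≤ nT A θ S) :
    Z = ⊥ := by
  refine h.bd_bot h1.le h2 fun b hb hb1 => ?_
  set K := core {q}ᶜ (θ b)
  have hK : K ⊴ θ b := core_nrm _ _
  have hKW : K ≤ Wq q A θ := h.K_le_W hb hb1
  have c1 : S ⊓ θ b ≤ 𝐂(K ⊓ Z) := cent_symm (le_cent_of_inf (W := K) (S := S) inf_le_left
    (inf_le_right.trans (h3.trans (nT_le _ _ _))) inf_le_left (inf_le_right.trans hK.norm)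
    (eq_bot_iff.2 ((inf_le_inf_right _ hKW).trans h.W_inf_S.le)))
  have c2 : θ b ≤ 𝐍(K ⊓ Z) := isProd_le (h.theta_prod hb hb1)
    (le_normalizer_inf (inf_le_right.trans hK.norm) (inf_le_left.trans h1.norm))
    (c1.trans (cent_le_norm _))
  have c3 : ⁅Z ⊓ θ b, K⁆ ≤ K ⊓ Z := le_inf (commutator_le_right' (inf_le_right.trans hK.norm))
    ((commutator_mono inf_le_left le_rfl).trans (commutator_le_left' (hKW.trans h1.norm)))
  have hV := h.bd_V h3 b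
  have c4 := stable_factor_cent (hV.trans (inf_le_right.trans hK.norm))
    (h.bd_cop (hV.trans inf_le_left) b) (bd_comm (inf_le_right.trans c2) (inf_le_right.trans c2)
      (hK.le.trans c2) (inf_le_right.trans hK.norm) c3) (hV.trans c1)
  by_contra h0
  exact h.bd_K hb hb1 (h.le_N' h0 (hV.trans inf_le_left) (h.bd_VA h2 hb hb1) (h.bd_KT hb hb1)
    ((cent_symm c4).trans (cent_le_norm _)))

theorem bd_idxK {b : G} (hb : b ∈ A) (h1 : b ≠ 1) :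
    (nT A θ S).relIndex (core {q}ᶜ (θ b)) = (nT A θ S).relIndex (θ b) :=
  (isProd_iff_relIndex (core_le _ _)).1 (bd_isProd (h.fac b hb h1) (core_nrm _ _).norm)

variable {s : ℕ} [Fact s.Prime]

/-- one `θ a` is `O_s(θ a) (θ a ∩ N)` -/
theorem bd_a1 {Z : Subgroup G} (h1 : Z ⊴ Wq q A θ) (h2 : A ≤ 𝐍(Z)) (h3 : IsPGroup s Z)
    (h4 : Z ⊓ nT A θ S ≠ ⊥) : ∃ a ∈ A, a ≠ 1 ∧ IsProd (θ a) (core {s} (θ a)) (nT A θ S) := by
  have hD : A ≤ 𝐍(Z ⊓ nT A θ S) := le_normalizer_inf h2 h.N_isT.inv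
  obtain ⟨a, ha, ha1, h0⟩ : ∃ a ∈ A, a ≠ 1 ∧ ⁅(Z ⊓ nT A θ S) ⊓ θ a, S ⊓ θ a⁆ ≠ ⊥ := by
    by_contra hc
    push Not at hc
    exact h4 (h.bd_bot (inf_le_left.trans h1.le) hD hc)
  refine ⟨a, ha, ha1, bd_isProd ?_ (core_nrm _ _).norm⟩
  set K := core {q}ᶜ (θ a)
  have hK : K ⊴ θ a := core_nrm _ _
  have hKW : K ≤ Wq q A θ := h.K_le_W ha ha1
  have hE : core {s} K ⊴ θ a := hK.core _
  have hV := h.bd_V (inf_le_right : Z ⊓ nT A θ S ≤ _) a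
  have hVA := h.bd_VA hD ha ha1
  have c3 : ⁅(Z ⊓ nT A θ S) ⊓ θ a, K⁆ ≤ core {s} K := (le_inf
    (commutator_le_right' (inf_le_right.trans hK.norm))
    ((commutator_mono (inf_le_left.trans inf_le_left) le_rfl).trans
      (commutator_le_left' (hKW.trans h1.norm)))).trans
    (le_pcore (nrm_inf_of_le_normalizer (hKW.trans h1.norm)) (isPGroup_of_le inf_le_right h3))
  have c4 := H2.centralizer_sup_of_commutator_le (hV.trans (inf_le_right.trans hK.norm))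
    (h.bd_cop (hV.trans inf_le_left) a) (Or.inr (h.bd_KT ha ha1).solv)
    (bd_comm (inf_le_right.trans hE.norm) (inf_le_right.trans hE.norm) (hK.le.trans hE.norm)
      (inf_le_right.trans hK.norm) c3)
  have c5 := h.le_N' h0 (hV.trans inf_le_left) hVA
    ((h.bd_KT ha ha1).inf (le_normalizer_centralizer hVA)) (inf_le_right.trans (cent_le_norm _))
  refine (h.fac a ha ha1).trans (sup_le (c4.trans (sup_le ?_ ?_)) le_sup_right)
  · exact le_sup_of_le_right (le_inf (inf_le_left.trans hK.le) c5)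
  · exact le_sup_of_le_left (core_le_core_of_nrm hK)

theorem bd_a2 {a : G} (ha : a ∈ A) (h1 : a ≠ 1) :
    ∃ B ≤ A, ♯B = r ^ 2 ∧ a ∉ B ∧ S ⊓ 𝐂(B) ≠ ⊥ := by
  by_contra hc
  push Not at hc
  refine h.bd_theta ha h1 (h.le_N (h.min.isT ha h1) (le_of_lines h.min h.mx.isT fun B hB h2 => ?_))
  by_cases h3 : a ∈ B
  · exact (inf_le_inf_left _ (cent_le_cent1 h3)).trans (h.mx.isT.le a ha h1)
  · exact (hc B hB h2 h3).le.trans bot_le

theorem bd_U {B : Subgroup G} {b : G} (hB : B ≤ A) (hb : b ∈ B) (h1 : b ≠ 1) :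
    S ⊓ 𝐂(B) ≤ S ⊓ θ b :=
  le_inf inf_le_left ((inf_le_inf_left _ (cent_le_cent1 hb)).trans (h.mx.isT.le b (hB hb) h1))

theorem bd_UA {B : Subgroup G} (hB : B ≤ A) : A ≤ 𝐍(S ⊓ 𝐂(B)) :=
  le_normalizer_inf h.mx.isT.inv (h.min.le_normalizer_cen hB)

theorem bd_cop2 {U D : Subgroup G} (hU : U ≤ S) (hD : D ≤ A) (hn : D ≤ 𝐍(U)) {b : G} (hb : b ∈ A)
    (h1 : b ≠ 1) : (♯(U ⊔ D)).Coprime ♯(core {q}ᶜ (θ b)) :=
  ((h.bd_cop hU b).mul_left (h.min.coprime hD (h.bd_KT hb h1))).coprime_dvd_left (card_sup_dvd hn)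

/-- Wielandt's formula for the index of `N` -/
theorem bd_wie {a b : G} {B : Subgroup G} (ha : a ∈ A) (h1 : a ≠ 1) (hB : B ≤ A) (h2 : ♯B = r ^ 2)
    (haB : a ∉ B) (h0 : S ⊓ 𝐂(B) ≠ ⊥) (hb : b ∈ B) (hb1 : b ≠ 1) :
    ∃ n, (nT A θ S).relIndex (core {q}ᶜ (θ b)) =
      (nT A θ S).relIndex (core {q}ᶜ (θ b) ⊓ 𝐂[a]) ^ n := by
  have hR : zpowers a ≤ A := zpowers_le.2 ha
  have hp : (♯(zpowers a)).Prime := by
    rw [Nat.card_zpowers, orderOf_eq_prime (h.min.exp a ha) h1]; exact Fact.out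
  have hU := h.bd_U hB hb hb1
  have hn := hR.trans (h.bd_UA hB)
  have hF : Frob (S ⊓ 𝐂(B)) (zpowers a) (S ⊓ 𝐂(B) ⊔ zpowers a) := by
    refine frob_of_semiReg (fun x hx hx1 => eq_bot_iff.2 (le_trans ?_ h.SA_bot.le)) hn h0
      (ne_bot_of_mem (mem_zpowers a) h1)
    have h3 : x ∉ B := fun h3 =>
      haB (zpowers_le.2 h3 ((eq_zpowers_of_card_prime hp hx hx1).ge (mem_zpowers a)))
    rw [inf_assoc, ← cent_zpowers, ← cent_sup]
    exact inf_le_inf_left _ (cent_anti (bd_sup h.min hB h2 (hR hx) h3))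
  have hw := (Frobenius_Wielandt_fixpoint hF (isSolvable_sup (isSolvable_of_le inf_le_left
    h.mx.isT.solv) (h.min.solvA hR) hn) (sup_le (hU.trans (inf_le_right.trans
    (core_nrm {q}ᶜ (θ b)).norm)) (hR.trans (h.bd_KT (hB hb) hb1).inv))
    (h.bd_cop2 inf_le_left hR hn (hB hb) hb1).symm (h.bd_KT (hB hb) hb1).solv).1
  rw [cent_sup, ← inf_assoc, ← h.K_inf_N (hB hb) hb1 h0 hU (h.bd_UA hB), cent_zpowers,
    inf_comm _ (nT A θ S), inf_assoc,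
    ← card_inf_mul_relIndex (nT A θ S) (core {q}ᶜ (θ b) ⊓ 𝐂[a])] at hw
  nth_rw 1 [← card_inf_mul_relIndex (nT A θ S) (core {q}ᶜ (θ b))] at hw
  refine ⟨♯(zpowers a), Nat.eq_of_mul_eq_mul_left (Nat.mul_pos (pow_pos
    (card_pos' (nT A θ S ⊓ (core {q}ᶜ (θ b) ⊓ 𝐂[a]))) ♯(zpowers a))
    (card_pos' (nT A θ S ⊓ core {q}ᶜ (θ b)))) ?_⟩
  rw [mul_assoc, hw]; ring

theorem bd_TW (hs : s ≠ q) {T : Subgroup G} (hT : MaxP r A θ s T) : T ≤ Wq q A θ :=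
  h.le_W hT.isT (piG_compl_of_isPGroup_ne hT.pgp hs)

/-- `W = T (W ∩ N)` -/
theorem bd_a (hs : s ≠ q) {Z T : Subgroup G} (h1 : Z ⊴ Wq q A θ) (h2 : A ≤ 𝐍(Z))
    (h3 : IsPGroup s Z) (h4 : Z ⊓ nT A θ S ≠ ⊥) (hT : MaxP r A θ s T) :
    IsProd (Wq q A θ) T (Wq q A θ ⊓ nT A θ S) := by
  obtain ⟨a, ha, ha1, hp⟩ := h.bd_a1 h1 h2 h3 h4
  obtain ⟨B, hB, hB2, haB, h0⟩ := h.bd_a2 ha ha1
  have hTW := h.bd_TW hs hT
  refine h.min.isProd_of_forall hB hB2 h.W_isT (hB.trans hT.isT.inv)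
    (hB.trans (le_normalizer_inf h.W_isT.inv h.N_isT.inv)) hTW inf_le_left fun b hb hb1 => ?_
  have hbA := hB hb
  have hE := isT_core h.min.toFn {s} (h.min.isT ha ha1)
  have c1 : IsProd (θ a ⊓ 𝐂[b]) (core {s} (θ a) ⊓ 𝐂[b]) (nT A θ S) := fun g hg => by
    obtain ⟨x, hx, y, hy, rfl⟩ := hp g hg.1
    obtain ⟨x', hx', y', hy', e⟩ := h.min.exists_cen_mul_cen (zpowers_le.2 hbA) hE h.N_isT.inv
      hx hy (by rw [cent_zpowers]; exact hg.2)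
    rw [cent_zpowers] at hx'
    exact ⟨x', hx', y', hy'.1, e⟩
  have c2 : core {q}ᶜ (θ b) ⊓ 𝐂[a] ⊴ θ a ⊓ 𝐂[b] :=
    ⟨le_inf ((inf_le_inf_right _ (core_le _ _)).trans (h.min.bal b hbA hb1 a ha ha1))
      (inf_le_left.trans ((core_le _ _).trans (h.min.cen b hbA hb1))),
      le_normalizer_inf ((h.min.bal a ha ha1 b hbA hb1).trans (core_nrm _ _).norm)
        (inf_le_left.trans ((h.min.cen a ha ha1).trans le_normalizer))⟩
  have c3 := bd_idx (nT A θ S) c2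
  rw [← (isProd_iff_relIndex (inf_le_inf_right _ (core_le _ _))).1 c1] at c3
  obtain ⟨n, hn⟩ := h.bd_wie ha ha1 hB hB2 haB h0 hb hb1
  have c4 : PiNum {s} ((nT A θ S).relIndex (θ b)) := by
    rw [← h.bd_idxK hbA hb1, hn]
    exact piNum_pow ((((core_piG {s} (θ a)).of_le inf_le_left).relIndex _).of_dvd c3) n
  intro g hg
  obtain ⟨x, hx, y, hy, rfl⟩ := bd_prod (syl_theta h.min hT hbA hb1) c4 g (h.W_isT.le b hbA hb1 hg)
  have hx' : x ∈ Wq q A θ ⊓ 𝐂[b] := ⟨hTW hx.1, h.min.cen b hbA hb1 hx.2⟩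
  have hy' := (mul_mem_cancel_left hx').1 hg
  exact ⟨x, ⟨hx.1, hx'.2⟩, y, ⟨⟨hy'.1, hy⟩, hy'.2⟩, rfl⟩

theorem bd_hz (hs : s ≠ q) (h0 : core {s} (Wq q A θ) ≠ ⊥) {T : Subgroup G} (hT : MaxP r A θ s T)
    (V : Subgroup G) (hV : IsT r A θ V) (hq : IsPGroup q V) (hc : V ≤ 𝐂(OZ s T)) : V = ⊥ := by
  by_contra hV0
  obtain ⟨c, hc1, hc2⟩ := exists_cj_le h.min h.mx hV hq
  have hT' : MaxP r A θ s (cj c T) := h.min.MaxP_conj hT hc1 h.min.ne_bot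
  have hV' : IsT r A θ (cj c V) := h.min.isT_conj hV hc1 h.min.ne_bot
  have hc' : cj c V ≤ 𝐂(OZ s (cj c T)) := by
    rw [← cj_OZ, ← cj_centralizer]; exact cj_mono c hc
  generalize cj c T = T' at hT' hc'
  set Z := OZ s (core {s} (Wq q A θ))
  have hTW := h.bd_TW hs hT'
  have hZ : Z ⊴ Wq q A θ :=
    ⟨(OZ_le _ _).trans (core_le _ _), (core_nrm _ _).norm.trans (norm_OZ _ _)⟩
  have hZA : A ≤ 𝐍(Z) := (le_normalizer_core _ h.W_isT.inv).trans (norm_OZ _ _)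
  have hZT : Z ≤ T' := (OZ_le _ _).trans (core_le_syl (syl_ge h.min hT' h.W_isT hTW))
  have c1 : Z ⊓ 𝐂(T') ≠ ⊥ := inf_ctr_ne_bot (isNilpotent_of_isPGroup hT'.pgp)
    (hZ.of_le hZT hTW) (OZ_ne_bot (core_isPGroup _) h0)
  have c2 : A ≤ 𝐍(Z ⊓ 𝐂(T')) := le_normalizer_inf hZA (le_normalizer_centralizer hT'.isT.inv)
  have c3 : Z ⊓ 𝐂(T') ≤ nT A θ S :=
    h.le_N' (fun e => hV0 (cj_eq_bot_iff.1 e)) hc2 hV'.inv
      (h.W_isT.mono (inf_le_left.trans hZ.le) c2)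
      (le_trans (b := OZ s T') (fun z hz => ⟨hZT hz.1, hz.2, hz.1.2.2⟩)
        ((cent_symm hc').trans (cent_le_norm _)))
  have c4 := h.bd_a hs hZ hZA (isPGroup_of_le hZT hT'.pgp)
    (ne_bot_of_le (le_inf inf_le_left c3) c1) hT'
  have c5 := ncl_eq_of_prod (D := Z ⊓ 𝐂(T')) c4
    ((cent_symm inf_le_right).trans (cent_le_norm _)) inf_le_left
  refine c1 (eq_bot_iff.2 ((le_ncl _ (Wq q A θ)).trans (h.bd_nrm
    ⟨ncl_le_of_le (inf_le_left.trans hZ.le), le_norm_ncl _ _⟩ (norm_ncl c2 h.W_isT.inv) ?_).le))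
  rw [c5]
  exact (ncl_le_of_le (le_inf (inf_le_left.trans hZ.le) c3)).trans inf_le_right

theorem bd_dvd (h0 : core {s} (Wq q A θ) ≠ ⊥) {B : Subgroup G} (hB : B ≤ A) (h2 : ♯B = r ^ 2) :
    ∃ b ∈ B, b ≠ 1 ∧ s ∣ (nT A θ S).relIndex (core {q}ᶜ (θ b)) := by
  by_contra hc
  push Not at hc
  have hZ := core_nrm {s} (Wq q A θ)
  have hZT := isT_core h.min.toFn {s} h.W_isT
  refine h0 (h.bd_nrm hZ hZT.inv (h.min.le_of_forall hB h2.ge hZT fun b hb hb1 => ?_))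
  have hbA := hB hb
  have c1 : IsProd (θ b) (Wq q A θ ⊓ θ b) (nT A θ S) := fun g hg =>
    let ⟨x, hx, y, hy, e⟩ := h.theta_prod hbA hb1 g hg
    ⟨x, hx, y, h.S_le_N hy.1, e⟩
  have c2 := bd_idx (nT A θ S) (hZ.inf_right (inf_le_left : Wq q A θ ⊓ θ b ≤ _))
  rw [(isProd_iff_relIndex inf_le_right).1 c1, ← h.bd_idxK hbA hb1] at c2
  have c3 := relIndex_eq_one.1 (piNum_eq_one (((core_piG _ _).of_le inf_le_left).relIndex _)
    ((piNum_compl_singleton Fact.out).2 fun e => hc b hb hb1 (e.trans c2)))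
  exact (le_inf inf_le_left (le_inf (inf_le_left.trans hZ.le) (hZT.le b hbA hb1))).trans c3

theorem bd_s : ∃ (s : ℕ) (_ : Fact s.Prime), s ≠ q ∧ core {s} (Wq q A θ) ≠ ⊥ := by
  obtain ⟨b, hb, hb1⟩ := exists_ne_one_of_ne_bot h.min.ne_bot
  have h1 : Wq q A θ ≠ ⊥ := fun e => h.bd_K hb hb1 ((h.K_le_W hb hb1).trans (e.le.trans bot_le))
  by_contra hc
  refine fit_ne_bot h.W_isT.solv h1 (eq_bot_iff.2 (fit_le_of_forall_pcore fun s hs => ?_))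
  by_contra h2
  have h3 : core {s} (Wq q A θ) ≠ ⊥ := fun e => h2 e.le
  exact hc ⟨s, hs, mem_of_piG_of_isPGroup (h.W_piG.of_le (core_le _ _)) (core_isPGroup _) h3, h3⟩

end Ab

theorem Ab.false (h : Ab r q A θ S) : False := by
  obtain ⟨s, hsp, hs, h0⟩ := h.bd_s
  obtain ⟨T, hT, -⟩ := (isT_bot (r := r) A θ).exists_maxP (p := s) IsPGroup.of_bot
  have hTW := h.bd_TW hs hT
  have hJ0 : JJ s T ≠ ⊥ := JJ_ne_bot (Or.inr rfl) hT.pgp
    (ne_bot_of_le (core_le_syl (syl_ge h.min hT h.W_isT hTW)) h0)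
  have hJ : IsT r A θ (JJ s T) :=
    hT.isT.mono (JJ_le T) (hT.isT.inv.trans (normalizer_le_normalizer_JJ T))
  have hL := h.min.isT_nT hJ hJ0
  obtain ⟨c, hc, hcS⟩ := h.min.exists_conj_sylow h.mx hL
  have hS' : MaxP r A θ q (cj c S) := h.min.MaxP_conj h.mx hc h.min.ne_bot
  rw [smul_eq_cj] at hcS
  have hP : Syl q (cj c S ⊓ nT A θ (JJ s T)) (nT A θ (JJ s T)) :=
    ⟨inf_le_right, isPGroup_of_le inf_le_left hS'.pgp, by rwa [inf_relIndex_right]⟩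
  have hCA := h.min.thB_le_cen le_rfl h.min.ne_bot
  have key : cj c S ≤ nT A θ (JJ s T) := le_of_lines h.min hS'.isT fun B hB h2 => by
    have e1 : ∀ d ∈ 𝐂(A), cj d 𝐂(B) = 𝐂(B) := fun d hd => cj_eq_of_mem (cent_anti hB hd)
    have e2 : cj c S ⊓ 𝐂(B) = cj c (S ⊓ 𝐂(B)) := by rw [cj_inf, e1 c (hCA hc)]
    by_cases hU : S ⊓ 𝐂(B) = ⊥
    · rw [e2, hU, cj_bot]; exact bot_le
    obtain ⟨b, hb, hb1, hd⟩ := h.bd_dvd h0 hB h2
    have hK := h.bd_KT (hB hb) hb1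
    have hUA := h.bd_UA hB
    obtain ⟨R, hR, hRn⟩ := exists_invariant_syl s (A := S ⊓ 𝐂(B) ⊔ A)
      (sup_le ((h.bd_U hB hb hb1).trans (inf_le_right.trans (core_nrm {q}ᶜ (θ b)).norm)) hK.inv)
      (h.bd_cop2 inf_le_left le_rfl hUA (hB hb) hb1) (Or.inr hK.solv)
    obtain ⟨d, hd1, hd2⟩ := h.jlem hs hT (h.bd_hz hs h0 hT)
      (hK.mono hR.le (le_sup_right.trans hRn)) hR.isPGroup hU inf_le_left hUA
      (le_sup_left.trans hRn) fun e => hR.not_dvd (hd.trans (relIndex_dvd_of_le_left _ e))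
    have hU' : IsT r A θ (cj d (S ⊓ 𝐂(B))) :=
      h.min.isT_conj (h.mx.isT.mono inf_le_left hUA) hd1 h.min.ne_bot
    obtain ⟨P, hP1, hP2, hP3⟩ := exists_invariant_syl_ge hL.inv (h.min.coprime le_rfl hL)
      (Or.inr hL.solv) (isPGroup_cj d (isPGroup_of_le inf_le_left h.mx.pgp))
      (h.min.le_nT hU' hd2) hU'.inv
    obtain ⟨e, he, he2⟩ := hP1.hall.exists_cent_cj_eq hP.hall hL.inv (h.min.coprime le_rfl hL)
      hL.solv hP3 (le_normalizer_inf hS'.isT.inv hL.inv)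
    have e3 := (cj_mono e hP2).trans he2.le
    have e4 : cj e (cj d (S ⊓ 𝐂(B))) ≤ cj c S ⊓ 𝐂(B) := le_inf (e3.trans inf_le_left) (by
      rw [cj_inf, cj_inf, e1 d (hCA hd1), e1 e he.2]; exact inf_le_right)
    rw [← eq_of_le_of_card_le e4 (by rw [e2, card_cj, card_cj, card_cj])]
    exact e3.trans inf_le_right
  refine hJ0 (cj_eq_bot_iff.1 (h.R_bot (R := cj c⁻¹ (JJ s T))
    (cj_le_of_le (inv_mem (h.C_le_W hc)) ((JJ_le T).trans hTW)) ?_))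
  rw [← cj_normalizer, ← cj_le_iff_le_cj_inv]
  exact key.trans (nT_le _ _ _)

end Cfsg.Agent.SG
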