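import Cfsg.Agent.SG.IX
import Cfsg.Agent.SG.IBd

/-! There is no minimal counterexample. -/

set_option autoImplicit false
set_option linter.unusedSectionVars false

namespace Cfsg.Agent.SG

open Subgroup Cfsg.Agent.FT Cfsg.Agent.SF Cfsg.Agent.H1
open scoped commutatorElement

universe u
variable {G : Type u} [Group G] [Finite G]

theorem not_min {r : ℕ} [Fact r.Prime] (A : Subgroup G) (θ : G → Subgroup G) : ¬ Min r A θ :=
  fun h => let ⟨_, _, _, h1⟩ := exists_ab h; h1.false

end Cfsg.Agent.SG
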