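import Cfsg.Agent.SF.D
import Cfsg.Agent.FT.Quo
import Cfsg.Agent.H1.Replacement
import Cfsg.Agent.H2.PU4

/-! Solvable signalizer functor theorem: vocabulary shared by the parts of the proof. -/

set_option autoImplicit false

namespace Cfsg.Agent.SG

open Subgroup Cfsg.Agent.FT Cfsg.Agent.SF
open scoped commutatorElement

variable {G : Type*} [Group G]

/-- the elements of the centre of `H` of order dividing `p` -/
def OZ (p : ℕ) (H : Subgroup G) : Subgroup G where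
  carrier := {z | z ∈ H ∧ z ∈ 𝐂(H) ∧ z ^ p = 1}
  one_mem' := ⟨one_mem _, one_mem _, one_pow p⟩
  mul_mem' := by
    rintro a b ⟨h1, h2, h3⟩ ⟨h4, h5, h6⟩
    refine ⟨mul_mem h1 h4, mul_mem h2 h5, ?_⟩
    rw [(show Commute a b from (mem_cent_iff.1 h5 a h1)).mul_pow, h3, h6, mul_one]
  inv_mem' := by
    rintro a ⟨h1, h2, h3⟩
    exact ⟨inv_mem h1, inv_mem h2, by rw [inv_pow, h3, inv_one]⟩

/-- `θ a = O_{q'}(θ a) (θ a ∩ X)` for all `a` -/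
def Fac (q : ℕ) (A : Subgroup G) (θ : G → Subgroup G) (X : Subgroup G) : Prop :=
  ∀ a ∈ A, a ≠ 1 → θ a ≤ core {q}ᶜ (θ a) ⊔ (θ a ⊓ X)

/-- `O_{q'}(θ)`, the largest `θ(A)`-invariant `θ`-subgroup of order prime to `q` -/
def Wq (q : ℕ) (A : Subgroup G) (θ : G → Subgroup G) : Subgroup G := cl A (thPi {q}ᶜ A θ)

/-- the minimal counterexample with an abelian maximal `θ`-`q`-subgroup `S` -/
structure Ab (r q : ℕ) (A : Subgroup G) (θ : G → Subgroup G) (S : Subgroup G) : Prop where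
  min : Min r A θ
  mx : MaxP r A θ q S
  ne : S ≠ ⊥
  ab : S ≤ 𝐂(S)
  fac : Fac q A θ (nT A θ S)
  qq : 5 ≤ q ∨ q = 2 ∧ ∀ a ∈ A, a ≠ 1 → PiG {2, 3} (θ a)

/-- `a` is a transvection on `V` -/
def tv (V : Subgroup G) (a : G) : Prop := (𝐂[a]).relIndex V = 2

/-- `[D, a] C_L(V)` -/
def Ta (V L D : Subgroup G) (a : G) : Subgroup G := ⁅D, zpowers a⁆ ⊔ (L ⊓ 𝐂(V))

/-- `[V, [D, a] C_L(V)]` -/
def Va (V L D : Subgroup G) (a : G) : Subgroup G := ⁅V, Ta V L D a⁆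

/-- `L` acts on the elementary abelian `2`-group `V`; modulo `K = C_L(V)`, `D` is a normal
subgroup of odd order on which the `2`-group `P` acts faithfully -/
structure TM0 (V L D P : Subgroup G) : Prop where
  ea : ∀ v ∈ V, v * v = 1
  nV : L ≤ 𝐍(V)
  DL : D ⊴ L
  KD : L ⊓ 𝐂(V) ≤ D
  odd : ∀ x ∈ D, ∃ n : ℕ, Odd n ∧ x ^ n ∈ 𝐂(V)
  PL : P ≤ L
  two : IsPGroup 2 P
  faith : ∀ x ∈ P, (∀ d ∈ D, ⁅x, d⁆ ∈ 𝐂(V)) → x ∈ 𝐂(V)

/-- the same with `D / K` a `3`-group -/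
structure TM (V L D P : Subgroup G) : Prop extends TM0 V L D P where
  three : ∀ x ∈ D, ∃ k : ℕ, x ^ 3 ^ k ∈ 𝐂(V)

/-- the amalgam hypothesis: `M / C_M(Z)` is symmetric of degree three, `Z = Ω Z O_2(M)` -/
structure R2 (M S : Subgroup G) : Prop where
  syl : Syl 2 S M
  idx : (core {2} M).relIndex S = 2
  cK : S ⊓ 𝐂(H2.PU.oz (core {2} M)) ≤ core {2} M
  gen : ∀ g ∈ M, g ∉ S ⊔ (M ⊓ 𝐂(H2.PU.oz (core {2} M))) → ∀ X : Subgroup G, S ≤ X → g ∈ X → M ≤ X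
  zi : (𝐂(S)).relIndex (H2.PU.oz (core {2} M)) = 2
  zc : ¬ ⁅H2.PU.oz (core {2} M), S⁆ ≤ 𝐂(M)
  nc : ∀ C : Subgroup G, C ≤ S → 𝐍(S) ≤ 𝐍(C) → M ≤ 𝐍(C) → C = ⊥

/-- the hypotheses of the local step for the primes `2, 3` -/
structure S1 (A B L P N M H : Subgroup G) : Prop where
  cop : (♯A).Coprime 6
  BA : B ≤ A
  sol : Group.IsSolvable L
  pi : PiG {2, 3} L
  AL : A ≤ 𝐍(L)
  syl : Syl 2 P L
  AP : A ≤ 𝐍(P)
  PN : P ≤ N
  NP : N ≤ 𝐍(P)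
  AN : A ≤ 𝐍(N)
  NB : N ≤ P ⊔ (N ⊓ 𝐂(B))
  AM : A ≤ 𝐍(M)
  PM : P ≤ M
  h3 : ∀ R : Subgroup G, R ≤ L → IsPGroup 3 R → P ≤ 𝐍(R) → R ≤ M
  hU : ∀ U : Subgroup G, U ≠ ⊥ → U ≤ P → A ≤ 𝐍(U) → N ≤ 𝐍(U) → L ⊓ 𝐍(U) ≤ M
  sH : Group.IsSolvable H
  LH : L ⊓ 𝐂(B) ≤ H
  NH : N ⊓ 𝐂(B) ≤ H

/-- a minimal counterexample to the local step -/
structure S2 (A B L P N M H : Subgroup G) : Prop extends S1 A B L P N M H where
  nle : ¬ L ≤ M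
  min : ∀ L' : Subgroup G, P ≤ L' → L' ≤ L → A ≤ 𝐍(L') → ¬ L' ≤ M → L ≤ L'

/-- `V = Ω Z O_2(L)` -/
abbrev VV (L : Subgroup G) : Subgroup G := H2.PU.oz (core {2} L)

/-- `D = O_{2,3}(L) C_L(V)` -/
def DD (L : Subgroup G) : Subgroup G := core2 {2} {3} L ⊔ (L ⊓ 𝐂(VV L))

theorem OZ_le (p : ℕ) (H : Subgroup G) : OZ p H ≤ H := fun _ h => h.1
theorem OZ_cent (p : ℕ) (H : Subgroup G) : OZ p H ≤ 𝐂(H) := fun _ h => h.2.1

theorem cj_OZ (p : ℕ) (g : G) (H : Subgroup G) : cj g (OZ p H) = OZ p (cj g H) := by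
  ext x
  change _ ↔ _ ∧ _ ∧ _
  rw [← cj_centralizer, mem_cj, mem_cj, mem_cj]
  refine and_congr_right fun _ => and_congr_right fun _ => ?_
  rw [show g⁻¹ * x * g = g⁻¹ * x * g⁻¹⁻¹ by rw [inv_inv], conj_pow, mul_inv_eq_one, mul_eq_left]

theorem norm_OZ (p : ℕ) (H : Subgroup G) : 𝐍(H) ≤ 𝐍(OZ p H) := fun g hg =>
  cj_eq_iff_mem_normalizer.1 (by rw [cj_OZ, cj_eq_iff_mem_normalizer.2 hg])

theorem OZ_ne_bot [Finite G] {p : ℕ} [hp : Fact p.Prime] {H : Subgroup G} (h : IsPGroup p H)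
    (h1 : H ≠ ⊥) : OZ p H ≠ ⊥ := by
  obtain ⟨x, hx, h2⟩ := exists_orderOf_eq_prime hp.out (dvd_card_of_isPGroup
    (isPGroup_of_le inf_le_left h) (ctr_ne_bot (isNilpotent_of_isPGroup h) h1))
  refine ne_bot_of_mem (x := x) ⟨hx.1, hx.2, by rw [← h2, pow_orderOf_eq_one]⟩ ?_
  rintro rfl
  rw [orderOf_one] at h2
  exact hp.out.one_lt.ne h2

theorem smul_eq_cj (c : G) (X : Subgroup G) :
    (open Pointwise in MulAut.conj c • X) = cj c X := rfl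

end Cfsg.Agent.SG
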