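import Cfsg.Agent.SG.Defs

/-! Section A: the amalgam argument, a variant of H2/PU4 (see notes/s0217_plan.md). -/

set_option autoImplicit false
set_option linter.unusedSectionVars false

namespace Cfsg.Agent.SG

open Subgroup Cfsg.Agent.FT Cfsg.Agent.SF Cfsg.Agent.H1 Cfsg.Agent.H2.PU
open scoped commutatorElement

universe u
variable {G : Type u} [Group G] [Finite G]

namespace AM

variable {M S T T' v w u : Subgroup G} {m : ℕ} {y t : ℕ → Subgroup G}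

/-- the centralizer of `Z_v` in `v` -/
abbrev Kv (v : Subgroup G) : Subgroup G := v ⊓ 𝐂(Zv v)

/-- Sylow subgroups different modulo `K_v` -/
def Nq (v T T' : Subgroup G) : Prop := T ⊔ Kv v ≠ T' ⊔ Kv v

theorem Nq.symm (h : Nq v T T') : Nq v T' T := Ne.symm h

theorem cj_Kv (g : G) (v : Subgroup G) : cj g (Kv v) = Kv (cj g v) := by
  rw [cj_inf, cj_centralizer, cj_Zv]

theorem K_nrm (v : Subgroup G) : Kv v ⊴ v := nrm_inf_centralizer (Z_nrm v).norm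

theorem nq_cj (g : G) : Nq (cj g v) (cj g T) (cj g T') ↔ Nq v T T' := by
  unfold Nq
  rw [← cj_Kv, ← cj_sup, ← cj_sup]
  exact not_congr ⟨fun e => by
    have := congrArg (cj g⁻¹) e
    rwa [cj_inv_cj, cj_inv_cj] at this, fun e => by rw [e]⟩

theorem nq_cj' {g : G} (hg : g ∈ v) : Nq v (cj g T) (cj g T') ↔ Nq v T T' := by
  rw [← nq_cj (T := T) g, cj_eq_of_mem hg]

theorem r_cj (h : R2 M S) (g : G) : R2 (cj g M) (cj g S) where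
  syl := h.syl.cj g
  idx := by rw [← cj_core, relIndex_cj]; exact h.idx
  cK := by rw [← cj_core, ← cj_oz, ← cj_centralizer, ← cj_inf]; exact cj_mono g h.cK
  gen k hk hn X h1 h2 := by
    rw [cj_le_iff_le_cj_inv] at h1 ⊢
    refine h.gen (g⁻¹ * k * g) (mem_cj.1 hk) (fun e => hn ?_) _ h1 ?_
    · change k ∈ cj g S ⊔ Kv (cj g M)
      rw [← cj_Kv, ← cj_sup, mem_cj]; exact e
    · rw [mem_cj, inv_inv]; simpa [mul_assoc] using h2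
  zi := by rw [← cj_core, ← cj_oz, ← cj_centralizer, relIndex_cj]; exact h.zi
  zc := by rw [← cj_core, ← cj_oz, ← cj_centralizer, ← cj_commutator, cj_le_cj_iff]; exact h.zc
  nc C h1 h2 h3 := by
    rw [← cj_eq_bot_iff (g := g⁻¹)]
    refine h.nc _ (by rw [cj_le_iff_le_cj_inv, inv_inv]; exact h1) ?_ ?_
    · rwa [← cj_normalizer, ← cj_le_iff_le_cj_inv, cj_normalizer]
    · rwa [← cj_normalizer, ← cj_le_iff_le_cj_inv]

theorem r_syl (h : R2 M S) (hT : Syl 2 T M) : R2 M T := by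
  obtain ⟨g, hg, rfl⟩ := hT.exists_cj_eq h.syl
  have := r_cj h g
  rwa [cj_eq_of_mem hg] at this

theorem r_vx (h : R2 M S) (hv : Vx M v) (hT : Syl 2 T v) : R2 v T := by
  obtain ⟨g, rfl⟩ := hv
  exact r_syl (r_cj h g) hT

theorem r_not_mem (h : R2 v T) : ∃ a ∈ T, a ∉ Qv v := by
  by_contra! hc
  have := h.idx
  rw [relIndex_eq_one.2 hc] at this
  omega

theorem r_oz_le (h : R2 M S) : oz S ≤ Zv M := fun _ hz =>
  have h1 := cent_anti (Q_le h.syl) hz.2.1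
  ⟨h.cK ⟨hz.1, cent_anti (Z_le_Q M) h1⟩, h1, hz.2.2⟩

theorem r_oz_ne (h : R2 M S) : oz S ≠ ⊥ :=
  oz_ne_bot h.syl.isPGroup fun e => by
    obtain ⟨a, ha, haQ⟩ := r_not_mem h
    exact haQ (by rw [mem_bot.1 (e.le ha)]; exact one_mem _)

theorem r_cZ (h : R2 M S) {X : Subgroup G} (hX : IsPGroup 2 X) (h1 : X ≤ M) (h2 : X ≤ 𝐂(Zv M)) :
    X ≤ Qv M := by
  obtain ⟨T, hT, h3⟩ := exists_syl_ge hX h1
  exact (le_inf h3 h2).trans (r_syl h hT).cK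

theorem idx_two {A B : Subgroup G} (h : A.relIndex B = 2) {a b : G} (ha : a ∈ B) (hb : b ∈ B)
    (h1 : a ∉ A) (h2 : b ∉ A) : a⁻¹ * b ∈ A :=
  (mul_mem_iff_of_index_two h (a := ⟨a⁻¹, inv_mem ha⟩) (b := ⟨b, hb⟩)).2
    (iff_of_false (fun e => h1 (inv_mem_iff.1 e)) h2)

theorem r_le (h : R2 v T) {X : Subgroup G} {a : G} (ha : a ∈ T) (haQ : a ∉ Qv v) (h1 : Qv v ≤ X)
    (h2 : a ∈ X) : T ≤ X := fun b hb => by
  by_cases h3 : b ∈ Qv v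
  · exact h1 h3
  · simpa using mul_mem h2 (h1 (idx_two h.idx ha hb haQ h3))

theorem r_comm (h : R2 v T) {a z : G} (ha : a ∈ T) (haQ : a ∉ Qv v) (hz : z ∈ Zv v)
    (hzT : z ∉ 𝐂(T)) : ⁅Zv v, T⁆ ≤ zpowers ⁅z, a⁆ := by
  refine commutator_le.2 fun x hx b hb => ?_
  by_cases h1 : x ∈ 𝐂(T)
  · rw [mem_cent_iff_comm.1 h1 b hb]; exact one_mem _
  by_cases h2 : b ∈ Qv v
  · rw [mem_cent_iff_comm.1 hx.2.1 b h2]; exact one_mem _
  have h3 := idx_two h.idx ha hb haQ h2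
  have h4 := idx_two h.zi hz hx hzT h1
  have e1 : ⁅x, b⁆ = ⁅x, a⁆ * (a * ⁅x, a⁻¹ * b⁆ * a⁻¹) := by
    simp only [commutatorElement_def]; group
  have e2 : ⁅x, a⁆ = z * ⁅z⁻¹ * x, a⁆ * z⁻¹ * ⁅z, a⁆ := by
    simp only [commutatorElement_def]; group
  rw [e1, mem_cent_iff_comm.1 hx.2.1 _ h3, e2, mem_cent_iff_comm.1 h4 a ha]
  simp

theorem r_not_cent (h : R2 v T) : ¬ Zv v ≤ 𝐂(T) := fun e => by
  have := h.zi
  rw [relIndex_eq_one.2 e] at this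
  omega

theorem r_c (h : R2 v T) {a : G} (ha : a ∈ T) (haQ : a ∉ Qv v) {z : G} (hz : z ∈ Zv v)
    (h1 : ⁅z, a⁆ ∈ 𝐂(v)) : z ∈ 𝐂(T) := by
  by_contra h2
  exact h.zc ((r_comm h ha haQ hz h2).trans (zpowers_le.2 h1))

theorem r_gen (h : R2 v T) (hT' : Syl 2 T' v) (hne : Nq v T T') {a : G} (ha : a ∈ T)
    (haQ : a ∉ Qv v) {X : Subgroup G} (h1 : T' ≤ X) (h2 : a ∈ X) : v ≤ X := by
  refine (r_syl h hT').gen a (h.syl.le ha) (fun e => hne ?_) X h1 h2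
  obtain ⟨g, hg, e1⟩ := hT'.exists_cj_eq h.syl
  refine eq_of_le_of_card_le (sup_le (r_le h ha haQ ((Q_le hT').trans le_sup_left) e)
    le_sup_right) ?_
  rw [← e1, ← (K_nrm v).cj_eq hg, ← cj_sup, card_cj, (K_nrm v).cj_eq hg]

theorem r_gen2 (h : R2 v T) (hT' : Syl 2 T' v) (hne : Nq v T T') {X : Subgroup G} (h1 : T ≤ X)
    (h2 : T' ≤ X) : v ≤ X :=
  let ⟨_, ha, haQ⟩ := r_not_mem h; r_gen h hT' hne ha haQ h2 (h1 ha)

theorem comm_K (hT : T ≤ v) : ⁅Zv v, T ⊔ Kv v⁆ = ⁅Zv v, T⁆ := by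
  refine le_antisymm (commutator_le.2 fun z hz x hx => ?_) (commutator_mono le_rfl le_sup_left)
  obtain ⟨a, ha, b, hb, rfl⟩ := (mem_sup_of_le_normalizer (hT.trans (K_nrm v).norm)).1 hx
  have e : ⁅z, a * b⁆ = ⁅z, a⁆ * (a * ⁅z, b⁆ * a⁻¹) := by simp only [commutatorElement_def]; group
  rw [e, mem_cent_iff_comm.1 (cent_symm inf_le_right hz) b hb]
  simpa using commutator_mem_commutator hz ha

theorem r_exists_moves (h : R2 v T) : ∃ g ∈ v, Nq v (cj g T) T := by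
  by_contra! hc
  obtain ⟨a, ha, haQ⟩ := r_not_mem h
  obtain ⟨z, hz, hzT⟩ := SetLike.not_le_iff_exists.1 (r_not_cent h)
  have h1 := r_comm h ha haQ hz hzT
  have h2 : ⁅z, a⁆ ∈ ⁅Zv v, T⁆ := commutator_mem_commutator hz ha
  have h3 : ⁅z, a⁆ * ⁅z, a⁆ = 1 :=
    (commutator_le_left' (h.syl.le.trans (Z_nrm v).norm) h2).2.2
  refine hzT (r_c h ha haQ hz (mem_cent_iff.2 fun g hg => ?_))
  have h4 : cj g ⁅Zv v, T⁆ = ⁅Zv v, T⁆ := by
    rw [cj_commutator, (Z_nrm v).cj_eq hg, ← comm_K (h.syl.cj_of_mem hg).le, not_not.1 (hc g hg),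
      comm_K h.syl.le]
  obtain ⟨k, hk⟩ := mem_zpowers_iff.1 (h1 (h4.le (conj_mem_cj h2)))
  have h5 : ⁅z, a⁆ ^ (2 : ℤ) = 1 := by rw [zpow_two, h3]
  rcases Int.even_or_odd' k with ⟨j, rfl | rfl⟩
  · rw [zpow_mul, h5, one_zpow, eq_comm, mul_inv_eq_one, mul_eq_left] at hk
    rw [hk, one_mul, mul_one]
  · rw [zpow_add_one, zpow_mul, h5, one_zpow, one_mul, eq_mul_inv_iff_mul_eq] at hk
    exact hk.symm

theorem r_moves (h : R2 v T) (hT' : Syl 2 T' v) (hne : Nq v T T') {a : G} (ha : a ∈ T)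
    (haQ : a ∉ Qv v) : Nq v (cj a T') T' := fun e => by
  obtain ⟨g, hg, h1⟩ := r_exists_moves (r_syl h hT')
  have h2 : v ≤ 𝐍(T' ⊔ Kv v) := r_gen h hT' hne ha haQ (le_sup_left.trans le_normalizer)
    (cj_eq_iff_mem_normalizer.1 (by rw [cj_sup, (K_nrm v).cj_eq (h.syl.le ha), e]))
  refine h1 ?_
  have := cj_eq_iff_mem_normalizer.2 (h2 hg)
  rwa [cj_sup, (K_nrm v).cj_eq hg] at this

theorem exists_crit (h : R2 M S) : ∃ k v w, Wk M k v w ∧ ¬ Zv v ≤ Qv w := by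
  by_contra! hc
  have hM : Vx M M := ⟨1, cj_one M⟩
  have key : ∀ g, Adj M M (H1.cj g M) → g ∈ 𝐍(⨆ (w) (_ : ∃ k, Wk M k M w), Zv w) := fun g hg => by
    refine mem_normalizer_of_cj_le (cj_le_iff_le_cj_inv.2 (iSup₂_le fun w ⟨k, hw⟩ => ?_))
    rw [← cj_le_iff_le_cj_inv, cj_Zv]
    exact le_iSup₂_of_le (H1.cj g w) ⟨k + 1, .cons hg (hw.cj g)⟩ le_rfl
  have := h.nc (⨆ (w) (_ : ∃ k, Wk M k M w), Zv w)
    (iSup₂_le fun w ⟨k, hw⟩ => (hc k w M hw.symm).trans (Q_le h.syl))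
    (fun g hg => key g ⟨hM, hM.cj g, S, h.syl, cj_eq_iff_mem_normalizer.2 hg ▸ h.syl.cj g⟩)
    (fun g hg => key g ⟨hM, hM.cj g, S, h.syl, (cj_eq_of_mem hg).symm ▸ h.syl⟩)
  exact r_oz_ne h (le_bot_iff.1 (((r_oz_le h).trans (le_iSup₂_of_le M ⟨0, .refl hM⟩ le_rfl)).trans this.le))

theorem crit_symm (h : Crit v w) (H : R2 M S) (hw : Vx M w) : Crit w v :=
  ⟨h.r, h.l, fun e => by
    obtain ⟨T, hT⟩ := exists_syl 2 w
    exact h.n (r_cZ (r_vx H hw hT) (isPGroup_of_le (Z_le_Q v) (core_isPGroup v)) h.l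
      (cent_symm (e.trans (Q_cent v))))⟩

structure Ctx (M S : Subgroup G) (m : ℕ) : Prop where
  H : R2 M S
  short : ∀ k < m, ∀ v w, Wk M k v w → Zv v ≤ Qv w

namespace Ctx
variable (c : Ctx M S m)
include c

theorem r (hv : Vx M v) (hT : Syl 2 T v) : R2 v T := r_vx c.H hv hT

theorem not_cent (hv : Vx M v) (hT : Syl 2 T v) : ¬ Zv v ≤ 𝐂(T) := r_not_cent (c.r hv hT)

theorem eq_syl (h : Crit v w) (_hv : Vx M v) (hw : Vx M w) (hT : Syl 2 T w) (h1 : Zv v ≤ T) :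
    Zv v ⊔ Qv w = T := by
  obtain ⟨a, ha, haQ⟩ := SetLike.not_le_iff_exists.1 h.n
  exact le_antisymm (sup_le h1 (Q_le hT))
    (r_le (c.r hw hT) (h1 ha) haQ le_sup_right (le_sup_left (b := Qv w) ha))


theorem comm_eq (h : Crit v w) (hv : Vx M v) (hw : Vx M w) (hT : Syl 2 T w) (h1 : Zv v ≤ T) :
    ⁅Zv w, T⁆ = ⁅Zv w, Zv v⁆ := by
  refine le_antisymm (commutator_le.2 fun z hz x hx => ?_) (commutator_mono le_rfl h1)
  rw [← c.eq_syl h hv hw hT h1] at hx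
  obtain ⟨a, ha, b, hb, rfl⟩ := (mem_sup_of_le_normalizer (h.l.trans (core_nrm _ w).norm)).1 hx
  have e : ⁅z, a * b⁆ = ⁅z, a⁆ * (a * ⁅z, b⁆ * a⁻¹) := by simp only [commutatorElement_def]; group
  rw [e, mem_cent_iff_comm.1 hz.2.1 b hb]
  simpa using commutator_mem_commutator hz ha

theorem a1 (h : Crit v w) (hv : Vx M v) (hw : Vx M w) {T₁ D : Subgroup G} (hT₁ : Syl 2 T₁ v)
    (hT : Syl 2 T v) (h1 : Zv w ≤ T) (hne : Nq v T₁ T) (hT' : Syl 2 T' w) (h2 : Zv v ≤ T')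
    (h3 : T₁ ≤ 𝐍(D)) (h4 : D ≤ T') : v ≤ 𝐍(D ⊔ Zv v) := by
  obtain ⟨a, ha, haQ⟩ := SetLike.not_le_iff_exists.1 (crit_symm h c.H hw).n
  refine r_gen (c.r hv hT) hT₁ hne.symm (h1 ha) haQ
    (le_normalizer_sup h3 (hT₁.le.trans (Z_nrm v).norm)) (le_normalizer_of_commutator_le ?_ ha)
  refine (commutator_mono (sup_le h4 h2) le_rfl).trans ?_
  rw [commutator_comm, c.comm_eq h hv hw hT' h2]
  exact (commutator_le_right' (h.r.trans (Z_nrm v).norm)).trans le_sup_right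

theorem a2 {d : Subgroup G} {k : ℕ} (hd : Vx M d) (h1 : Syl 2 T d) (h2 : Syl 2 T v)
    (h3 : v ≤ 𝐍(Zv d ⊔ Zv v)) (h4 : Wk M (k + 1) v u) (hk : k + 1 < m) : Zv d ≤ Qv u := by
  have h5 := c.short _ hk _ _ h4
  cases h4 with
  | cons a b =>
    obtain ⟨-, a1, T', a2, a3⟩ := a
    obtain ⟨g, hg, rfl⟩ := a2.exists_cj_eq h2
    have h6 := c.short _ hk _ _ (.cons ⟨hd.cj g, a1, _, h1.cj g, a3⟩ b)
    refine le_sup_left.trans ((cj_eq_iff_mem_normalizer.2 (h3 hg)).ge.trans ?_)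
    rw [cj_sup, cj_Zv, (Z_nrm v).cj_eq hg]
    exact sup_le h6 h5

end Ctx



namespace Ctx
variable {n : ℕ} (c : Ctx M S (n + 1))
include c

theorem Zl (p : Path M y t) (i : ℕ) : Zv (y i) ≤ t (i + n) :=
  (c.short n n.lt_succ_self _ _ (p.wk i n)).trans (Q_le (p.l _))

theorem Zr (p : Path M y t) (i : ℕ) : Zv (y (i + n + 1)) ≤ t i :=
  (c.short n n.lt_succ_self _ _ (p.wk' n (by ring)).symm).trans (Q_le (p.r _))

theorem crit (p : Path M y t) {i : ℕ} (h : ¬ Zv (y i) ≤ Qv (y (i + n + 1))) :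
    Crit (y i) (y (i + n + 1)) :=
  ⟨(c.Zl p i).trans (p.r _).le, (c.Zr p i).trans (p.l _).le, h⟩

end Ctx

namespace Ctx
variable {n : ℕ} (c : Ctx M S (n + 2))
include c

theorem notN (p : Path M y t) {i : ℕ} (h : ¬ Zv (y i) ≤ Qv (y (i + (n + 1) + 1))) :
    ¬ y (i + 1) ≤ 𝐍(Zv (y i) ⊔ Zv (y (i + 1))) := fun e =>
  h (c.a2 (p.vx i) (p.l i) (p.r i) e (p.wk' (n + 1) (by ring)) (by omega))

theorem extend (p : Path M y t) (h : ¬ Zv (y 0) ≤ Qv (y (0 + (n + 1) + 1))) :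
    ∃ d T, Vx M d ∧ Syl 2 T d ∧ Syl 2 T (y 0) ∧ Nq (y 0) T (t 0) ∧ ¬ Zv d ≤ Qv (y (n + 1)) := by
  obtain ⟨a, ha, hne⟩ := r_exists_moves (c.r (p.vx 0) (p.l 0))
  have h1 := (p.l 0).cj_of_mem ha
  obtain ⟨g, e1, e2⟩ := flag_trans (p.vx 1) (p.vx 0) (p.r 0) h1
  refine ⟨cj g (y 0), _, (p.vx 0).cj g, e2 ▸ (p.l 0).cj g, h1, hne, fun e => c.notN p h (nn_cj g ?_)⟩
  rw [e1]
  refine c.a1 (c.crit p h) (p.vx _) (p.vx _) h1 (p.l 0) (c.Zr p 0) hne (p.r _) (c.Zl p 0) ?_ ?_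
  · exact (e2 ▸ (p.l 0).cj g).le.trans (Z_nrm _).norm
  · rw [zero_add]; exact e.trans (Q_le (p.l _))

theorem long (h : ∃ v w, Wk M (n + 2) v w ∧ ¬ Zv v ≤ Qv w) (N : ℕ) :
    ∃ y t, Path M y t ∧ (∀ i ≤ N, ¬ Zv (y i) ≤ Qv (y (i + (n + 1) + 1))) ∧
      ∀ i < N, Nq (y (i + 1)) (t i) (t (i + 1)) := by
  induction N with
  | zero =>
    obtain ⟨v, w, h1, h2⟩ := h
    obtain ⟨y, t, p, rfl, rfl⟩ := h1.path
    refine ⟨y, t, p, fun i hi => ?_, fun i hi => absurd hi (Nat.not_lt_zero i)⟩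
    obtain rfl := Nat.le_zero.1 hi
    rwa [zero_add]
  | succ N ih =>
    obtain ⟨y, t, p, h1, h2⟩ := ih
    obtain ⟨d, T, a1, a2, a3, a4, a5⟩ := c.extend p (h1 0 N.zero_le)
    refine ⟨_, _, p.pre a1 a2 a3, fun i hi => ?_, fun i hi => ?_⟩
    · rcases i with _ | i
      · change ¬ Zv d ≤ Qv (y (0 + (n + 1)))
        rwa [zero_add]
      · change ¬ Zv (y i) ≤ Qv (y (i + 1 + (n + 1)))
        rw [add_right_comm]
        exact h1 i (by omega)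
    · rcases i with _ | i
      · exact a4
      · exact h2 i (by omega)

theorem step (p : Path M y t) {j : ℕ} {R : Subgroup G} (h1 : R ≤ oz (t j))
    (h2 : R ≤ 𝐂(Zv (y (j + 1 + (n + 1) + 1))))
    (h3 : ¬ Zv (y (j + 1)) ≤ Qv (y (j + 1 + (n + 1) + 1))) (h4 : Nq (y (j + 1)) (t j) (t (j + 1))) :
    R ≤ 𝐂(y (j + 1)) ∧ R ≤ oz (t (j + 1)) := by
  have h5 : R ≤ Zv (y (j + 1)) := h1.trans (r_oz_le (c.r (p.vx _) (p.r j)))
  have h6 : R ≤ 𝐂(t (j + 1)) := by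
    rw [← c.eq_syl (crit_symm (c.crit p h3) c.H (p.vx _)) (p.vx _) (p.vx _) (p.l _) (c.Zr p _), cent_sup]
    exact le_inf h2 (h5.trans (oz_cent _))
  exact ⟨cent_symm (r_gen2 (c.r (p.vx _) (p.r j)) (p.l _) h4 (cent_symm (h1.trans (oz_cent _)))
    (cent_symm h6)), fun x hx => ⟨Q_le (p.l _) (h5 hx).1, h6 hx, (h5 hx).2.2⟩⟩

end Ctx

theorem Ctx.three {k : ℕ} (c : Ctx M S (k + 1 + 2))
    (h : ∃ v w, Wk M (k + 1 + 2) v w ∧ ¬ Zv v ≤ Qv w) : False := by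
  obtain ⟨y, t, p, h1, h2⟩ := c.long h (k + 4)
  have cr := fun i hi => c.crit p (h1 i hi)
  have cs := fun i hi => crit_symm (cr i hi) c.H (p.vx _)
  set n := k + 1 + 1 with hn
  have e1 : ⁅Zv (y n), t n⁆ = ⁅Zv (y n), Zv (y (n + n + 1))⁆ :=
    c.comm_eq (cs n (by omega)) (p.vx _) (p.vx _) (p.l _) (c.Zr p _)
  set R := ⁅Zv (y n), Zv (y (n + n + 1))⁆ with hR
  have a1 : R ≤ Zv (y n) := commutator_le_left' ((cr n (by omega)).r.trans (Z_nrm _).norm)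
  have a2 : R ≤ Zv (y (n + n + 1)) := commutator_le_right' ((cr n (by omega)).l.trans (Z_nrm _).norm)
  have a3 : R ≤ oz (t n) := fun x hx => ⟨Q_le (p.l _) (a1 hx).1, by
    rw [← c.eq_syl (cs n (by omega)) (p.vx _) (p.vx _) (p.l _) (c.Zr p _), cent_sup]
    exact ⟨Z_cent _ (a2 hx), (a1 hx).2.1⟩, (a1 hx).2.2⟩
  obtain ⟨a4, a5⟩ := c.step p a3 (a2.trans ((c.short 1 (by omega) _ _ (p.wk' 1 (by ring))).trans
    (Q_cent _))) (h1 _ (by omega)) (h2 _ (by omega))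
  obtain ⟨a6, -⟩ := c.step p a5 (a2.trans ((c.short 2 (by omega) _ _ (p.wk' 2 (by ring))).trans
    (Q_cent _))) (h1 _ (by omega)) (h2 _ (by omega))
  obtain ⟨g, hg, e2⟩ := (p.l (n + 1)).exists_cj_eq (p.r n)
  have b1 : Syl 2 (t (n + 1)) (cj g (y n)) := e2 ▸ (p.l n).cj g
  have b2 : Vx M (cj g (y n)) := (p.vx n).cj g
  have b3 : ¬ Zv (cj g (y n)) ≤ Qv (y 1) := fun e => c.notN p (h1 n (by omega)) (nn_cj' hg (by
    have := c.a1 (cs 0 (by omega)) (p.vx _) (p.vx _) (T₁ := t (n + 1)) (D := Zv (cj g (y n)))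
      (by rw [zero_add]; exact p.l _) (p.r _) (c.Zl p 0) (by rw [zero_add]; exact (h2 n (by omega)).symm)
      (p.l 0) (c.Zr p 0) (b1.le.trans (Z_nrm _).norm) (e.trans (Q_le (p.r 0)))
    rwa [zero_add] at this))
  have b4 : Zv (y 1) ≤ t (n + 1) := by have := c.Zl p 1; rwa [add_comm] at this
  have b5 : Zv (cj g (y n)) ≤ t 1 := (c.short n (by omega) _ _ (.cons ⟨b2, p.vx _, _, b1, p.l _⟩
    (p.wk' (i := 2) (k + 1) (by omega)).symm)).trans (Q_le (p.r 1))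
  have b6 : Crit (cj g (y n)) (y 1) := ⟨b5.trans (p.l 1).le, b4.trans b1.le, b3⟩
  have b7 := c.comm_eq b6 b2 (p.vx 1) (p.l 1) b5
  have b8 := c.comm_eq (crit_symm b6 c.H (p.vx 1)) (p.vx 1) b2 b1 b4
  have b9 := c.comm_eq (cs 1 (by omega)) (p.vx _) (p.vx _) (p.l _) (c.Zr p _)
  have b10 := c.comm_eq (cr 1 (by omega)) (p.vx _) (p.vx _) (p.r _) (c.Zl p _)
  rw [add_comm 1 n] at b9 b10
  have b11 : ⁅Zv (y (n + 1 + 1)), t (n + 1)⁆ = R := by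
    rw [b10, commutator_comm, ← b9, b7, commutator_comm, ← b8, ← cj_Zv, ← e2, ← cj_commutator, e1]
    exact cj_eq_iff_mem_normalizer.2 (cent_le_norm _ (cent_symm a4 hg))
  obtain ⟨a, ha, haQ⟩ := r_not_mem (c.r (p.vx (n + 1 + 1)) (p.r _))
  exact c.not_cent (p.vx _) (p.r (n + 1)) fun z hz => r_c (c.r (p.vx _) (p.r _)) ha haQ hz
    (a6 (b11.le (commutator_mem_commutator hz ha)))

/-- the configuration for critical distance two -/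
structure B2 (M v u T : Subgroup G) : Prop where
  hv : Vx M v
  hu : Vx M u
  l : Syl 2 T v
  r : Syl 2 T u
  b : ∀ g ∈ v, Nq v (cj g T) T → ¬ Zv (cj g u) ≤ Qv u

theorem B2.cj (h : B2 M v u T) {g : G} (hg : g ∈ v) : B2 M v (cj g u) (cj g T) :=
  ⟨h.hv, h.hu.cj g, h.l.cj_of_mem hg, h.r.cj g, fun k hk hne e => by
    refine h.b (g⁻¹ * k * g) (mul_mem (mul_mem (inv_mem hg) hk) hg) ?_ ?_
    · rwa [← cj_mul, show k * g = g * (g⁻¹ * k * g) by group, cj_mul, nq_cj' hg] at hne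
    · rw [cj_mul, cj_mul, ← cj_Zv, cj_le_iff_le_cj_inv, inv_inv, cj_Qv]; exact e⟩

namespace Ctx
variable (c : Ctx M S 2)
include c

theorem ZQ (h : B2 M v u T) : Zv u ≤ Qv v :=
  c.short 1 (by omega) _ _ (Adj.wk ⟨h.hu, h.hv, T, h.r, h.l⟩)

theorem m2 (h : B2 M v u T) {g : G} (hg : g ∈ v) (hne : Nq v (cj g T) T) :
    ⁅Zv u, Zv (cj g u)⁆ ≤ 𝐂(v) ∧ ∀ z ∈ Zv u, z ∉ 𝐂(T) → z ∉ Qv (cj g u) := by
  have h' := h.cj hg
  have a1 : Zv (cj g u) ≤ T := (c.ZQ h').trans (Q_le h.l)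
  have a2 : Zv u ≤ cj g T := (c.ZQ h).trans (Q_le h'.l)
  have cr : Crit (cj g u) u := ⟨a1.trans h.r.le, a2.trans h'.r.le, h.b g hg hne⟩
  have a3 : ⁅Zv u, Zv (cj g u)⁆ ≤ Zv u := commutator_le_left' (cr.l.trans (Z_nrm _).norm)
  have a4 : ⁅Zv u, Zv (cj g u)⁆ ≤ Zv (cj g u) := commutator_le_right' (cr.r.trans (Z_nrm _).norm)
  refine ⟨cent_symm (r_gen2 (c.r h.hv h'.l) h.l hne (cent_symm ?_) (cent_symm ?_)), fun z hz h1 h2 => ?_⟩
  · rw [← c.eq_syl (crit_symm cr c.H h.hu) h.hu h'.hu h'.r a2, cent_sup]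
    exact le_inf (a3.trans (Z_cent _)) (a4.trans (oz_cent _))
  · rw [← c.eq_syl cr h'.hu h.hu h.r a1, cent_sup]
    exact le_inf (a4.trans (Z_cent _)) (a3.trans (oz_cent _))
  · obtain ⟨a, ha, haQ⟩ := SetLike.not_le_iff_exists.1 cr.n
    exact h1 (r_c (c.r h.hu h.r) (a1 ha) haQ hz
      (by rw [mem_cent_iff_comm.1 (Q_cent _ h2) a ha]; exact one_mem _))

theorem two' (h1 : B2 M v u T) (h2 : B2 M u v T) : False := by
  obtain ⟨g, hg, hgT⟩ := r_exists_moves (c.r h1.hv h1.l)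
  obtain ⟨k, hk, hkT⟩ := r_exists_moves (c.r h2.hv h2.l)
  have h1' := h1.cj hg
  have h2' := h2.cj hk
  obtain ⟨z, hz, hzT⟩ := SetLike.not_le_iff_exists.1 (c.not_cent h1'.hu h1'.r)
  obtain ⟨a, ha, haQ⟩ := SetLike.not_le_iff_exists.1 (h2.b k hk hkT)
  have haT : a ∈ T := Q_le h1.r (c.ZQ h2' ha)
  have hzT' : z ∈ T := Q_le h1.l (c.ZQ h1' hz)
  have hav := h1.l.le haT
  have b1 : Nq v (cj a (cj g T)) (cj g T) := r_moves (c.r h1.hv h1.l) h1'.l hgT.symm haT haQ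
  have b2 : z ∉ Qv u := by
    have := (c.m2 h1' (inv_mem hg) (by rw [cj_inv_cj]; exact hgT.symm)).2 z hz hzT
    rwa [cj_inv_cj] at this
  have b3 : Nq u (cj z (cj k T)) (cj k T) := r_moves (c.r h2.hv h2.l) h2'.l hkT.symm hzT' b2
  have b4 : a * z * a⁻¹ ∈ Zv (cj a (cj g u)) := cj_Zv a _ ▸ conj_mem_cj hz
  have b5 : z * a * z⁻¹ ∈ Zv (cj z (cj k v)) := cj_Zv z _ ▸ conj_mem_cj ha
  have b6 := (c.m2 h1' hav b1).1 (commutator_mem_commutator hz b4)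
  have b7 := (c.m2 h2' (h2.l.le hzT') b3).1 (commutator_mem_commutator ha b5)
  have iz : z⁻¹ = z := inv_eq_of_mul_eq_one_right hz.2.2
  have ia : a⁻¹ = a := inv_eq_of_mul_eq_one_right ha.2.2
  have b8 : ⁅z, a * z * a⁻¹⁆ = ⁅a, z * a * z⁻¹⁆⁻¹ := by
    simp only [commutatorElement_def, mul_inv_rev, iz, ia, mul_assoc]
  have b9 : ⁅z, a * z * a⁻¹⁆ ∈ 𝐂(cj g u) := by
    rw [← cj_centralizer, mem_cj, mul_assoc, ← mem_cent_iff.1 b6 g hg, inv_mul_cancel_left, b8]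
    exact inv_mem b7
  have b10 : a * z * a⁻¹ ∉ Qv (cj g u) := by
    have := (c.m2 (h1'.cj hav) (inv_mem hav) (by rw [cj_inv_cj]; exact b1.symm)).2 _ b4
      (by rwa [← cj_centralizer, conj_mem_cj_iff])
    rwa [cj_inv_cj] at this
  exact hzT (r_c (c.r h1'.hu h1'.r) (Q_le h1'.l (c.ZQ (h1'.cj hav) b4)) b10 hz b9)

theorem two (h : ∃ v w, Wk M 2 v w ∧ ¬ Zv v ≤ Qv w) : False := by
  obtain ⟨y, t, p, h1, -⟩ := Ctx.long (n := 0) c h 1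
  have cr := fun i hi => Ctx.crit (n := 1) c p (h1 i hi)
  have cs := fun i hi => crit_symm (cr i hi) c.H (p.vx _)
  refine c.two' (v := y 1) (u := y 2) (T := t 1) ⟨p.vx _, p.vx _, p.l _, p.r _, fun g hg hne e => ?_⟩
    ⟨p.vx _, p.vx _, p.r _, p.l _, fun g hg hne e => ?_⟩
  · refine (cs 0 (by omega)).n (c.a2 (k := 0) (p.vx 2) (p.r 1) (p.l 1) (nn_cj' hg ?_)
      (p.adj 0).symm.wk (by omega))
    exact c.a1 (cr 1 le_rfl) (p.vx _) (p.vx _) ((p.l 1).cj_of_mem hg) (p.l 1) (Ctx.Zr (n := 1) c p 1)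
      hne (p.r 2) (Ctx.Zl (n := 1) c p 1) (((p.r 1).cj g).le.trans (Z_nrm _).norm)
      (e.trans (Q_le (p.l 2)))
  · refine (cr 1 le_rfl).n (c.a2 (k := 0) (p.vx 1) (p.l 1) (p.r 1) (nn_cj' hg ?_)
      (p.adj 2).wk (by omega))
    exact c.a1 (cs 0 (by omega)) (p.vx _) (p.vx _) ((p.r 1).cj_of_mem hg) (p.r 1)
      (Ctx.Zl (n := 1) c p 0) hne (p.l 0) (Ctx.Zr (n := 1) c p 0)
      (((p.l 1).cj g).le.trans (Z_nrm _).norm) (e.trans (Q_le (p.r 0)))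

end Ctx

theorem Ctx.one (c : Ctx M S 1) (h : ∃ v w, Wk M 1 v w ∧ ¬ Zv v ≤ Qv w) :
    ⁅pResidualOf 2 M, Qv M⁆ ≤ Zv M := by
  obtain ⟨v, w, h1, h2⟩ := h
  obtain ⟨y, t, p, rfl, rfl⟩ := h1.path
  have cr := Ctx.crit (n := 0) c p (i := 0) h2
  have a1 := c.comm_eq cr (p.vx _) (p.vx _) (p.r 0) (Ctx.Zl (n := 0) c p 0)
  have nK : y 0 ⊓ cm (Zv (y 0)) (Qv (y 0)) ⊴ y 0 := nrm_inf_of_le_normalizer fun g hg =>
    cj_eq_iff_mem_normalizer.1 (by rw [cj_cm ((Z_nrm _).norm hg), (core_nrm _ _).cj_eq hg])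
  have a3 : Zv (y 1) ≤ y 0 ⊓ cm (Zv (y 0)) (Qv (y 0)) := fun z hz => ⟨cr.r hz, (Z_nrm _).norm (cr.r hz),
    fun b hb => commutator_le_right' (cr.r.trans (Z_nrm _).norm)
      (a1.le (commutator_mem_commutator hz (Q_le (p.l 0) hb)))⟩
  obtain ⟨a, ha, haQ⟩ := SetLike.not_le_iff_exists.1 (crit_symm cr c.H (p.vx _)).n
  obtain ⟨g, hg, hm⟩ := r_exists_moves (c.r (p.vx 0) (p.l 0))
  have b1 := r_le (c.r (p.vx 0) (p.l 0)) (Ctx.Zr (n := 0) c p 0 ha) haQ le_sup_right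
    (le_sup_left (b := Qv (y 0)) (a3 ha))
  have a4 := L_le_of_sup nK.norm (core_isPGroup _) (core_le _ _) ((pResidualOf_le _).trans
    (r_gen2 (c.r (p.vx 0) (p.l 0)) ((p.l 0).cj_of_mem hg) hm.symm b1
      ((cj_mono g b1).trans ((nK.sup (core_nrm _ _)).cj_eq hg).le)))
  have a5 : ⁅pResidualOf 2 (y 0), Qv (y 0)⁆ ≤ Zv (y 0) :=
    commutator_le.2 fun a ha b hb => (a4 ha).2.2 b hb
  obtain ⟨g, hg⟩ := p.vx 0
  rwa [← hg, ← H1.cj_pResidualOf, ← cj_Qv, ← cj_Zv, ← cj_commutator, cj_le_cj_iff] at a5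

theorem main (h : R2 M S) : ⁅pResidualOf 2 M, Qv M⁆ ≤ Zv M := by
  classical
  have ex := exists_crit h
  have h1 := Nat.find_spec ex
  have h2 : ∀ k < Nat.find ex, ∀ v w, Wk M k v w → Zv v ≤ Qv w := fun k hk v w a => by
    by_contra b
    exact Nat.find_min ex hk ⟨v, w, a, b⟩
  generalize Nat.find ex = m at h1 h2
  rcases m with _ | n
  · obtain ⟨v, w, a, b⟩ := h1
    cases a
    exact absurd (Z_le_Q _) b
  have c : Ctx M S (n + 1) := ⟨h, h2⟩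
  rcases n with _ | _ | k
  · exact c.one h1
  · exact (c.two h1).elim
  · exact (c.three h1).elim

end AM

theorem R2.main {M S : Subgroup G} (h : R2 M S) :
    ⁅pResidualOf 2 M, core {2} M⁆ ≤ H2.PU.oz (core {2} M) := AM.main h

end Cfsg.Agent.SG
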