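import Cfsg.Agent.SG.Defs
import Cfsg.Agent.FT.P.BG01

/-! Section T: tools (see notes/s0217_plan.md). -/

set_option autoImplicit false
set_option linter.unusedSectionVars false

namespace Cfsg.Agent.SG

open Subgroup Cfsg.Agent.FT Cfsg.Agent.SF Cfsg.Agent.H1
open Cfsg.Agent.H2 (le_normalizer_inf le_normalizer_sup PiNum)
open scoped commutatorElement

universe u
variable {G : Type u} [Group G] [Finite G]

/-- a `q'`-subgroup normalized by a Sylow `q`-subgroup of a solvable group lies in `O_{q'}` -/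
theorem le_core_of_syl {q : ℕ} [Fact q.Prime] {H P R : Subgroup G} (hs : Group.IsSolvable H)
    (hP : Syl q P H) (hR : R ≤ H) (h1 : PiG {q}ᶜ R) (h2 : P ≤ 𝐍(R)) : R ≤ core {q}ᶜ H := by
  have hn := (core_nrm {q}ᶜ H).norm
  have h4 : bar (core {q}ᶜ H) R ≤ 𝐂(core {q} (bar (core {q}ᶜ H) H)) :=
    commute_of_coprime ((bar_mono _ hR).trans (core_nrm _ _).norm)
      ((core_le_syl (hP.bar hn)).trans (bar_le_normalizer _ h2))
      (piNum_coprime' (h1.bar _) (core_piG _ _))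
  have h5 := (le_inf (bar_mono _ hR) h4).trans
    (cent_pcore_le (isSolvable_bar hs _) (core_bar_core _ _))
  exact (bar_eq_bot_iff (hR.trans hn)).1 (((core_piG _ _).of_le h5).eq_bot (h1.bar _))

variable {r q : ℕ} [Fact r.Prime] [Fact q.Prime] {A : Subgroup G} {θ : G → Subgroup G}

theorem syl_inf (h : Min r A θ) {S H : Subgroup G} (hS : MaxP r A θ q S) (hH : IsT r A θ H)
    (hC : thB θ A ≤ 𝐍(H)) : Syl q (S ⊓ H) H :=
  ⟨inf_le_right, hS.pgp.to_inf_left, by rw [inf_relIndex_right]; exact h.sylow_of_le hS hH hC⟩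

theorem syl_theta (h : Min r A θ) {S : Subgroup G} (hS : MaxP r A θ q S) {a : G} (ha : a ∈ A)
    (h1 : a ≠ 1) : Syl q (S ⊓ θ a) (θ a) :=
  syl_inf h hS (h.toFn.isT ha h1) ((thB_le ha h1).trans le_normalizer)

theorem syl_ge (h : Min r A θ) {S H : Subgroup G} (hS : MaxP r A θ q S) (hH : IsT r A θ H)
    (hSH : S ≤ H) : Syl q S H := ⟨hSH, hS.pgp, h.sylow_of_ge hS hH hSH⟩

theorem maxP_of_syl (h : Min r A θ) {S X P : Subgroup G} (hS : MaxP r A θ q S) (hX : IsT r A θ X)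
    (hSX : S ≤ X) (hP : Syl q P X) (hA : A ≤ 𝐍(P)) : MaxP r A θ q P := by
  obtain ⟨T, hT, h1⟩ := (hX.mono hP.le hA).exists_maxP hP.isPGroup
  obtain ⟨c, -, rfl⟩ := h.transitivity hS hT
  rwa [eq_of_le_of_card_le h1 (by rw [smul_eq_cj, card_cj, (syl_ge h hS hX hSX).card_eq hP])]

/-- every `θ`-`q`-subgroup has a `θ(A)`-conjugate in `S` -/
theorem exists_cj_le (h : Min r A θ) {S V : Subgroup G} (hS : MaxP r A θ q S) (hV : IsT r A θ V)
    (hq : IsPGroup q V) : ∃ c ∈ thB θ A, cj c V ≤ S := by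
  obtain ⟨T, hT, h1⟩ := hV.exists_maxP hq
  obtain ⟨c, hc, rfl⟩ := h.transitivity hT hS
  exact ⟨c, hc, cj_mono c h1⟩

/-- a subgroup containing `θ(B)` for all lines `B` contains every `θ`-subgroup -/
theorem le_of_lines (h : Min r A θ) {X L : Subgroup G} (hX : IsT r A θ X)
    (hL : ∀ B ≤ A, ♯B = r ^ 2 → X ⊓ 𝐂(B) ≤ L) : X ≤ L :=
  h.toFn.le_of_forall_hyp le_rfl h.ne_bot hX fun B hB e => hL B hB
    (Nat.eq_of_mul_eq_mul_right (Fact.out : r.Prime).pos (by rw [← e, h.card, pow_succ]))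

/-- the normal closure of `D` under `Y` -/
def ncl (D Y : Subgroup G) : Subgroup G := ⨆ g ∈ Y, cj g D

theorem cj_le_ncl (D : Subgroup G) {Y : Subgroup G} {g : G} (hg : g ∈ Y) : cj g D ≤ ncl D Y :=
  le_iSup₂_of_le g hg le_rfl

theorem le_ncl (D Y : Subgroup G) : D ≤ ncl D Y := (cj_one D).ge.trans (cj_le_ncl D (one_mem Y))

theorem ncl_le {D Y M : Subgroup G} (h : ∀ g ∈ Y, cj g D ≤ M) : ncl D Y ≤ M := iSup₂_le h

theorem ncl_le_of_le {D Y : Subgroup G} (h : D ≤ Y) : ncl D Y ≤ Y :=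
  ncl_le fun _ hg => cj_le_of_le hg h

theorem le_norm_ncl (D Y : Subgroup G) : Y ≤ 𝐍(ncl D Y) := fun n hn =>
  mem_normalizer_of_cj_le (cj_le_iff_le_cj_inv.2 (ncl_le fun g hg => cj_le_iff_le_cj_inv.1 (by
    rw [← cj_mul]; exact cj_le_ncl D (mul_mem hn hg))))

theorem norm_ncl {D Y X : Subgroup G} (h1 : X ≤ 𝐍(D)) (h2 : X ≤ 𝐍(Y)) : X ≤ 𝐍(ncl D Y) :=
  fun n hn => mem_normalizer_of_cj_le (cj_le_iff_le_cj_inv.2 (ncl_le fun g hg =>
    cj_le_iff_le_cj_inv.1 (by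
      rw [← cj_mul, show n * g = n * g * n⁻¹ * n by group, cj_mul,
        cj_eq_iff_mem_normalizer.2 (h1 hn)]
      exact cj_le_ncl D (H2.conj_mem_of_le_normalizer h2 hn hg))))

theorem ncl_eq_of_prod {D L N Y : Subgroup G} (h : IsProd L N Y) (hN : N ≤ 𝐍(D)) (hY : Y ≤ L) :
    ncl D L = ncl D Y :=
  le_antisymm (ncl_le fun g hg => by
    obtain ⟨y, hy, n, hn, rfl⟩ := h.symm g hg
    rw [cj_mul, cj_eq_iff_mem_normalizer.2 (hN hn)]
    exact cj_le_ncl D hy) (ncl_le fun g hg => cj_le_ncl D (hY hg))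

theorem line_ne_bot {B : Subgroup G} (hB : ♯B = r ^ 2) : B ≠ ⊥ :=
  one_lt_card.1 (hB ▸ Nat.one_lt_pow (by decide) (Fact.out : r.Prime).one_lt)

/-- a product decomposition along a line -/
theorem prod_of_line (h : Fn r A θ) {N L B : Subgroup G} {K : G → Subgroup G} (hB : B ≤ A)
    (h2 : ♯B = r ^ 2) (hN : A ≤ 𝐍(N)) (hL : IsT r A θ L)
    (hK : ∀ a ∈ B, a ≠ 1 → K a ⊴ θ a ∧ A ≤ 𝐍(K a) ∧ K a ≤ L ∧ θ a ≤ K a ⊔ (θ a ⊓ N)) :
    IsProd L (L ⊓ N) (cl B K) := by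
  refine h.isProd_of_forall hB h2 hL (hB.trans (le_normalizer_inf hL.inv hN))
    (le_normalizer_cl fun b hb h1 => hB.trans (hK b hb h1).2.1) inf_le_left
    (cl_le fun b hb h1 => (hK b hb h1).2.2.1) fun b hb h1 => IsProd.symm fun g hg => ?_
  obtain ⟨a1, -, a3, a4⟩ := hK b hb h1
  obtain ⟨k, hk, n, hn, rfl⟩ := (mem_sup_iff_of_le_normalizer' (inf_le_left.trans a1.norm)).1
    (a4 (hL.le b (hB hb) h1 hg))
  exact ⟨k, ⟨le_cl hb h1 hk, h.cen b (hB hb) h1 (a1.le hk)⟩, n,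
    ⟨⟨(mul_mem_cancel_left (a3 hk)).1 hg.1, hn.2⟩, h.cen b (hB hb) h1 hn.1⟩, rfl⟩

/-- the key lemma KL -/
theorem kl (h : Min r A θ) {N L D : Subgroup G} {K : G → Subgroup G} (hN : IsT r A θ N)
    (hL : IsT r A θ L) (hD : D ≠ ⊥) (hDN : D ⊴ N) (hAD : A ≤ 𝐍(D)) (hDL : D ≤ L)
    (hK : ∀ a ∈ A, a ≠ 1 → K a ⊴ θ a ∧ A ≤ 𝐍(K a) ∧ K a ≤ L ∧ θ a ≤ K a ⊔ (θ a ⊓ N)) : False := by
  have hE : IsT r A θ (ncl D L) := hL.mono (ncl_le_of_le hDL) (norm_ncl hAD hL.inv)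
  refine h.ncomp ⟨_, h.isT_nT hE (ne_bot_of_le (le_ncl D L) hD), fun a ha h1 =>
    le_of_lines h (h.toFn.isT ha h1) fun B hB h2 => ((h.toFn.isT ha h1).inf_le_thB hB).trans
      (h.le_nT (h.toFn.isT_thB hB (line_ne_bot h2)) fun x hx => ?_)⟩
  obtain ⟨b, hb, h3⟩ := exists_ne_one_of_ne_bot (line_ne_bot h2)
  obtain ⟨a1, a2, a3, a4⟩ := hK b (hB hb) h3
  obtain ⟨k, hk, n, hn, rfl⟩ := (mem_sup_iff_of_le_normalizer' (inf_le_left.trans a1.norm)).1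
    (a4 (thB_le hb h3 hx))
  obtain ⟨k', hk', n', hn', e⟩ := h.toFn.exists_cen_mul_cen hB
    ((h.toFn.isT (hB hb) h3).mono a1.le a2) (le_normalizer_inf (h.inv b (hB hb) h3) hN.inv) hk hn
    (h.toFn.thB_le_cen hB (line_ne_bot h2) hx)
  rw [e]
  refine mul_mem (le_norm_ncl D L (a3 hk'.1)) ?_
  rw [ncl_eq_of_prod (prod_of_line h.toFn hB h2 hN.inv hL fun a ha => hK a (hB ha))
    (inf_le_right.trans hDN.norm) (cl_le fun a ha h1 => (hK a (hB ha) h1).2.2.1)]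
  exact norm_ncl (X := N ⊓ thB θ B) (inf_le_left.trans hDN.norm) (inf_le_right.trans
    (le_normalizer_cl fun a ha h1 => (thB_le ha h1).trans (hK a (hB ha) h1).1.norm))
    ⟨hn'.1.2, (h.toFn.isT (hB hb) h3).inf_le_thB hB ⟨hn'.1.1, hn'.2⟩⟩

theorem piNum_relIndex_sup {π : Set ℕ} {M R : Subgroup G} (h : R ≤ 𝐍(M)) (hR : PiG π R) :
    PiNum π (M.relIndex (M ⊔ R)) :=
  (piG_bar_iff (nrm_sup_left h).norm).1 (by rw [bar_self_sup h]; exact hR.bar _)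

/-- the largest `D`-invariant subgroup of `H` of `π`-index over `M` -/
def phi (π : Set ℕ) (D M H : Subgroup G) : Subgroup G :=
  sSup {Y | Y ≤ H ∧ D ≤ 𝐍(Y) ∧ PiNum π (M.relIndex Y)}

theorem phi_le (π : Set ℕ) (D M H : Subgroup G) : phi π D M H ≤ H := sSup_le fun _ h => h.1

theorem le_phi {π : Set ℕ} {D M H Y : Subgroup G} (h1 : Y ≤ H) (h2 : D ≤ 𝐍(Y))
    (h3 : PiNum π (M.relIndex Y)) : Y ≤ phi π D M H := le_sSup ⟨h1, h2, h3⟩

theorem norm_phi (π : Set ℕ) (D M H : Subgroup G) : D ≤ 𝐍(phi π D M H) := fun d hd =>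
  mem_normalizer_of_cj_le (cj_le_iff_le_cj_inv.2 (sSup_le fun Y hY => cj_le_iff_le_cj_inv.1 (by
    rw [cj_eq_iff_mem_normalizer.2 (hY.2.1 hd)]; exact le_sSup hY)))

theorem piNum_phi {π : Set ℕ} {D M H : Subgroup G} (hA : A ≤ 𝐍(H)) (hc : (♯A).Coprime ♯H)
    (hs : Group.IsSolvable H) (hAD : A ≤ D) (hD : H ⊓ 𝐂(A) ≤ D) (hM : M ⊴ H) :
    PiNum π (M.relIndex (phi π D M H)) := by
  obtain ⟨R, hR, hAR⟩ := exists_invariant_hall π hA hc hs
  refine (piNum_relIndex_sup (hR.le.trans hM.norm) hR.piG).of_dvd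
    (relIndex_dvd_of_nrm (nrm_sup_left (hR.le.trans hM.norm)).norm (sSup_le fun Y hY => ?_))
  obtain ⟨R₁, h1, h2⟩ := exists_invariant_hall π (hAD.trans hY.2.1)
    (hc.coprime_dvd_right (card_dvd_of_le' hY.1)) (H2.isSolvable_of_le hY.1 hs)
  obtain ⟨R₂, h3, h4, h5⟩ := exists_invariant_hall_ge hA hc hs (h1.le.trans hY.1) h1.piG h2
  obtain ⟨c, hc, rfl⟩ := h3.exists_cent_cj_eq hR hA hc hs h5 hAR
  rw [← cj_eq_iff_mem_normalizer.2 (hY.2.1 (hD hc)), ← h1.sup_eq_of_relIndex (N := M ⊓ Y)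
    inf_le_right (by rw [inf_relIndex_right]; exact hY.2.2), cj_sup, sup_comm]
  exact sup_le_sup ((cj_mono c inf_le_left).trans (hM.cj_eq hc.1).le) (cj_mono c h4)

/-- the completion of the functor `φ_D` -/
theorem exists_phi (h : Min r A θ) {S N D : Subgroup G} (hS : MaxP r A θ q S) (hN : IsT r A θ N)
    (hf : Fac q A θ N) (hDN : D ⊴ N) (hAD : A ≤ 𝐍(D)) (hDS : D < S) :
    ∃ L, IsT r A θ L ∧ D ≤ L ∧ ∀ a ∈ A, a ≠ 1 → core {q}ᶜ (θ a) ≤ L := by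
  have hF := h.toFn
  have hD : IsT r A θ D := hS.isT.mono hDS.le hAD
  have n1 : ∀ a ∈ A, a ≠ 1 → core {q}ᶜ (θ a) ⊔ (D ⊓ θ a) ⊴ θ a := fun a ha h1 =>
    ⟨sup_le (core_le _ _) inf_le_right, (hf a ha h1).trans (sup_le (le_sup_left.trans le_normalizer)
      (le_normalizer_sup (inf_le_left.trans (core_nrm _ _).norm) (le_normalizer_inf
        (inf_le_right.trans hDN.norm) (inf_le_left.trans le_normalizer))))⟩
  have n2 : ∀ a ∈ A, a ≠ 1 → A ≤ 𝐍(core {q}ᶜ (θ a) ⊔ (D ⊓ θ a)) := fun a ha h1 =>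
    le_normalizer_sup (le_normalizer_core _ (h.inv a ha h1)) (le_normalizer_inf hAD (h.inv a ha h1))
  let φ : G → Subgroup G := fun a =>
    phi {q}ᶜ (A ⊔ thB θ A) (core {q}ᶜ (θ a) ⊔ (D ⊓ θ a)) (θ a)
  have p1 : ∀ a, φ a ≤ θ a := fun a => phi_le _ _ _ _
  have p2 : ∀ a ∈ A, a ≠ 1 → PiNum {q}ᶜ ((core {q}ᶜ (θ a) ⊔ (D ⊓ θ a)).relIndex (φ a)) :=
    fun a ha h1 => piNum_phi (h.inv a ha h1) (hF.coprime le_rfl (hF.isT ha h1)) (h.solv a ha h1)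
      le_sup_left (((hF.isT ha h1).inf_le_thB le_rfl).trans le_sup_right) (n1 a ha h1)
  have hφ : Fn r A φ := by
    refine ⟨h.comm, h.exp, fun a ha h1 => (p1 a).trans (h.cen a ha h1),
      fun a ha h1 h2 => h.cop a ha h1 (h2.trans (card_dvd_of_le' (p1 a))),
      fun a _ _ => le_sup_left.trans (norm_phi _ _ _ _),
      fun a ha h1 => H2.isSolvable_of_le (p1 a) (h.solv a ha h1), fun a ha h1 b hb h2 => ?_⟩
    have hY : φ a ⊓ 𝐂[b] ≤ θ b := (inf_le_inf_right _ (p1 a)).trans (h.bal a ha h1 b hb h2)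
    refine le_phi hY (le_normalizer_inf (norm_phi _ _ _ _) (sup_le (hF.le_normalizer_cen' hb)
      (((thB_le hb h2).trans (h.cen b hb h2)).trans le_normalizer))) ?_
    obtain ⟨Q, hQ⟩ := exists_syl q (φ a ⊓ 𝐂[b])
    have hK : core {q}ᶜ (θ a) ⊓ 𝐂[b] ≤ θ b :=
      (inf_le_inf_right _ (core_le _ _)).trans (h.bal a ha h1 b hb h2)
    have h3 : Q ≤ core {q}ᶜ (θ a) ⊔ (D ⊓ θ a) := le_of_piG_of_nrm ((p1 a).trans (n1 a ha h1).norm)
      (p2 a ha h1) (hQ.le.trans inf_le_left) hQ.hall.piG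
    have h4 : Q ≤ core {q}ᶜ (θ b) ⊔ (D ⊓ θ b) := by
      refine le_of_piG_of_nrm (nrm_sup_left (hK.trans (n1 b hb h2).norm)).norm
        (piNum_relIndex_sup (hK.trans (n1 b hb h2).norm) ((core_piG _ _).of_le inf_le_left))
        (fun x hx => ?_) hQ.hall.piG
      obtain ⟨k, hk, n, hn, rfl⟩ := (mem_sup_iff_of_le_normalizer'
        (inf_le_right.trans (core_nrm _ _).norm)).1 (h3 hx)
      obtain ⟨n', hn', k', hk', e⟩ : ∃ n' ∈ D ⊓ θ a, ∃ k' ∈ core {q}ᶜ (θ a), k * n = n' * k' :=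
        ⟨n, hn, _, (core_nrm _ _).conj_mem' hn.2 hk, by group⟩
      obtain ⟨n, hn, k, hk, e'⟩ := hF.exists_cen_mul_cen ((zpowers_le (G := G)).2 hb)
        (hD.inf (h.inv a ha h1)) (le_normalizer_core _ (h.inv a ha h1)) hn' hk'
        (by rw [cent_zpowers, ← e]; exact (hQ.le hx).2)
      rw [cent_zpowers] at hn hk
      rw [e, e']
      exact mul_mem (mem_sup_left (mem_sup_right ⟨hn.1.1, h.bal a ha h1 b hb h2 ⟨hn.1.2, hn.2⟩⟩))
        (mem_sup_right hk)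
    exact hQ.hall.idx.of_dvd (relIndex_dvd_of_le_left _ h4)
  obtain ⟨L, hL, h1⟩ := h.sub φ hφ (fun a _ _ => p1 a) (by
    by_contra! h1
    refine hDS.not_ge (hF.le_of_forall le_rfl h.card2 hS.isT fun a ha h2 => ?_)
    have h3 := p2 a ha h2
    rw [h1 a ha h2] at h3
    have h4 : S ⊓ θ a ≤ (D ⊓ θ a) ⊔ core {q}ᶜ (θ a) := sup_comm _ (D ⊓ θ a) ▸
      le_of_piG_of_nrm (n1 a ha h2).norm h3 inf_le_right (syl_theta h hS ha h2).hall.piG
    rw [← inf_eq_left, inf_sup_of_le (inf_le_inf_right _ hDS.le)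
      (.inl (inf_le_right.trans (core_nrm _ _).norm)),
      (syl_theta h hS ha h2).hall.piG.inf_eq_bot (core_piG _ _), sup_bot_eq] at h4
    exact (le_inf inf_le_left (hS.isT.le a ha h2)).trans (h4.ge.trans inf_le_left))
  have h2 : ∀ a ∈ A, a ≠ 1 → core {q}ᶜ (θ a) ⊔ (D ⊓ θ a) ≤ L := fun a ha h2 =>
    (le_phi (n1 a ha h2).le (sup_le (n2 a ha h2) ((thB_le ha h2).trans (n1 a ha h2).norm))
      (by rw [relIndex_self]; exact piNum_one _)).trans (h1 a ha h2)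
  exact ⟨L, hL.of_le fun a _ _ => p1 a, hF.le_of_forall le_rfl h.card2 hD fun a ha h3 =>
    (le_inf inf_le_left (hD.le a ha h3)).trans (le_sup_right.trans (h2 a ha h3)),
    fun a ha h3 => le_sup_left.trans (h2 a ha h3)⟩

end Cfsg.Agent.SG
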