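import Cfsg.Agent.SG.IMa
import Cfsg.Agent.SG.IT
import Cfsg.Agent.H1.ThompsonNC
import Cfsg.Agent.H1.Constrained

/-! Section G: factorizations of solvable groups (see notes/s0217_plan.md). -/

set_option autoImplicit false
set_option linter.unusedSectionVars false

namespace Cfsg.Agent.SG

open Subgroup Cfsg.Agent.FT Cfsg.Agent.SF Cfsg.Agent.H1
open scoped commutatorElement

universe u
variable {G : Type u} [Group G] [Finite G]

theorem le_cent_ncl {N M Y : Subgroup G} (h : M ≤ 𝐍(N)) (h1 : N ≤ 𝐂(Y)) : N ≤ 𝐂(ncl Y M) :=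
  cent_symm (ncl_le fun g hg => by
    rw [← cj_eq_iff_mem_normalizer.2 (h hg), ← cj_centralizer]; exact cj_mono g (cent_symm h1))

theorem g_card (H K : Subgroup G) : ♯(K ⊓ H) * H.relIndex K = ♯K := by
  rw [← relIndex_bot_left, ← relIndex_bot_left, ← inf_relIndex_right H K, inf_comm H,
    relIndex_mul_relIndex _ _ _ bot_le inf_le_left]

/-- members of `maxAb` are offenders -/
theorem offender {n : ℕ} {P V X : Subgroup G} (hX : X ∈ maxAb n P) (hV : AbE n V) (hVP : V ≤ P) :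
    (𝐂(X)).relIndex V ≤ (𝐂(V)).relIndex X := by
  have h1 := hX.2.2 (V ⊔ (X ⊓ 𝐂(V))) (sup_le hVP (inf_le_left.trans hX.1))
    (hV.sup (hX.2.1.of_le inf_le_left) inf_le_right)
  have h2 := H2.card_sup_mul_card_inf (H := V) (K := X ⊓ 𝐂(V))
    ((cent_symm inf_le_right).trans (cent_le_norm _))
  have h3 : ♯(V ⊓ (X ⊓ 𝐂(V))) ≤ ♯(V ⊓ 𝐂(X)) :=
    card_le_of_le' (inf_le_inf_left _ (inf_le_left.trans hX.2.1.le_centralizer))
  have h4 := Nat.mul_le_mul h1 h3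
  rw [h2, ← g_card 𝐂(X) V, ← g_card 𝐂(V) X] at h4
  refine Nat.le_of_mul_le_mul_left (?_ : ♯(V ⊓ 𝐂(X)) * ♯(X ⊓ 𝐂(V)) * _ ≤ _)
    (Nat.mul_pos (card_pos' _) (card_pos' _))
  linarith

theorem tf_two {M P Y : Subgroup G} (hs : Group.IsSolvable M) (h0 : core {2}ᶜ M = ⊥)
    (hP : Syl 2 P M) (h2 : ¬ 3 ∣ ♯M) (hY : Y ≤ P) (hc : P ≤ 𝐂(Y)) (he : ∀ y ∈ Y, y ^ 2 = 1) :
    JJ 2 P ≤ 𝐂(ncl Y M) := by
  have hQ := core_le_syl hP
  have a1 : ncl Y M ≤ OZ 2 (core {2} M) := ncl_le fun g hg => by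
    rw [← cj_eq_iff_mem_normalizer.2 (norm_OZ 2 _ ((core_nrm {2} M).norm hg))]
    exact cj_mono g fun y hy => ⟨cent_pcore_le hs h0 ⟨hP.le (hY hy), cent_symm (hQ.trans hc) hy⟩,
      cent_symm (hQ.trans hc) hy, he y hy⟩
  have a2 : AbE 2 (ncl Y M) := ⟨comm_iff_le_cent.2 ((a1.trans (OZ_cent _ _)).trans
    (cent_anti (a1.trans (OZ_le _ _)))), fun v hv => (a1 hv).2.2⟩
  have hK : M ⊓ 𝐂(ncl Y M) ⊴ M := nrm_inf_centralizer (le_norm_ncl Y M)
  have a3 : core {2} (bar (M ⊓ 𝐂(ncl Y M)) M) = ⊥ := by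
    have b1 := nrm_unbar_of_nrm_bar hK (core_nrm {2} _)
    rw [← bar_unbar (core {2} _)]
    refine bar_eq_bot (le_inf b1.le (le_cent_ncl b1.norm ?_))
    rw [← (Syl.inf_of_nrm hP b1).hall.sup_eq_of_relIndex (le_unbar _)
      (by rw [relIndex_unbar_self]; exact core_piG _ _)]
    exact sup_le (inf_le_left.trans hc) (inf_le_right.trans (cent_anti (le_ncl Y M)))
  have a4 : ¬ 2 ∣ ♯(fit (bar (M ⊓ 𝐂(ncl Y M)) M)) := (syl_pcore_fit _).eq_bot_iff.1 a3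
  have hD := nrm_unbar_of_nrm_bar hK (fit_nrm (bar (M ⊓ 𝐂(ncl Y M)) M))
  have hT : TM0 (ncl Y M) M (unbar _ (fit (bar (M ⊓ 𝐂(ncl Y M)) M))) P := by
    refine ⟨fun v hv => pow_two v ▸ a2.2 v hv, le_norm_ncl Y M, hD, le_unbar _, fun x hx =>
      ⟨_, Nat.not_even_iff_odd.1 (mt Even.two_dvd a4), ?_⟩, hP.le, hP.isPGroup, fun x hx h => ?_⟩
    · obtain ⟨b1, b2⟩ := mem_unbar.1 hx
      exact ((coset_eq_one_iff (pow_mem b1 _)).1 (by
        rw [coset_pow b1]; exact pow_card_eq_one'' b2)).2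
    · have b1 := hK.norm (hP.le hx)
      have b2 : coset _ x ∈ fit (bar (M ⊓ 𝐂(ncl Y M)) M) :=
        cent_fit_le (isSolvable_bar hs _) ⟨coset_mem_bar _ (hP.le hx), mem_cent_iff.2 fun z hz => by
          obtain ⟨d, hd, rfl⟩ := exists_coset z
          have hd' := mem_unbar.2 ⟨hd, hz⟩
          refine (commutatorElement_eq_one_iff_mul_comm.1 ?_).symm
          rw [← coset_commutator b1 hd]
          exact coset_eq_one ⟨der_le M (commutator_mem_commutator (hP.le hx) (hD.le hd')),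
            h d hd'⟩⟩
      have b3 := (piG_singleton_iff.2 (isPGroup_bar hP.isPGroup _)).inf_eq_bot
        (piG_compl_singleton.2 a4)
      exact ((coset_eq_one_iff b1).1 (mem_bot.1 (b3 ▸ mem_inf.2 ⟨coset_mem_bar _ hx, b2⟩))).2
  refine JJ_le_iff.2 fun X hX => (hT.ff2 hX.1 (fun x hx => pow_two x ▸ hX.2.1.2 x hx ▸ one_mem _)
    (offender hX a2 (a1.trans ((OZ_le _ _).trans hQ)))).trans (sup_le ((closure_le _).2 ?_)
      inf_le_right)
  exact fun a ha => absurd ((hT.three_dvd (hX.1 ha.1) ha.2).trans (card_dvd_of_le' hD.le)) h2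

/-- Thompson factorization -/
theorem tf {s : ℕ} [Fact s.Prime] {M P Y : Subgroup G} (hs : Group.IsSolvable M)
    (h0 : core {s}ᶜ M = ⊥) (hP : Syl s P M) (h2 : s = 2 → ¬ 3 ∣ ♯M)
    (h3 : s = 3 → ∀ T, Syl 2 T M → T ≤ 𝐂(T)) (hY : Y ≤ P) (hc : P ≤ 𝐂(Y))
    (he : ∀ y ∈ Y, y ^ s = 1) : IsProd M (M ⊓ 𝐍(JJ s P)) (M ⊓ 𝐂(Y)) := by
  by_cases h : s = 2
  · subst h
    have hK : M ⊓ 𝐂(ncl Y M) ⊴ M := nrm_inf_centralizer (le_norm_ncl Y M)
    refine IsProd.symm fun g hg => ?_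
    rw [← Syl.frattini' (Syl.inf_of_nrm hP hK) hK] at hg
    obtain ⟨k, hk, n, hn, rfl⟩ := (mem_sup_iff_of_le_normalizer' (inf_le_left.trans hK.norm)).1 hg
    refine ⟨k, ⟨hk.1, cent_anti (le_ncl Y M) hk.2⟩, n, ⟨hn.1, ?_⟩, rfl⟩
    rw [← JJ_eq_of_le (le_inf (JJ_le P) (le_inf ((JJ_le P).trans hP.le)
      (tf_two hs h0 hP (h2 rfl) hY hc he))) inf_le_left]
    exact normalizer_le_normalizer_JJ _ hn.2
  intro g hg
  rw [core_compl_singleton_eq, map_eq_bot_iff_of_injective _ M.subtype_injective] at h0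
  obtain ⟨a, ha, c, hc, e⟩ := thompson_factorization (n := s) (nStable_of_not_sec h
    (not_sec_SL2_of_solvable h hs fun e T => isMulCommutative_of_forall fun a ha b hb =>
      Subtype.ext (mem_cent_iff.1 (h3 e _ (isSylowIn_map_subtype T) ⟨b, hb, rfl⟩) a ⟨a, ha, rfl⟩)))
    (L.centralizer_pCore_le (L.isPSolvable_of_isSolvable s) h0) (sylow_isSylowIn_top hP.toSylow)
    (Y := Y.subgroupOf M) (fun x hx y hy => Subtype.ext (hc hx y hy))
    (fun y hy => Subtype.ext (he y hy)) ⟨g, hg⟩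
  refine ⟨a, ⟨a.2, ?_⟩, c, ⟨c.2, fun y hy => congrArg Subtype.val
    (hc ⟨y, hP.le (hY hy)⟩ hy)⟩, congrArg Subtype.val e⟩
  have := le_normalizer_map M.subtype ⟨a, ha, rfl⟩
  rwa [map_JJ _ _ M.subtype_injective, hP.map_toSylow] at this

/-- the ZJ-theorem for solvable groups -/
theorem zj {q : ℕ} [Fact q.Prime] (hq : 5 ≤ q) {L P : Subgroup G} (hs : Group.IsSolvable L)
    (hP : Syl q P L) : L ≤ core {q}ᶜ L ⊔ (L ⊓ 𝐍(ZJ q P)) := by
  have h2 : q ≠ 2 := by omega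
  have h1 := ZJ_normal (n := q) h2 (.inr rfl) (nStable_of_not_sec h2
    (not_sec_SL2_of_solvable h2 inferInstance fun e => by omega))
    (isPConstrained_iff.1 (isPConstrained_of_isPSolvable (Cfsg.Agent.L.isPSolvable_of_isSolvable q)))
    (isSylowIn_map_mk' (sylow_isSylowIn_top hP.toSylow) (pPrimeCore q L))
  rw [← map_ZJ_of_coprime (.inr rfl) _ (by rw [QuotientGroup.ker_mk']; exact not_dvd_card_pPrimeCore)
    hP.toSylow.isPGroup', ← normalizer_sup_pPrimeCore_eq_top_iff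
      (hP.toSylow.isPGroup'.to_le (ZJ_le _))] at h1
  have h3 := congrArg (map L.subtype) h1
  rw [← MonoidHom.range_eq_map, range_subtype, Subgroup.map_sup, ← core_compl_singleton_eq, sup_comm] at h3
  refine h3.ge.trans (sup_le_sup_left (le_inf (map_subtype_le _) ?_) _)
  refine (le_normalizer_map _).trans ?_
  rw [map_ZJ _ _ L.subtype_injective, hP.map_toSylow]

/-- abelian Sylow subgroups -/
theorem abfac {q : ℕ} [Fact q.Prime] {L P : Subgroup G} (hs : Group.IsSolvable L)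
    (hP : Syl q P L) (ha : P ≤ 𝐂(P)) : L ≤ core {q}ᶜ L ⊔ (L ⊓ 𝐍(P)) := by
  have h1 : P ≤ core2 {q}ᶜ {q} L := (le_inf hP.le (ha.trans (cent_anti inf_le_left))).trans
    (solvable_p_constrained hs (Syl.inf_of_nrm hP (core2_nrm _ _ L)))
  have h2 := Syl.frattini' (hP.of_le h1 (core2_le _ _ L)) (core2_nrm _ _ L)
  rw [core2_eq_sup hP.hall, sup_assoc] at h2
  exact h2.ge.trans (sup_le_sup_left (sup_le (inf_le_left.trans (le_inf hP.le le_normalizer))
    le_rfl) _)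

end Cfsg.Agent.SG
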