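import Cfsg.Agent.SG.IT
import Cfsg.Agent.SG.IG

/-! Section Ba: the abelian case, basic structure (see notes/s0217_plan.md). -/

set_option autoImplicit false
set_option linter.unusedSectionVars false

namespace Cfsg.Agent.SG

open Subgroup Cfsg.Agent.FT Cfsg.Agent.SF Cfsg.Agent.H1
open Cfsg.Agent.H2 (le_normalizer_inf le_normalizer_sup PiNum)
open scoped commutatorElement

universe u
variable {G : Type u} [Group G] [Finite G]

theorem le_cent_of_inf {W S X U : Subgroup G} (h1 : X ≤ W) (h2 : X ≤ 𝐍(S)) (h3 : U ≤ S)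
    (h4 : U ≤ 𝐍(W)) (h : W ⊓ S = ⊥) : X ≤ 𝐂(U) :=
  le_cent_iff_commutator.2 (le_bot_iff.1 (h ▸ le_inf
    ((commutator_mono h1 le_rfl).trans (commutator_le_left' h4))
    ((commutator_mono le_rfl h3).trans (commutator_le_right' h2))))

theorem isProd_le {L X Y M : Subgroup G} (h : IsProd L X Y) (h1 : X ≤ M) (h2 : Y ≤ M) : L ≤ M :=
  fun g hg => by
    obtain ⟨x, hx, y, hy, rfl⟩ := h g hg
    exact mul_mem (h1 hx) (h2 hy)

theorem isProd_of_hall {π : Set ℕ} {L X Y : Subgroup G} (h1 : Hall π X L) (h2 : Hall πᶜ Y L) :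
    IsProd L X Y := (isProd_iff_card h1.le h2.le).2 (by
  rw [h1.piG.inf_eq_bot h2.piG, card_bot, mul_one, h1.card_mul h2])

variable {r q : ℕ} [Fact r.Prime] [Fact q.Prime] {A S : Subgroup G} {θ : G → Subgroup G}

theorem isT_core (h : Fn r A θ) (π : Set ℕ) {X : Subgroup G} (hX : IsT r A θ X) :
    IsT r A θ (core π X) := hX.mono (core_le _ _) (le_normalizer_core _ hX.inv)

theorem exists_not_piG (h : Min r A θ) (hS : MaxP r A θ q S) (h0 : S ≠ ⊥) :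
    ∃ a ∈ A, a ≠ 1 ∧ ¬ PiG {q}ᶜ (θ a) := by
  by_contra! h1
  exact h0 (le_bot_iff.1 (h.toFn.le_of_forall le_rfl h.card2 hS.isT fun a ha h2 =>
    (le_inf inf_le_left (hS.isT.le a ha h2)).trans
      ((piG_singleton_iff.2 hS.pgp).inf_eq_bot (h1 a ha h2)).le))

namespace Ab
variable (h : Ab r q A θ S)
include h

theorem N_isT : IsT r A θ (nT A θ S) := h.min.isT_nT h.mx.isT h.ne
theorem S_le_N : S ≤ nT A θ S := h.min.le_nT h.mx.isT le_normalizer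
theorem W_isT : IsT r A θ (Wq q A θ) := (h.min.thPi_spec (exists_not_piG h.min h.mx h.ne)).1
theorem W_piG : PiG {q}ᶜ (Wq q A θ) := (h.min.thPi_spec (exists_not_piG h.min h.mx h.ne)).2.1
theorem C_norm_W : thB θ A ≤ 𝐍(Wq q A θ) :=
  (h.min.thPi_spec (exists_not_piG h.min h.mx h.ne)).2.2.1
theorem le_W' {Y : Subgroup G} (hY : IsT r A θ Y) (h1 : PiG {q}ᶜ Y) (h2 : thB θ A ≤ 𝐍(Y)) :
    Y ≤ Wq q A θ := (h.min.thPi_spec (exists_not_piG h.min h.mx h.ne)).2.2.2.2 Y hY h1 h2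
theorem K_le_W {a : G} (ha : a ∈ A) (h1 : a ≠ 1) : core {q}ᶜ (θ a) ≤ Wq q A θ :=
  h.le_W' (isT_core h.min.toFn _ (h.min.toFn.isT ha h1)) (core_piG _ _)
    ((thB_le ha h1).trans (core_nrm _ _).norm)
theorem S_piG : PiG {q} S := piG_singleton_iff.2 h.mx.pgp
theorem W_inf_S : Wq q A θ ⊓ S = ⊥ := h.W_piG.inf_eq_bot' h.S_piG
theorem K_spec {L : Subgroup G} (hL : Wq q A θ ≤ L) {a : G} (ha : a ∈ A) (h1 : a ≠ 1) :
    core {q}ᶜ (θ a) ⊴ θ a ∧ A ≤ 𝐍(core {q}ᶜ (θ a)) ∧ core {q}ᶜ (θ a) ≤ L ∧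
      θ a ≤ core {q}ᶜ (θ a) ⊔ (θ a ⊓ nT A θ S) :=
  ⟨core_nrm _ _, le_normalizer_core _ (h.min.inv a ha h1), (h.K_le_W ha h1).trans hL,
    h.fac a ha h1⟩
/-- `W = W_N K^B` -/
theorem W_prod {B : Subgroup G} (hB : B ≤ A) (h2 : ♯B = r ^ 2) :
    IsProd (Wq q A θ) (Wq q A θ ⊓ nT A θ S) (cl B fun b => core {q}ᶜ (θ b)) :=
  prod_of_line h.min.toFn hB h2 h.N_isT.inv h.W_isT fun _ ha h1 => h.K_spec le_rfl (hB ha) h1
theorem no_L {L : Subgroup G} (hL : IsT r A θ L) (h1 : Wq q A θ ≤ L) (h2 : S ≤ L) : False :=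
  kl h.min h.N_isT hL h.ne ⟨h.S_le_N, nT_le _ _ _⟩ h.mx.isT.inv h2 fun _ ha h3 =>
    h.K_spec h1 ha h3
theorem no_D {D X : Subgroup G} (hX : IsT r A θ X) (h1 : Wq q A θ ≤ X) (h2 : D ≤ X)
    (h3 : A ≤ 𝐍(D)) (h4 : S ≤ 𝐍(D)) (h5 : Wq q A θ ⊓ nT A θ S ≤ 𝐍(D)) : D = ⊥ := by
  by_contra h0
  refine h.no_L (h.min.isT_nT (hX.mono (ncl_le fun g hg => cj_le_of_le (h1 hg) h2)
    (norm_ncl h3 h.W_isT.inv)) (ne_bot_of_le (le_ncl D _) h0))
    (h.min.le_nT h.W_isT (le_norm_ncl _ _))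
    (h.min.le_nT h.mx.isT (le_of_lines h.min h.mx.isT fun B hB hB2 => ?_))
  rw [ncl_eq_of_prod (h.W_prod hB hB2) h5 (cl_le fun a ha h6 => h.K_le_W (hB ha) h6)]
  exact norm_ncl (inf_le_left.trans h4) (le_normalizer_cl fun a ha h6 =>
    ((h.mx.isT.inf_le_thB hB).trans (thB_le ha h6)).trans (core_nrm _ _).norm)
theorem SA_bot : S ⊓ 𝐂(A) = ⊥ := by
  have h1 : IsT r A θ (S ⊓ 𝐂(A)) := h.mx.isT.inf (h.min.toFn.le_normalizer_cen le_rfl)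
  have h2 := (h.mx.isT.inf_le_thB le_rfl).trans h.C_norm_W
  exact h.no_D (h.min.toFn.isT_sup h1 h.W_isT h2) le_sup_right le_sup_left h1.inv
    ((h.ab.trans (cent_anti inf_le_left)).trans (cent_le_norm _))
    ((le_cent_of_inf inf_le_left (inf_le_right.trans (nT_le _ _ _)) inf_le_left h2
      h.W_inf_S).trans (cent_le_norm _))
theorem C_piG : PiG {q}ᶜ (thB θ A) :=
  (syl_inf h.min h.mx h.min.isT_C le_normalizer).hall.eq_bot_iff.1 (le_bot_iff.1 (h.SA_bot ▸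
    inf_le_inf_left _ (h.min.toFn.thB_le_cen le_rfl h.min.ne_bot)))
theorem le_W {Y : Subgroup G} (hY : IsT r A θ Y) (h1 : PiG {q}ᶜ Y) : Y ≤ Wq q A θ := by
  refine h.min.toFn.le_of_forall le_rfl h.min.card2 hY fun a ha h2 => ?_
  have hT := h.min.toFn.isT ha h2
  have hc := h.min.toFn.coprime le_rfl hT
  obtain ⟨R, a1, a2, a3⟩ := exists_invariant_hall_ge hT.inv hc hT.solv (thB_le ha h2) h.C_piG
    h.min.isT_C.inv
  obtain ⟨R', b1, b2, b3⟩ := exists_invariant_hall_ge hT.inv hc hT.solv (hY.le a ha h2)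
    (h1.of_le inf_le_left) (le_normalizer_inf hY.inv (h.min.toFn.le_normalizer_cen' ha))
  obtain ⟨c, hc, rfl⟩ := a1.exists_cent_cj_eq b1 hT.inv hc hT.solv a3 b3
  rw [cj_eq_of_mem (a2 (hT.inf_le_thB le_rfl hc))] at b2
  exact b2.trans (h.le_W' (hT.mono a1.le a3) a1.piG (a2.trans le_normalizer))
theorem C_le_W : thB θ A ≤ Wq q A θ := h.le_W h.min.isT_C h.C_piG
theorem hall_W {H : Subgroup G} (hH : IsT r A θ H) : Hall {q}ᶜ (Wq q A θ ⊓ H) H := by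
  obtain ⟨R, a1, a2⟩ := exists_invariant_hall {q}ᶜ hH.inv (h.min.toFn.coprime le_rfl hH) hH.solv
  rwa [a1.eq_of_le inf_le_right (h.W_piG.of_le inf_le_left)
    (le_inf (h.le_W (hH.mono a1.le a2) a1.piG) a1.le)]
theorem prod_W {H P : Subgroup G} (hH : IsT r A θ H) (hP : Syl q P H) :
    IsProd H (Wq q A θ ⊓ H) P := (isProd_of_hall hP.hall (h.hall_W hH)).symm
theorem R_bot {R : Subgroup G} (h1 : R ≤ Wq q A θ) (h2 : S ≤ 𝐍(R)) : R = ⊥ := by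
  have key : ∀ X : Subgroup G, (∀ g ∈ X, ∀ R, R ≤ Wq q A θ → S ≤ 𝐍(R) →
      cj g R ≤ Wq q A θ ∧ S ≤ 𝐍(cj g R)) → X ≤ 𝐍(sSup {R | R ≤ Wq q A θ ∧ S ≤ 𝐍(R)}) :=
    fun X hX g hg => mem_normalizer_of_cj_le (cj_le_iff_le_cj_inv.2 (sSup_le fun R hR =>
      cj_le_iff_le_cj_inv.1 (le_sSup (hX g hg R hR.1 hR.2))))
  have key' : ∀ X : Subgroup G, X ≤ 𝐍(Wq q A θ) → X ≤ 𝐍(S) →
      X ≤ 𝐍(sSup {R | R ≤ Wq q A θ ∧ S ≤ 𝐍(R)}) := fun X a1 a2 => key X fun g hg R b1 b2 =>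
    ⟨(cj_mono g b1).trans (cj_eq_iff_mem_normalizer.2 (a1 hg)).le, by
      rw [← cj_normalizer, ← cj_eq_iff_mem_normalizer.2 (a2 hg)]; exact cj_mono g b2⟩
  exact le_bot_iff.1 (h.no_D h.W_isT le_rfl (sSup_le fun _ hR => hR.1)
    (key' A h.W_isT.inv h.mx.isT.inv) (key S fun g hg R b1 b2 => by
      rw [cj_eq_iff_mem_normalizer.2 (b2 hg)]; exact ⟨b1, b2⟩)
    (key' _ (inf_le_left.trans le_normalizer) (inf_le_right.trans (nT_le _ _ _))) ▸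
      le_sSup ⟨h1, h2⟩)
theorem le_N {L : Subgroup G} (hL : IsT r A θ L) (h1 : S ≤ L) : L ≤ nT A θ S := by
  have h2 := abfac hL.solv (syl_ge h.min h.mx hL h1) h.ab
  rw [h.R_bot (h.le_W (isT_core h.min.toFn _ hL) (core_piG _ _)) (h1.trans (core_nrm _ _).norm),
    bot_sup_eq] at h2
  exact h.min.le_nT hL (h2.trans inf_le_right)
theorem le_N' {U Y : Subgroup G} (h0 : U ≠ ⊥) (h1 : U ≤ S) (h2 : A ≤ 𝐍(U)) (hY : IsT r A θ Y)
    (h3 : Y ≤ 𝐍(U)) : Y ≤ nT A θ S :=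
  (h.min.le_nT hY h3).trans (h.le_N (h.min.isT_nT (h.mx.isT.mono h1 h2) h0)
    (h.min.le_nT h.mx.isT ((h.ab.trans (cent_anti h1)).trans (cent_le_norm _))))
theorem N_prod : IsProd (nT A θ S) (Wq q A θ ⊓ nT A θ S) S :=
  h.prod_W h.N_isT (syl_ge h.min h.mx h.N_isT h.S_le_N)
theorem W_max {L : Subgroup G} (hL : IsT r A θ L) (h1 : Wq q A θ ≤ L) : L ≤ Wq q A θ := by
  by_cases h0 : S ⊓ L = ⊥
  · exact h.le_W hL ((syl_inf h.min h.mx hL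
      ((h.C_le_W.trans h1).trans le_normalizer)).hall.eq_bot_iff.1 h0)
  · exact (kl h.min h.N_isT hL h0 ⟨inf_le_left.trans h.S_le_N, isProd_le h.N_prod
      (le_normalizer_inf (inf_le_right.trans (nT_le _ _ _))
        ((inf_le_left.trans h1).trans le_normalizer))
      ((h.ab.trans (cent_anti inf_le_left)).trans (cent_le_norm _))⟩
      (le_normalizer_inf h.mx.isT.inv hL.inv) inf_le_right fun _ ha h3 => h.K_spec h1 ha h3).elim
/-- no nontrivial `θ`-`q`-subgroup normalizes a nontrivial invariant normal subgroup of `W` -/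
theorem eq_bot_of_norm {E V : Subgroup G} (h0 : E ≠ ⊥) (h1 : E ⊴ Wq q A θ) (h2 : A ≤ 𝐍(E))
    (hV : IsT r A θ V) (h3 : IsPGroup q V) (h4 : V ≤ 𝐍(E)) : V = ⊥ :=
  (piG_singleton_iff.2 h3).eq_bot (h.W_piG.of_le ((h.min.le_nT hV h4).trans (h.W_max
    (h.min.isT_nT (h.W_isT.mono h1.le h2) h0) (h.min.le_nT h.W_isT h1.norm))))
/-- `θ a = (W ∩ θ a)(S ∩ θ a)` -/
theorem theta_prod {a : G} (ha : a ∈ A) (h1 : a ≠ 1) :
    IsProd (θ a) (Wq q A θ ⊓ θ a) (S ⊓ θ a) :=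
  h.prod_W (h.min.toFn.isT ha h1) (syl_theta h.min h.mx ha h1)
theorem K_inf_N {a : G} (ha : a ∈ A) (h1 : a ≠ 1) {U : Subgroup G} (h0 : U ≠ ⊥)
    (hU : U ≤ S ⊓ θ a) (h2 : A ≤ 𝐍(U)) :
    core {q}ᶜ (θ a) ⊓ nT A θ S = core {q}ᶜ (θ a) ⊓ 𝐂(U) :=
  le_antisymm (le_inf inf_le_left (le_cent_of_inf inf_le_left (inf_le_right.trans (nT_le _ _ _))
    (hU.trans inf_le_left) ((hU.trans inf_le_right).trans (core_nrm _ _).norm)
    ((core_piG _ _).inf_eq_bot' h.S_piG)))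
    (le_inf inf_le_left (h.le_N' h0 (hU.trans inf_le_left) h2
      ((isT_core h.min.toFn _ (h.min.toFn.isT ha h1)).inf (H2.le_normalizer_centralizer h2))
      (inf_le_right.trans (cent_le_norm _))))

end Ab

end Cfsg.Agent.SG
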