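import Cfsg.Agent.SG.IBj

/-! Section Bc: the case that θ(A) normalizes S (see notes/s0217_plan.md). -/

set_option autoImplicit false
set_option linter.unusedSectionVars false

namespace Cfsg.Agent.SG

open Subgroup Cfsg.Agent.FT Cfsg.Agent.SF Cfsg.Agent.H1
open scoped commutatorElement

universe u
variable {G : Type u} [Group G] [Finite G]

variable {r q : ℕ} [Fact r.Prime] [Fact q.Prime] {A S : Subgroup G} {θ : G → Subgroup G}

theorem Ab.C_not_le (h : Ab r q A θ S) : ¬ thB θ A ≤ nT A θ S := by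
  intro hC
  have hF := h.min.toFn
  obtain ⟨B, hB, hB1, hU⟩ := h.min.exists_hyp h.mx.isT h.ne
  have hB2 : r ^ 2 ≤ ♯B := (Nat.eq_of_mul_eq_mul_right (Fact.out : r.Prime).pos
    (show r ^ 2 * r = ♯B * r by rw [← hB1, h.min.card, ← pow_succ])).le
  obtain ⟨b, hb, hb1, hn⟩ : ∃ b ∈ B, b ≠ 1 ∧ ¬ core {q}ᶜ (θ b) ≤ nT A θ S := by
    by_contra! hn
    exact h.min.not_forall_le hB hB2 h.N_isT fun b hb h1 =>
      (h.fac b (hB hb) h1).trans (sup_le (hn b hb h1) inf_le_right)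
  have hUT : IsT r A θ (S ⊓ 𝐂(B)) := h.mx.isT.inf (hF.le_normalizer_cen hB)
  have hUb : S ⊓ 𝐂(B) ≤ θ b := (h.mx.isT.inf_le_thB hB).trans (thB_le hb hb1)
  have hT := hF.isT (hB hb) hb1
  have hK := isT_core hF {q}ᶜ hT
  have hKW := h.K_le_W (hB hb) hb1
  have hW : Wq q A θ ≠ ⊥ := fun e => hn ((hKW.trans e.le).trans bot_le)
  by_cases hs : ∃ s : ℕ, s.Prime ∧ IsPGroup s (Wq q A θ)
  · obtain ⟨s, hs, hp⟩ := hs
    have := Fact.mk hs
    have hsq : s ≠ q := mem_of_piG_of_isPGroup h.W_piG hp hW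
    obtain ⟨c, hc, e⟩ := h.jlem hsq (T := Wq q A θ)
      ⟨h.W_isT, hp, fun T h1 h2 _ => h.le_W h1 (piG_of_isPGroup h2 hsq)⟩
      (fun V h1 h2 h3 => h.eq_bot_of_norm (OZ_ne_bot hp hW)
        ⟨OZ_le _ _, le_normalizer.trans (norm_OZ _ _)⟩ (h.W_isT.inv.trans (norm_OZ _ _)) h1 h2
        (h3.trans (cent_le_norm _)))
      hK (isPGroup_of_le hKW hp) hU inf_le_left hUT.inv (hUb.trans (core_nrm _ _).norm) hn
    exact hU (cj_eq_bot_iff.1 (h.eq_bot_of_norm (JJ_ne_bot (Or.inr rfl) hp hW)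
      ⟨JJ_le _, le_normalizer_JJ _⟩ (h.W_isT.inv.trans (normalizer_le_normalizer_JJ _))
      (hF.isT_conj hUT hc h.min.ne_bot) (isPGroup_cj c h.mx.pgp.to_inf_left) e))
  push Not at hs
  have h1 : fit (core {q}ᶜ (θ b)) ≤ nT A θ S := fit_le_of_forall_pcore fun s hs' => by
    obtain ⟨t, ht, ht1, ht2⟩ : ∃ t : ℕ, t.Prime ∧ t ∣ ♯(Wq q A θ) ∧ t ≠ s := by
      by_contra! hn
      exact hs s hs'.out (piG_singleton_iff.1 hn)
    have htq : t ≠ q := h.W_piG t ht ht1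
    obtain ⟨k1, -, -, -, k2⟩ := h.min.thPi_spec (π := {t}ᶜ) (by
      by_contra! hn
      exact hF.piNum_of_forall h.min.card2 h.W_isT
        (fun a ha h1 => (hn a ha h1).of_dvd (card_dvd_of_le' (h.W_isT.le a ha h1))) t ht ht1 rfl)
    exact (k2 _ (isT_core hF _ hK) (piG_of_isPGroup (core_isPGroup _) ht2.symm)
      ((thB_le (hB hb) hb1).trans (le_normalizer_core _ (core_nrm _ _).norm))).trans
      (h.le_N k1 (k2 _ h.mx.isT (piG_of_isPGroup h.mx.pgp htq.symm) (hC.trans (nT_le _ _ _))))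
  have h2 := h.K_inf_N (hB hb) hb1 hU (le_inf inf_le_left hUb) hUT.inv
  have h3 := coprime_cent_Fitting (hUb.trans (core_nrm {q}ᶜ _).norm)
    (coprime_of_isPGroup h.mx.pgp.to_inf_left (core_piG _ _)) hK.solv
  refine hn (le_trans ?_ (h2.ge.trans inf_le_right))
  exact le_inf le_rfl (cent_symm (le_trans (le_inf le_rfl (cent_symm
    (((le_inf (fit_le _) h1).trans h2.le).trans inf_le_right))) h3))

end Cfsg.Agent.SG
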