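import Cfsg.Agent.SG.IBa

/-! Section Bj: the J-lemma (see notes/s0217_plan.md). -/

set_option autoImplicit false
set_option linter.unusedSectionVars false

namespace Cfsg.Agent.SG

open Subgroup Cfsg.Agent.FT Cfsg.Agent.SF Cfsg.Agent.H1
open scoped commutatorElement

universe u
variable {G : Type u} [Group G] [Finite G]

variable {r q s : ℕ} [Fact r.Prime] [Fact q.Prime] [Fact s.Prime] {A S : Subgroup G}
  {θ : G → Subgroup G}

/-- the subgroups among which the J-lemma maximizes the Sylow `s`-subgroup -/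
structure JAdm (r q s : ℕ) (A : Subgroup G) (θ : G → Subgroup G) (U M : Subgroup G) : Prop where
  isT : IsT r A θ M
  pi : PiG {s, q} M
  cq : core {q} M = ⊥
  ex : ∃ c ∈ thB θ A, cj c U ≤ M

theorem Ab.jadm0 (h : Ab r q A θ S) (hs : s ≠ q) {R U : Subgroup G} (hR : IsT r A θ R)
    (hRs : IsPGroup s R) (hU : U ≤ S) (hA : A ≤ 𝐍(U)) (hUR : U ≤ 𝐍(R))
    (hn : ¬ R ≤ nT A θ S) : JAdm r q s A θ U (U ⊔ R) := by
  have hUq := isPGroup_of_le hU h.mx.pgp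
  have hT := h.min.toFn.isT_sup (h.mx.isT.mono hU hA) hR hUR
  refine ⟨hT, (piG_of_isPGroup hUq (by simp)).sup' (piG_of_isPGroup hRs (by simp)) hUR, ?_,
    1, one_mem _, by rw [cj_one]; exact le_sup_left⟩
  by_contra h0
  have h1 := core_nrm {q} (U ⊔ R)
  have h2 : IsPGroup q ↥(core {q} (U ⊔ R) ⊔ U) :=
    isPGroup_sup' (core_isPGroup _) hUq (le_sup_left.trans h1.norm)
  have h3 := inf_sup_of_le (H := core {q} (U ⊔ R) ⊔ U) le_sup_right (Or.inl hUR)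
  rw [inf_eq_bot_of_coprime' (coprime_of_isPGroup_ne h2 hRs hs.symm), sup_bot_eq] at h3
  exact hn (h.le_N' h0 (((le_inf le_sup_left h1.le).trans h3.le).trans hU)
    (le_normalizer_core _ hT.inv) hR (le_sup_right.trans h1.norm))

theorem Ab.jstar (h : Ab r q A θ S) {U M E : Subgroup G} (h0 : U ≠ ⊥) (hU : U ≤ S)
    (hM : JAdm r q s A θ U M) (hE : E ≠ ⊥) (hEM : E ⊴ M) (hA : A ≤ 𝐍(E)) :
    ∃ M1, JAdm r q s A θ U M1 ∧ M ≤ M1 ∧ Hall {s, q} M1 (nT A θ E) := by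
  have hL := h.min.isT_nT (hM.isT.mono hEM.le hA) hE
  obtain ⟨M1, a1, a2, a3⟩ := exists_invariant_hall_ge hL.inv (h.min.toFn.coprime le_rfl hL)
    hL.solv (h.min.le_nT hM.isT hEM.norm) hM.pi hM.isT.inv
  have hM1 := hL.mono a1.le a3
  obtain ⟨c, hc, h1⟩ := hM.ex
  refine ⟨M1, ⟨hM1, a1.piG, ?_, c, hc, h1.trans a2⟩, a2, a1⟩
  by_contra hV
  have hVT := isT_core h.min.toFn {q} hM1
  obtain ⟨d, hd, h2⟩ := exists_cj_le h.min h.mx hVT (core_isPGroup _)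
  have h3 : cj d M1 ≤ nT A θ S := h.le_N' (fun e => hV (cj_eq_bot_iff.1 e)) h2
    (h.min.toFn.isT_conj hVT hd h.min.ne_bot).inv (h.min.toFn.isT_conj hM1 hd h.min.ne_bot)
    ((core_nrm {q} M1).cj d).norm
  have h4 : cj d M ≤ nT A θ S := (cj_mono d a2).trans h3
  have h5 : cj d (cj c U) ≤ S := Syl.le_of_nrm (syl_ge h.min h.mx h.N_isT h.S_le_N) (nT_le _ _ _)
    (isPGroup_cj d (isPGroup_cj c (isPGroup_of_le hU h.mx.pgp))) ((cj_mono d h1).trans h4)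
  have h6 := (le_inf (cj_mono d h1) h5).trans
    (le_pcore (nrm_inf_of_le_normalizer (h4.trans (nT_le _ _ _))) h.mx.pgp.to_inf_right)
  rw [← cj_core, hM.cq, cj_bot, le_bot_iff, cj_eq_bot_iff, cj_eq_bot_iff] at h6
  exact h0 h6

theorem Ab.q_abel (h : Ab r q A θ S) {M T : Subgroup G} (hM : IsT r A θ M) (hT : T ≤ M)
    (hq : IsPGroup q T) : T ≤ 𝐂(T) := by
  obtain ⟨P, a1, a2⟩ := exists_invariant_syl q hM.inv (h.min.toFn.coprime le_rfl hM)
    (Or.inr hM.solv)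
  obtain ⟨g, -, h1⟩ := a1.exists_cj_le hq hT
  obtain ⟨d, -, h2⟩ := exists_cj_le h.min h.mx (hM.mono a1.le a2) a1.isPGroup
  have h3 := (cj_mono d h1).trans h2
  have h4 := h3.trans (h.ab.trans (cent_anti h3))
  rwa [← cj_centralizer, ← cj_centralizer, cj_le_cj_iff, cj_le_cj_iff] at h4

theorem Ab.jlem (h : Ab r q A θ S) (hs : s ≠ q) {T R U : Subgroup G} (hT : MaxP r A θ s T)
    (hz : ∀ V, IsT r A θ V → IsPGroup q V → V ≤ 𝐂(OZ s T) → V = ⊥) (hR : IsT r A θ R)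
    (hRs : IsPGroup s R) (h0 : U ≠ ⊥) (hU : U ≤ S) (hA : A ≤ 𝐍(U)) (hUR : U ≤ 𝐍(R))
    (hn : ¬ R ≤ nT A θ S) : ∃ c ∈ thB θ A, cj c U ≤ 𝐍(JJ s T) := by
  have syl : ∀ (p : ℕ) [Fact p.Prime] {X : Subgroup G}, IsT r A θ X →
      ∃ P, Syl p P X ∧ A ≤ 𝐍(P) := fun p _ X hX =>
    exists_invariant_syl p hX.inv (h.min.toFn.coprime le_rfl hX) (Or.inr hX.solv)
  have hM0 := h.jadm0 hs hR hRs hU hA hUR hn
  obtain ⟨P0, hP0⟩ := syl s hM0.isT
  obtain ⟨⟨M, P⟩, ⟨hM, hP, hAP⟩, hmax⟩ := Set.exists_max_image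
    {x : Subgroup G × Subgroup G | JAdm r q s A θ U x.1 ∧ Syl s x.2 x.1 ∧ A ≤ 𝐍(x.2)}
    (fun x => ♯x.2) (Set.toFinite _) ⟨(_, P0), hM0, hP0⟩
  dsimp only at hM hP hAP hmax
  have key : ∀ E, E ≠ ⊥ → E ⊴ M → A ≤ 𝐍(E) → Syl s P (nT A θ E) := fun E a1 a2 a3 => by
    obtain ⟨M1, b1, b2, b3⟩ := h.jstar h0 hU hM a1 a2 a3
    obtain ⟨P1, c1⟩ := syl s b1.isT
    exact Syl.trans_hall (isSylowIn_of_card_ge c1.1 hP.isPGroup (hP.le.trans b2)
      (hmax (M1, P1) ⟨b1, c1⟩)) b3 (by simp)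
  obtain ⟨T', hT', hPT⟩ := (hM.isT.mono hP.le hAP).exists_maxP hP.isPGroup
  obtain ⟨d, hd, rfl⟩ := h.min.transitivity hT' hT
  rw [smul_eq_cj] at hz ⊢
  obtain ⟨c, hc, hcU⟩ := hM.ex
  have hc' : core {s}ᶜ M = ⊥ := (core_congr fun p hp hd => by
    rcases hM.pi p hp hd with rfl | rfl
    · simp [hs]
    · simp [hs.symm]).trans hM.cq
  have hE : core {s} M ≠ ⊥ := fit_eq_pcore hc' ▸
    fit_ne_bot hM.isT.solv (ne_bot_of_le hcU fun e => h0 (cj_eq_bot_iff.1 e))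
  have hZ := hT'.isT.mono (OZ_le s _) (hT'.isT.inv.trans (norm_OZ s _))
  have hZc : OZ s T' ≤ 𝐂(P) := (OZ_cent s _).trans (cent_anti hPT)
  have hZP : OZ s T' ≤ P :=
    (key _ hE (core_nrm _ _) (le_normalizer_core _ hM.isT.inv)).le_of_le_normalizer
      (isPGroup_of_le (OZ_le s _) hT'.pgp) (h.min.le_nT hZ
        ((hZc.trans (cent_anti (core_le_syl hP))).trans (cent_le_norm _)))
      (hZc.trans (cent_le_norm _))
  have hf := tf hM.isT.solv hc' hP (fun e hd => by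
      have h1 := h.qq
      rcases hM.pi 3 Nat.prime_three hd with e' | e'
      · omega
      · rw [Set.mem_singleton_iff] at e'
        omega)
    (fun e X hX => by
      by_cases hq : q = 2
      · exact h.q_abel hM.isT hX.le (hq ▸ hX.isPGroup)
      · rw [hX.eq_bot_iff.2 fun hd => by
          rcases hM.pi 2 Nat.prime_two hd with e' | e'
          · omega
          · exact hq e'.symm]
        exact bot_le)
    hZP (cent_symm hZc) fun y hy => hy.2.2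
  have hK := hM.isT.inf (Y := 𝐂(OZ s T')) (hZ.inv.trans (normalizer_le_normalizer_centralizer _))
  obtain ⟨V, hV, hAV⟩ := syl q hK
  have hV0 : V = ⊥ := cj_eq_bot_iff.1 (hz (cj d V)
    (h.min.toFn.isT_conj (hK.mono hV.le hAV) hd h.min.ne_bot) (isPGroup_cj d hV.isPGroup)
    (by rw [← cj_OZ, ← cj_centralizer]; exact cj_mono d (hV.le.trans inf_le_right)))
  have hKs : PiG {s} (M ⊓ 𝐂(OZ s T')) := fun p hp hd => by
    rcases hM.pi.of_le inf_le_left p hp hd with e | rfl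
    · exact e
    · exact (hV.eq_bot_iff.1 hV0 hd).elim
  have hMJ : M ≤ 𝐍(JJ s P) := isProd_le hf inf_le_right
    ((hP.eq_of_le hKs.isPGroup (le_inf hP.le (cent_symm hZc)) inf_le_left).le.trans
      (le_normalizer_JJ P))
  have hJ := key _ (JJ_ne_bot (Or.inr rfl) hP.isPGroup (ne_bot_of_le (core_le_syl hP) hE))
    ⟨(JJ_le P).trans hP.le, hMJ⟩ (hAP.trans (normalizer_le_normalizer_JJ P))
  obtain rfl : P = T' := eq_of_normalizer_le_of_nil (isNilpotent_of_isPGroup hT'.pgp) hPT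
    (hJ.le_of_le_normalizer hT'.pgp.to_inf_left
      (h.min.le_nT (hT'.isT.inf (hAP.trans le_normalizer))
        (inf_le_right.trans (normalizer_le_normalizer_JJ P))) inf_le_right)
  refine ⟨d * c, mul_mem hd hc, ?_⟩
  rw [cj_mul, ← cj_JJ, ← cj_normalizer]
  exact cj_mono d (hcU.trans hMJ)

end Cfsg.Agent.SG
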