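import Cfsg.Agent.SG.IT

/-! Section F: the general factorization argument (see notes/s0217_plan.md). -/

set_option autoImplicit false
set_option linter.unusedSectionVars false

namespace Cfsg.Agent.SG

open Subgroup Cfsg.Agent.FT Cfsg.Agent.SF Cfsg.Agent.H1
open scoped commutatorElement

universe u
variable {G : Type u} [Group G] [Finite G]

variable {r q : ℕ} [Fact r.Prime] [Fact q.Prime] {A : Subgroup G} {θ : G → Subgroup G}

theorem f_prod {L O Y : Subgroup G} (h : L ≤ O ⊔ Y) (hn : Y ≤ 𝐍(O)) : IsProd L O Y := fun g hg => by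
  obtain ⟨x, hx, y, hy, e⟩ := (H2.mem_sup_of_le_normalizer' hn).1 (h hg)
  exact ⟨x, hx, y, hy, e.symm⟩

theorem f_nn {A H : Subgroup G} (h : A ≤ 𝐍(H)) : A ≤ 𝐍(𝐍(H)) := h.trans le_normalizer

theorem fgood (h : Min r A θ) {S X : Subgroup G} (hS : MaxP r A θ q S) (hX : IsT r A θ X)
    (hSX : S ≤ X)
    (base : ∀ S' L : Subgroup G, MaxP r A θ q S' → S' ≤ X → IsT r A θ L → S' ≤ L →
      L ≤ core {q}ᶜ L ⊔ (L ⊓ X))
    (step : ∀ S' L U M : Subgroup G, MaxP r A θ q S' → IsT r A θ L → U ≠ ⊥ → U ≤ S' →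
      A ≤ 𝐍(U) → L = nT A θ U → Syl q (S' ⊓ L) L → ¬ S' ≤ L → A ≤ 𝐍(M) → S' ⊓ L ≤ M →
      core {q}ᶜ L ≤ M → (∀ U' : Subgroup G, U' ≠ ⊥ → U' ≤ S' ⊓ L → A ≤ 𝐍(U') → S' ⊓ L ≤ 𝐍(U') →
        ¬ S' ⊓ 𝐍(U') ≤ L → L ⊓ 𝐍(U') ≤ M) → L ≤ M) (n : ℕ) :
    ∀ U S' : Subgroup G, Nat.card G - ♯(S' ⊓ nT A θ U) = n → MaxP r A θ q S' → S' ≤ X → U ≠ ⊥ →
      U ≤ S' → A ≤ 𝐍(U) → nT A θ U ≤ core {q}ᶜ (nT A θ U) ⊔ (nT A θ U ⊓ X) := by
  induction n using Nat.strong_induction_on with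
  | _ n ih0 =>
  intro U S' hn hS' hS'X hU0 hUS hAU
  have ih : ∀ U₁ S₁ : Subgroup G, ♯(S' ⊓ nT A θ U) < ♯(S₁ ⊓ nT A θ U₁) → MaxP r A θ q S₁ → S₁ ≤ X →
      U₁ ≠ ⊥ → U₁ ≤ S₁ → A ≤ 𝐍(U₁) → nT A θ U₁ ≤ core {q}ᶜ (nT A θ U₁) ⊔ (nT A θ U₁ ⊓ X) :=
    fun U₁ S₁ hlt => ih0 _ (by
      have := card_le_card_group (S₁ ⊓ nT A θ U₁)
      omega) U₁ S₁ rfl
  have hUT := hS'.isT.mono hUS hAU
  have hL := h.isT_nT hUT hU0
  have hUL : U ≤ nT A θ U := h.le_nT hUT le_normalizer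
  have hLU := nT_le A θ U
  set L := nT A θ U with hLd
  by_cases hb : S' ≤ L
  · exact base S' L hS' hS'X hL hb
  have hAP : A ≤ 𝐍(S' ⊓ L) := H2.le_normalizer_inf hS'.isT.inv hL.inv
  have hUP : U ≤ S' ⊓ L := le_inf hUS hUL
  have hPq : IsPGroup q ↥(S' ⊓ L) := isPGroup_of_le inf_le_left hS'.pgp
  -- normalizers of subgroups of `P`
  have hg : ∀ U' : Subgroup G, U' ≠ ⊥ → U' ≤ S' ⊓ L → A ≤ 𝐍(U') → S' ⊓ L ≤ 𝐍(U') →
      ¬ S' ⊓ 𝐍(U') ≤ L → IsT r A θ (nT A θ U') ∧ S' ⊓ L ≤ nT A θ U' ∧ L ⊓ 𝐍(U') ≤ nT A θ U' ∧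
        nT A θ U' ≤ core {q}ᶜ (nT A θ U') ⊔ (nT A θ U' ⊓ X) := fun U' h0 h1 h2 h3 h4 => by
    have e1 : S' ⊓ 𝐍(U') ≤ nT A θ U' := h.le_nT (hS'.isT.inf (f_nn h2)) inf_le_right
    have e2 : S' ⊓ L ≤ S' ⊓ 𝐍(U') := le_inf inf_le_left h3
    refine ⟨h.isT_nT (hS'.isT.mono (h1.trans inf_le_left) h2) h0, e2.trans e1,
      h.le_nT (hL.inf (f_nn h2)) inf_le_right, ih U' S' ?_ hS' hS'X h0 (h1.trans inf_le_left) h2⟩
    refine lt_of_le_of_ne (card_le_of_le' (le_inf inf_le_left (e2.trans e1))) fun e => h4 ?_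
    have := eq_of_le_of_card_le (le_inf inf_le_left (e2.trans e1)) e.ge
    exact (le_inf inf_le_left e1).trans (this.ge.trans inf_le_right)
  by_cases hP : Syl q (S' ⊓ L) L
  · refine step S' L U _ hS' hL hU0 hUS hAU rfl hP hb
      (H2.le_normalizer_sup (le_normalizer_core _ hL.inv) (H2.le_normalizer_inf hL.inv hX.inv))
      (le_sup_of_le_right (le_inf inf_le_right (inf_le_left.trans hS'X))) le_sup_left
      fun U' h0 h1 h2 h3 h4 => ?_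
    obtain ⟨hL', e1, e2, e3⟩ := hg U' h0 h1 h2 h3 h4
    set L' := nT A θ U'
    set O := core {q}ᶜ L'
    have hO : O ⊴ L' := core_nrm _ _
    have hUL' : U ≤ L' := hUP.trans e1
    have hK : (L ⊓ 𝐍(U')) ⊔ O ≤ L' := sup_le e2 hO.le
    have hN : O ⊔ U ⊴ (L ⊓ 𝐍(U')) ⊔ O := ⟨sup_le le_sup_right (le_sup_of_le_left (le_inf hUL (hUP.trans h3))),
      sup_le (H2.le_normalizer_sup (e2.trans hO.norm) (inf_le_left.trans hLU)) (le_sup_left.trans le_normalizer)⟩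
    have hR : (O ⊔ U) ⊓ X ⊴ ((L ⊓ 𝐍(U')) ⊔ O) ⊓ X := ⟨inf_le_inf_right _ hN.le,
      H2.le_normalizer_inf (inf_le_left.trans hN.norm) (inf_le_right.trans le_normalizer)⟩
    have hUq : PiG {q} U := piG_singleton_iff.2 (isPGroup_of_le hUS hS'.pgp)
    have hs : Syl q U ((O ⊔ U) ⊓ X) :=
      (((sdp_sup (hUL'.trans hO.norm) ((core_piG _ _).inf_eq_bot' hUq)).hall_right (core_piG _ _) hUq).of_le
        (le_inf le_sup_right (hUS.trans hS'X)) inf_le_left).syl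
    have hf := hs.frattini' hR
    have hT : ((L ⊓ 𝐍(U')) ⊔ O) ⊓ X ⊓ 𝐍(U) ≤ L ⊓ X ⊓ L' :=
      le_inf (le_inf (le_trans (inf_le_inf_right _ (inf_le_left.trans hK))
        (h.le_nT (hL'.inf (f_nn hAU)) inf_le_right)) (inf_le_left.trans inf_le_right))
        (inf_le_left.trans (inf_le_left.trans hK))
    have h5 : (L ⊓ 𝐍(U')) ⊔ O ≤ O ⊔ (L ⊓ X ⊓ L') := by
      have := inf_sup_of_le (H := (L ⊓ 𝐍(U')) ⊔ O) (A := O) (B := L' ⊓ X) le_sup_right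
        (Or.inr (inf_le_left.trans hO.norm))
      refine (le_inf le_rfl (hK.trans e3)).trans (this.le.trans (sup_le le_sup_left ?_))
      refine (inf_le_inf_left _ inf_le_right).trans (hf.ge.trans (sup_le (inf_le_left.trans ?_)
        (le_sup_of_le_right hT)))
      exact sup_le_sup_left (le_inf (le_inf hUL (hUS.trans hS'X)) hUL') _
    have h6 := inf_sup_of_le' (H := L) (A := O) (B := L ⊓ X ⊓ L') (inf_le_left.trans inf_le_left)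
      (Or.inr (inf_le_right.trans hO.norm))
    refine (le_inf inf_le_left (le_sup_left.trans h5)).trans (h6.le.trans (sup_le_sup ?_ inf_le_left))
    exact le_core_of_syl hL.solv hP inf_le_left ((core_piG _ _).of_le inf_le_right)
      (H2.le_normalizer_inf (inf_le_right.trans le_normalizer) (e1.trans hO.norm))
  have hlt := lt_inf_normalizer_of_isPGroup hS'.pgp
    (lt_of_le_of_ne (inf_le_left : S' ⊓ L ≤ S') fun e => hb (e.ge.trans inf_le_right))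
  obtain ⟨hL', e1, e2, e3⟩ := hg (S' ⊓ L) (ne_bot_of_le hUP hU0) le_rfl hAP le_normalizer
    fun e => hlt.not_ge (le_inf inf_le_left e)
  have hL'P := nT_le A θ (S' ⊓ L)
  set L' := nT A θ (S' ⊓ L)
  set O := core {q}ᶜ L'
  have hO : O ⊴ L' := core_nrm _ _
  have hAO : A ≤ 𝐍(O) := le_normalizer_core _ hL'.inv
  have inv : ∀ {K Q : Subgroup G}, IsT r A θ K → IsPGroup q Q → Q ≤ K → A ≤ 𝐍(Q) →
      ∃ P, Syl q P K ∧ Q ≤ P ∧ A ≤ 𝐍(P) := fun hK =>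
    exists_invariant_syl_ge hK.inv (h.toFn.coprime le_rfl hK) (Or.inr hK.solv)
  obtain ⟨P₁, s1, l1, a1⟩ := inv (hL.inf (f_nn hAP)) hPq (le_inf inf_le_right le_normalizer) hAP
  obtain ⟨P₂, s2, l2, a2⟩ := inv hL' s1.isPGroup (s1.le.trans e2) a1
  obtain ⟨P₃, s3, -, a3⟩ := inv (hL'.inf hX.inv) IsPGroup.of_bot bot_le le_normalizer_of_normal
  have hp := f_prod e3 (inf_le_left.trans hO.norm)
  have s3' : Syl q P₃ L' := s3.trans inf_le_left (by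
    rw [inf_relIndex_left, ← inf_relIndex_left, ← (isProd_iff_relIndex hO.le).1 hp]
    exact piNum_compl_singleton Fact.out |>.1 ((core_piG _ _).relIndex _))
  obtain ⟨c, hc, ec⟩ := s3'.hall.exists_cent_cj_eq s2.hall hL'.inv (h.toFn.coprime le_rfl hL') hL'.solv a3 a2
  obtain ⟨k, hk, x, hx, rfl⟩ := hp.inf_cen hAO (hL'.inf hX.inv).inv
    (h.toFn.coprime le_rfl ((hL'.mono hO.le hAO).inf (hL'.inf hX.inv).inv)) (Or.inl (h.toFn.solvA le_rfl)) c hc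
  have hOP : O ≤ 𝐂(S' ⊓ L) := le_cent_of_inf_eq_bot (hO.le.trans hL'P) (e1.trans hO.norm)
    ((core_piG _ _).inf_eq_bot' (piG_singleton_iff.2 hPq))
  have hkU : k ∈ 𝐍(U) := cent_le_norm U (cent_anti hUP (hOP hk.1))
  have hkL : k ∈ L := h.le_nT ((hL'.mono hO.le hAO).inf (h.toFn.le_normalizer_cen le_rfl))
    (inf_le_left.trans (hOP.trans ((cent_anti hUP).trans (cent_le_norm U)))) hk
  have q1 : cj k⁻¹ P₁ ≤ X := by
    refine (cj_mono _ l2).trans ?_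
    rw [← ec, cj_mul, cj_inv_cj]
    exact cj_le_of_le hx.1.2 (s3.le.trans inf_le_right)
  have q2 : A ≤ 𝐍(cj k⁻¹ P₁) := by
    rw [← cj_normalizer, ← cj_eq_iff_mem_normalizer.2 (inv_mem (cent_le_norm A hk.2))]
    exact cj_mono _ a1
  obtain ⟨S₁, s4, l4, a4⟩ := inv hX (isPGroup_cj _ s1.isPGroup) q1 q2
  refine ih U S₁ ?_ (maxP_of_syl h hS hX hSX s4 a4) s4.le hU0 (le_trans ?_ l4) hAU
  · refine lt_of_lt_of_le ?_ (card_le_of_le' (le_inf l4 (cj_le_of_le (inv_mem hkL) (s1.le.trans inf_le_left))))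
    rw [card_cj]
    refine lt_of_le_of_ne (card_le_of_le' l1) fun e => hP (Syl.of_normalizer ?_)
    rwa [← eq_of_le_of_card_le l1 e.ge] at s1
  · rw [← cj_eq_iff_mem_normalizer.2 (inv_mem hkU)]
    exact cj_mono _ (hUP.trans l1)

theorem fgen (h : Min r A θ) {S X : Subgroup G} (hS : MaxP r A θ q S) (hX : IsT r A θ X)
    (hSX : S ≤ X)
    (base : ∀ S' L : Subgroup G, MaxP r A θ q S' → S' ≤ X → IsT r A θ L → S' ≤ L →
      L ≤ core {q}ᶜ L ⊔ (L ⊓ X))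
    (step : ∀ S' L U M : Subgroup G, MaxP r A θ q S' → IsT r A θ L → U ≠ ⊥ → U ≤ S' →
      A ≤ 𝐍(U) → L = nT A θ U → Syl q (S' ⊓ L) L → ¬ S' ≤ L → A ≤ 𝐍(M) → S' ⊓ L ≤ M →
      core {q}ᶜ L ≤ M → (∀ U' : Subgroup G, U' ≠ ⊥ → U' ≤ S' ⊓ L → A ≤ 𝐍(U') → S' ⊓ L ≤ 𝐍(U') →
        ¬ S' ⊓ 𝐍(U') ≤ L → L ⊓ 𝐍(U') ≤ M) → L ≤ M) : Fac q A θ X := by
  intro a ha h1
  have hH := h.toFn.isT ha h1
  have hs := syl_theta h hS ha h1
  have hn := core2_nrm {q}ᶜ {q} (θ a)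
  have hQ := hs.inf_of_nrm hn
  have e1 := core2_eq_sup (π := {q}ᶜ) hs.hall
  have hSa := hS.isT.inf hH.inv
  have hAQ := H2.le_normalizer_inf hSa.inv (le_normalizer_core2 {q}ᶜ {q} hH.inv)
  have hSQ : S ⊓ θ a ≤ 𝐍(S ⊓ θ a ⊓ core2 {q}ᶜ {q} (θ a)) :=
    H2.le_normalizer_inf le_normalizer (inf_le_right.trans hn.norm)
  have hQS : S ⊓ θ a ⊓ core2 {q}ᶜ {q} (θ a) ≤ S ⊓ θ a := inf_le_left
  generalize S ⊓ θ a ⊓ core2 {q}ᶜ {q} (θ a) = Q at hQ e1 hAQ hSQ hQS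
  by_cases h0 : Q = ⊥
  · have := solvable_p_constrained hH.solv hQ
    rw [e1, h0, cent_bot, inf_top_eq, sup_bot_eq] at this
    exact le_sup_of_le_left this
  have hf := hQ.frattini' hn
  have hL := h.isT_nT (hSa.mono hQS hAQ) h0
  have hg := fgood h hS hX hSX base step _ Q S rfl hS hSX h0 (hQS.trans inf_le_left) hAQ
  have e2 : S ⊓ θ a ≤ nT A θ Q := h.le_nT hSa hSQ
  have e3 : θ a ⊓ 𝐍(Q) ≤ nT A θ Q := h.le_nT (hH.inf (f_nn hAQ)) inf_le_right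
  set L := nT A θ Q
  have hO : core {q}ᶜ L ⊴ L := core_nrm _ _
  have hAO : A ≤ 𝐍(core {q}ᶜ L) := le_normalizer_core _ hL.inv
  have hz : zpowers a ≤ A := zpowers_le.2 ha
  have hp := (f_prod hg (inf_le_left.trans hO.norm)).inf_cen (hz.trans hAO) (hz.trans (hL.inf hX.inv).inv)
    (h.toFn.coprime hz ((hL.mono hO.le hAO).inf (hL.inf hX.inv).inv)) (Or.inl (h.toFn.solvA hz))
  rw [cent_zpowers] at hp
  refine hf.ge.trans (sup_le (e1.le.trans (sup_le_sup_left (hQS.trans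
    (le_inf inf_le_right (inf_le_left.trans hSX))) _)) fun g hg' => ?_)
  obtain ⟨k, hk, x, hx, rfl⟩ := hp g ⟨e3 hg', h.cen a ha h1 hg'.1⟩
  refine mul_mem (mem_sup_left (le_core_of_syl hH.solv hs ((inf_le_inf_right _ hO.le).trans (hL.le a ha h1))
    ((core_piG _ _).of_le inf_le_left) (H2.le_normalizer_inf (e2.trans hO.norm)
      ((inf_le_right.trans (h.cen a ha h1)).trans le_normalizer)) hk))
    (mem_sup_right ⟨hL.le a ha h1 ⟨hx.1.1, hx.2⟩, hx.1.2⟩)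

end Cfsg.Agent.SG
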