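import Cfsg.Agent.SG.Defs

/-! Section Ma, abstract part: automorphisms of an elementary abelian `2`-group. -/

set_option autoImplicit false
set_option linter.unusedSectionVars false

namespace Cfsg.Agent.SG.Ma

open Subgroup Cfsg.Agent.FT

section grp
variable {Γ : Type*} [Group Γ]

theorem eq_one_of_sq {c : Γ} (h : ∃ n : ℕ, Odd n ∧ c ^ n = 1) (h2 : c * c = 1) : c = 1 := by
  obtain ⟨n, ⟨k, rfl⟩, hn⟩ := h
  rwa [pow_succ, pow_mul, pow_two, h2, one_pow, one_mul] at hn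

theorem conj_mem {D : Subgroup Γ} {x d : Γ} (hx : x ∈ 𝐍(D)) (hd : d ∈ D) : x * d * x⁻¹ ∈ D :=
  (mem_normalizer_iff.1 hx d).1 hd

theorem four_grp {D : Subgroup Γ} (ho : ∀ d ∈ D, ∃ n : ℕ, Odd n ∧ d ^ n = 1) {x y t : Γ}
    (hx : x * x = 1) (hy : y * y = 1) (hxy : x * y = y * x) (hxD : x ∈ 𝐍(D))
    (h1 : ∀ d ∈ D, x * d = d * x → y * d = d * y)
    (h2 : ∀ d ∈ D, x * y * d = d * (x * y) → y * d = d * y)
    (ht : t ∈ D) (hi : y * t * y⁻¹ = t⁻¹) : t = 1 := by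
  have xi : x⁻¹ = x := inv_eq_of_mul_eq_one_right hx
  have yi : y⁻¹ = y := inv_eq_of_mul_eq_one_right hy
  obtain ⟨s, hs⟩ : ∃ s, s = x * t * x⁻¹ := ⟨_, rfl⟩
  have hsD : s ∈ D := hs ▸ conj_mem hxD ht
  have hxs : x * s * x⁻¹ = t := by
    rw [hs, xi]; calc x * (x * t * x) * x = (x * x) * t * (x * x) := by group
      _ = t := by rw [hx, one_mul, mul_one]
  have hys : y * s * y⁻¹ = s⁻¹ := by
    rw [hs]
    calc y * (x * t * x⁻¹) * y⁻¹ = (y * x) * t * (y * x)⁻¹ := by group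
      _ = x * (y * t * y⁻¹) * x⁻¹ := by rw [← hxy]; group
      _ = _ := by rw [hi]; group
  obtain ⟨w, hw⟩ : ∃ w, w = t * s⁻¹ := ⟨_, rfl⟩
  have hwD : w ∈ D := hw ▸ mul_mem ht (inv_mem hsD)
  have hxw : x * w * x⁻¹ = w⁻¹ := by
    rw [hw]
    calc x * (t * s⁻¹) * x⁻¹ = (x * t * x⁻¹) * (x * s * x⁻¹)⁻¹ := by group
      _ = _ := by rw [← hs, hxs]; group
  have huw : (t * y) * w * (t * y)⁻¹ = w⁻¹ := by
    rw [hw]
    calc (t * y) * (t * s⁻¹) * (t * y)⁻¹ = t * (y * t * y⁻¹) * (y * s * y⁻¹)⁻¹ * t⁻¹ := by group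
      _ = _ := by rw [hi, hys]; group
  obtain ⟨n, ⟨k, rfl⟩, hn⟩ := ho w hwD
  have hk : (w ^ k)⁻¹ * w⁻¹ = w ^ k := by
    rw [← mul_inv_rev, inv_eq_iff_mul_eq_one, ← hn]; group
  have hc : x * (w ^ k * t) * x⁻¹ = w ^ k * t := by
    calc x * (w ^ k * t) * x⁻¹ = (x * w * x⁻¹) ^ k * (x * t * x⁻¹) := by rw [conj_pow]; group
      _ = (w ^ k)⁻¹ * w⁻¹ * t := by rw [hxw, ← hs, inv_pow, mul_assoc, hw]; group
      _ = _ := by rw [hk]
  have hcD : w ^ k * t ∈ D := mul_mem (pow_mem hwD k) ht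
  have hcy := h1 _ hcD (mul_inv_eq_iff_eq_mul.1 hc)
  have hc1 : w ^ k * t = 1 := by
    refine eq_one_of_sq (ho _ hcD) ?_
    have e : (t * y) * (t * y) = 1 := by
      calc (t * y) * (t * y) = t * (y * t * y⁻¹) := by rw [yi]; group
        _ = 1 := by rw [hi, mul_inv_cancel]
    calc w ^ k * t * (w ^ k * t) = w ^ k * t * (w ^ k * t) * (y * y) := by rw [hy, mul_one]
      _ = w ^ k * t * ((w ^ k * t) * y) * y := by group
      _ = w ^ k * ((t * y) * w ^ k * (t * y)⁻¹) * ((t * y) * (t * y)) := by rw [← hcy]; group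
      _ = 1 := by rw [← conj_pow, huw, e, inv_pow]; group
  have ht' : t = (w ^ k)⁻¹ := eq_inv_of_mul_eq_one_right hc1
  have hyw : y * w * y⁻¹ = w⁻¹ := by
    calc y * w * y⁻¹ = t⁻¹ * ((t * y) * w * (t * y)⁻¹) * t := by group
      _ = w⁻¹ := by rw [huw, ht']; group
  have h3 := h2 w hwD (by
    rw [← mul_inv_eq_iff_eq_mul]
    calc x * y * w * (x * y)⁻¹ = x * (y * w * y⁻¹) * x⁻¹ := by group
      _ = (x * w * x⁻¹)⁻¹ := by rw [hyw]; group
      _ = w := by rw [hxw, inv_inv])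
  have hw1 : w = 1 := by
    refine eq_one_of_sq (ho _ hwD) ?_
    rw [h3, mul_inv_cancel_right] at hyw
    nth_rewrite 1 [hyw]; rw [inv_mul_cancel]
  rw [ht', hw1, one_pow, inv_one]

theorem comm_of_sq {X : Subgroup Γ} (hX : ∀ x ∈ X, x * x = 1) {x y : Γ} (hx : x ∈ X) (hy : y ∈ X) :
    x * y = y * x := by
  have h := hX _ (mul_mem hx hy)
  calc x * y = (x * y)⁻¹ := (inv_eq_of_mul_eq_one_right h).symm
    _ = y * x := by
      rw [mul_inv_rev, inv_eq_of_mul_eq_one_right (hX x hx), inv_eq_of_mul_eq_one_right (hX y hy)]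

theorem exists_good [Finite Γ] {X : Subgroup Γ} (hX : ∀ x ∈ X, x * x = 1) {y : Γ} (hy : y ∈ X) :
    ∀ (n : ℕ) (D : Subgroup Γ), ♯D = n → (∀ d ∈ D, ∃ n : ℕ, Odd n ∧ d ^ n = 1) → X ≤ 𝐍(D) →
      y ∉ 𝐂(D) → ∃ t ∈ D, t ≠ 1 ∧ y * t * y⁻¹ = t⁻¹ ∧
        ∀ x ∈ X, x * t * x⁻¹ = t ∨ x * t * x⁻¹ = t⁻¹ := by
  intro n
  induction n using Nat.strong_induction_on with
  | _ n ih =>
  intro D hD ho hXD hyD
  by_cases hx : ∃ x ∈ X, x ∉ 𝐂(D) ∧ y ∉ 𝐂(D ⊓ 𝐂[x])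
  · obtain ⟨x, hxX, hx1, hx2⟩ := hx
    have hlt : D ⊓ 𝐂[x] < D := lt_of_le_of_ne inf_le_left fun h =>
      hx1 (le_cent1_iff.1 (h ▸ inf_le_right))
    obtain ⟨t, ht, h⟩ := ih _ (hD ▸ card_lt_of_lt hlt) (D ⊓ 𝐂[x]) rfl (fun d hd => ho d hd.1)
      (fun z hz => by
        refine mem_normalizer_of_conj_mem fun d hd => ⟨conj_mem (hXD hz) hd.1, ?_⟩
        have e := mem_cent1_iff.1 hd.2
        have e2 := comm_of_sq hX hz hxX
        refine mem_cent1_iff.2 ?_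
        calc z * d * z⁻¹ * x = z * d * z⁻¹ * (x * z) * z⁻¹ := by group
          _ = z * (d * x) * z⁻¹ := by rw [← e2]; group
          _ = x * (z * d * z⁻¹) := by rw [e, ← mul_assoc, e2]; group) hx2
    exact ⟨t, ht.1, h⟩
  · push Not at hx
    obtain ⟨d, hd, hdy⟩ : ∃ d ∈ D, d * y ≠ y * d := by
      by_contra h
      push Not at h
      exact hyD (mem_cent_iff.2 h)
    have yy := hX y hy
    have yi : y⁻¹ = y := inv_eq_of_mul_eq_one_right yy
    have ht : d * (y * d⁻¹ * y⁻¹) ∈ D := mul_mem hd (conj_mem (hXD hy) (inv_mem hd))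
    have ht1 : d * (y * d⁻¹ * y⁻¹) ≠ 1 := fun h => hdy (by
      calc d * y = d * (y * d⁻¹ * y⁻¹) * (y * d) := by group
        _ = _ := by rw [h, one_mul])
    have hi : y * (d * (y * d⁻¹ * y⁻¹)) * y⁻¹ = (d * (y * d⁻¹ * y⁻¹))⁻¹ := by
      rw [yi]
      calc y * (d * (y * d⁻¹ * y)) * y = y * d * y * d⁻¹ * (y * y) := by group
        _ = _ := by rw [yy]; nth_rewrite 1 [← yi]; nth_rewrite 2 [← yi]; group
    refine ⟨_, ht, ht1, hi, fun x hxX => ?_⟩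
    by_cases c1 : x ∈ 𝐂(D)
    · left; rw [← mem_cent_iff.1 c1 _ ht, mul_inv_cancel_right]
    by_cases c2 : x * y ∈ 𝐂(D)
    · right
      have e := mem_cent_iff.1 c2 _ (inv_mem ht)
      generalize d * (y * d⁻¹ * y⁻¹) = t at *
      calc x * t * x⁻¹ = x * (y * t * y⁻¹)⁻¹ * x⁻¹ := by rw [hi, inv_inv]
        _ = (x * y * t⁻¹) * (x * y)⁻¹ := by group
        _ = t⁻¹ := by rw [← e]; group
    exfalso
    refine ht1 (four_grp ho (hX x hxX) yy (comm_of_sq hX hxX hy) (hXD hxX) (fun e he h => ?_)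
      (fun e he h => ?_) ht hi)
    · exact (mem_cent_iff.1 (hx x hxX c1) e ⟨he, mem_cent1_iff.2 h.symm⟩).symm
    · exact (mem_cent_iff.1 (hx _ (mul_mem hxX hy) c2) e ⟨he, mem_cent1_iff.2 h.symm⟩).symm

end grp

variable {W : Type*} [Group W] [Finite W]

/-- fixed points -/
def fx (X : Subgroup (MulAut W)) : Subgroup W where
  carrier := {w | ∀ x ∈ X, x w = w}
  one_mem' := fun x _ => map_one x
  mul_mem' := fun ha hb x hx => by rw [map_mul, ha x hx, hb x hx]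
  inv_mem' := fun ha x hx => by rw [map_inv, ha x hx]

theorem mem_fx {X : Subgroup (MulAut W)} {w : W} : w ∈ fx X ↔ ∀ x ∈ X, x w = w := Iff.rfl

theorem pow_apply_of_fix {t : MulAut W} {w : W} (h : t w = w) (n : ℕ) : (t ^ n) w = w := by
  induction n with
  | zero => rfl
  | succ n ih => rw [pow_succ, MulAut.mul_apply, h, ih]

theorem mem_fx_zpowers {t : MulAut W} {w : W} : w ∈ fx (zpowers t) ↔ t w = w := by
  refine ⟨fun h => h t (mem_zpowers t), fun h x hx => ?_⟩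
  obtain ⟨n, rfl⟩ := (Submonoid.mem_powers_iff _ _).1 (mem_powers_iff_mem_zpowers.2 hx)
  exact pow_apply_of_fix h n

theorem cm (hW : ∀ w : W, w * w = 1) (a b : W) : a * b = b * a :=
  comm_of_sq (X := ⊤) (fun x _ => hW x) trivial trivial

/-- the commutator map of `t` -/
def cmap (hW : ∀ w : W, w * w = 1) (t : MulAut W) : W →* W where
  toFun w := w⁻¹ * t w
  map_one' := by simp
  map_mul' a b := by
    rw [map_mul, mul_inv_rev, cm hW b⁻¹, mul_assoc, mul_assoc, ← mul_assoc b⁻¹, cm hW b⁻¹,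
      mul_assoc]

theorem cmap_ker (hW : ∀ w : W, w * w = 1) (t : MulAut W) : (cmap hW t).ker = fx (zpowers t) := by
  ext w
  rw [mem_fx_zpowers, MonoidHom.mem_ker]
  change w⁻¹ * t w = 1 ↔ _
  rw [inv_mul_eq_one, eq_comm]

theorem fpf (hW : ∀ w : W, w * w = 1) {t : MulAut W} (ho : ∃ n : ℕ, Odd n ∧ t ^ n = 1) {u : W}
    (hu : u ∈ (cmap hW t).range) (h : t u = u) : u = 1 := by
  obtain ⟨w, hw⟩ := hu
  change w⁻¹ * t w = u at hw
  have e : t w = w * u := by rw [← hw]; group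
  have e2 : ∀ k : ℕ, (t ^ k) w = w * u ^ k := by
    intro k
    induction k with
    | zero => simp
    | succ k ih =>
      rw [pow_succ', MulAut.mul_apply, ih, map_mul, map_pow, h, e, pow_succ', mul_assoc]
  obtain ⟨n, hn, hn1⟩ := ho
  refine eq_one_of_sq ⟨n, hn, ?_⟩ (hW u)
  have := e2 n
  rw [hn1, MulAut.one_apply] at this
  exact (left_eq_mul.1 this)

theorem conj_range (hW : ∀ w : W, w * w = 1) {t x : MulAut W} (h : x * t = t * x) {u : W}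
    (hu : u ∈ (cmap hW t).range) : x u ∈ (cmap hW t).range := by
  obtain ⟨w, rfl⟩ := hu
  refine ⟨x w, ?_⟩
  change (x w)⁻¹ * t (x w) = x (w⁻¹ * t w)
  rw [map_mul, map_inv, ← MulAut.mul_apply, ← h, MulAut.mul_apply]

theorem range_ne_bot (hW : ∀ w : W, w * w = 1) {t : MulAut W} (h1 : t ≠ 1) :
    (cmap hW t).range ≠ ⊥ := by
  intro h
  apply h1
  ext w
  have : cmap hW t w ∈ (⊥ : Subgroup W) := h ▸ ⟨w, rfl⟩
  exact (inv_mul_eq_one.1 (mem_bot.1 this)).symm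

theorem AB (hW : ∀ w : W, w * w = 1) {t : MulAut W} (ho : ∃ n : ℕ, Odd n ∧ t ^ n = 1)
    {X : Subgroup (MulAut W)} (hX : ∀ x ∈ X, x * x = 1) (hc : X ≤ 𝐂[t])
    (h : ∀ w ∈ fx X, t w = w) : t = 1 := by
  by_contra h1
  obtain ⟨U, ⟨hU1, hU2, hU3⟩, hmin⟩ := exists_minimal_of_wellFoundedLT
    (fun U : Subgroup W => U ≠ ⊥ ∧ U ≤ (cmap hW t).range ∧ ∀ x ∈ X, ∀ u ∈ U, x u ∈ U)
    ⟨_, range_ne_bot hW h1, le_rfl, fun x hx u hu => conj_range hW (mem_cent1_iff.1 (hc hx)) hu⟩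
  obtain ⟨⟨u, hu⟩, hu1⟩ := (ne_bot_iff_exists_ne_one).1 hU1
  have hu1' : u ≠ 1 := fun e => hu1 (Subtype.ext e)
  refine hu1' (fpf hW ho (hU2 hu) (h u fun y hy => ?_))
  have : U ≤ U ⊓ fx (zpowers y) := by
    refine hmin ⟨?_, inf_le_left.trans hU2, fun x hx v hv => ⟨hU3 x hx v hv.1, ?_⟩⟩ inf_le_left
    · by_cases e : y u = u
      · exact ne_bot_of_mem (x := u) ⟨hu, mem_fx_zpowers.2 e⟩ hu1'
      · refine ne_bot_of_mem (x := u * y u) ⟨mul_mem hu (hU3 y hy u hu), mem_fx_zpowers.2 ?_⟩ ?_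
        · rw [map_mul, ← MulAut.mul_apply, hX y hy, MulAut.one_apply, cm hW]
        · intro e2
          exact e (by rw [← inv_eq_of_mul_eq_one_right e2, inv_eq_of_mul_eq_one_right (hW u)])
    · refine mem_fx_zpowers.2 ?_
      rw [← MulAut.mul_apply, comm_of_sq hX hy hx, MulAut.mul_apply, mem_fx_zpowers.1 hv.2]
  exact mem_fx_zpowers.1 (this hu).2

theorem fx_anti {X Y : Subgroup (MulAut W)} (h : X ≤ Y) : fx Y ≤ fx X :=
  fun _ hw x hx => hw x (h hx)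

theorem step (hW : ∀ w : W, w * w = 1) {t y : MulAut W} (ho : ∃ n : ℕ, Odd n ∧ t ^ n = 1)
    (h1 : t ≠ 1) {X : Subgroup (MulAut W)} (hX : ∀ x ∈ X, x * x = 1) (hy : y ∈ X)
    (hi : y * t * y⁻¹ = t⁻¹) : 2 * (fx (X ⊓ 𝐂[t])).index ≤ (fx X).index := by
  have hle : fx X ≤ fx (X ⊓ 𝐂[t]) := fx_anti inf_le_left
  rw [← relIndex_mul_index hle]
  refine Nat.mul_le_mul_right _ ?_
  have h0 : (fx X).relIndex (fx (X ⊓ 𝐂[t])) ≠ 0 := index_ne_zero_of_finite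
  have h2 : (fx X).relIndex (fx (X ⊓ 𝐂[t])) ≠ 1 := by
    rw [Ne, relIndex_eq_one]
    intro hge
    refine h1 (AB hW ho (X := X ⊓ 𝐂[t]) (fun x hx => hX x hx.1) inf_le_right fun w hw => ?_)
    have htw : t w ∈ fx (X ⊓ 𝐂[t]) := fun x hx => by
      rw [← MulAut.mul_apply, mem_cent1_iff.1 hx.2, MulAut.mul_apply, hw x hx]
    have e1 : y (t w) = t w := hge htw y hy
    have e2 : y w = w := hge hw y hy
    have e3 : (t * t) w = w := by
      have : t * y * t = y := by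
        calc t * y * t = t * (y * t * y⁻¹) * y := by group
          _ = y := by rw [hi]; group
      rw [MulAut.mul_apply]
      nth_rewrite 1 [← e1]
      rw [← MulAut.mul_apply, ← MulAut.mul_apply, this, e2]
    obtain ⟨n, ⟨k, rfl⟩, hn⟩ := ho
    have := pow_apply_of_fix e3 k
    calc t w = t (((t * t) ^ k) w) := by rw [this]
      _ = (t ^ (2 * k + 1)) w := by rw [pow_succ', pow_mul, pow_two, MulAut.mul_apply]
      _ = w := by rw [hn, MulAut.one_apply]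
  omega

theorem hyp_idx {Γ : Type*} [Group Γ] {X : Subgroup Γ} {t y : Γ}
    (ho : ∃ n : ℕ, Odd n ∧ t ^ n = 1) (h1 : t ≠ 1) (hy : y ∈ X) (hi : y * t * y⁻¹ = t⁻¹)
    (h : ∀ x ∈ X, x * t * x⁻¹ = t ∨ x * t * x⁻¹ = t⁻¹) :
    y ∉ X ⊓ 𝐂[t] ∧ (X ⊓ 𝐂[t]).relIndex X = 2 := by
  have hne : t ≠ t⁻¹ := fun e => h1 (eq_one_of_sq ho (by nth_rewrite 1 [e]; rw [inv_mul_cancel]))
  have key : ∀ x, x ∈ 𝐂[t] ↔ x * t * x⁻¹ = t := fun x => by
    rw [mem_cent1_iff, mul_inv_eq_iff_eq_mul]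
  refine ⟨fun hy' => hne (((key y).1 hy'.2).symm.trans hi), ?_⟩
  rw [relIndex_eq_two_iff]
  refine ⟨y, hy, fun b hb => ?_⟩
  have e : b * y * t * (b * y)⁻¹ = (b * t * b⁻¹)⁻¹ := by
    calc b * y * t * (b * y)⁻¹ = b * (y * t * y⁻¹) * b⁻¹ := by group
      _ = _ := by rw [hi]; group
  rcases h b hb with e1 | e1
  · refine Or.inr ⟨⟨hb, (key b).2 e1⟩, fun h' => hne ?_⟩
    rw [← e1, ← e, (key _).1 h'.2, e1]
  · refine Or.inl ⟨⟨mul_mem hb hy, (key _).2 (by rw [e, e1, inv_inv])⟩, fun h' => hne ?_⟩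
    rw [← e1, (key _).1 h'.2]

theorem main (hW : ∀ w : W, w * w = 1) {D : Subgroup (MulAut W)}
    (ho : ∀ d ∈ D, ∃ n : ℕ, Odd n ∧ d ^ n = 1) :
    ∀ (n : ℕ) (X : Subgroup (MulAut W)), ♯X = n → (∀ x ∈ X, x * x = 1) → X ≤ 𝐍(D) →
      (∀ x ∈ X, x ∈ 𝐂(D) → x = 1) → ♯X ≤ (fx X).index ∧
        ((fx X).index ≤ ♯X → X ≤ closure {a | a ∈ X ∧ (fx (zpowers a)).index = 2}) := by
  intro n
  induction n using Nat.strong_induction_on with
  | _ n ih =>
  intro X hn hX hXD hf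
  have good : ∀ y ∈ X, y ≠ 1 → ∃ Y ≤ X, y ∉ Y ∧ Y.relIndex X = 2 ∧ 2 * ♯Y = ♯X ∧
      ♯X ≤ (fx X).index ∧
      ((fx X).index ≤ ♯X → Y ≤ closure {a | a ∈ X ∧ (fx (zpowers a)).index = 2}) := by
    intro y hy hy1
    obtain ⟨t, ht, h1, hi, h⟩ := exists_good hX hy _ D rfl ho hXD fun h => hy1 (hf y hy h)
    obtain ⟨k1, k2⟩ := hyp_idx (ho t ht) h1 hy hi h
    have k3 := step hW (ho t ht) h1 hX hy hi
    have k4 : 2 * ♯(X ⊓ 𝐂[t]) = ♯X := by
      rw [← k2, mul_comm]; exact card_mul_relIndex inf_le_left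
    have k5 : 0 < ♯(X ⊓ 𝐂[t]) := Nat.card_pos
    obtain ⟨i1, i2⟩ := ih _ (by omega) (X ⊓ 𝐂[t]) rfl (fun x hx => hX x hx.1)
      (inf_le_left.trans hXD) fun x hx => hf x hx.1
    refine ⟨_, inf_le_left, k1, k2, k4, by omega, fun h' => (i2 (by omega)).trans ?_⟩
    exact closure_mono fun a ha => ⟨ha.1.1, ha.2⟩
  by_cases hb : X = ⊥
  · subst hb
    refine ⟨?_, fun _ => bot_le⟩
    rw [card_bot]
    exact Nat.one_le_iff_ne_zero.2 index_ne_zero_of_finite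
  obtain ⟨⟨y, hy⟩, hy1⟩ := ne_bot_iff_exists_ne_one.1 hb
  have hy1' : y ≠ 1 := fun e => hy1 (Subtype.ext e)
  obtain ⟨Y, hY, k1, k2, k3, k4, k5⟩ := good y hy hy1'
  refine ⟨k4, fun h a ha => ?_⟩
  by_cases haY : a ∈ Y
  · exact k5 h haY
  by_cases hYb : Y = ⊥
  · subst hYb
    rw [card_bot] at k3
    have ha1 : a ≠ 1 := fun e => haY (e ▸ one_mem _)
    have : zpowers a = X := by
      refine eq_of_le_of_card_ge (zpowers_le.2 ha) ?_
      have := (one_lt_card_iff_ne_bot (zpowers a)).2 (by simpa using ha1)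
      omega
    refine subset_closure ⟨ha, ?_⟩
    rw [this]; omega
  obtain ⟨⟨z, hz⟩, hz1⟩ := ne_bot_iff_exists_ne_one.1 hYb
  have hz1' : z ≠ 1 := fun e => hz1 (Subtype.ext e)
  obtain ⟨Z, hZ, l1, l2, -, -, l5⟩ := good z (hY hz) hz1'
  by_cases haZ : a ∈ Z
  · exact l5 h haZ
  have : a * z ∈ Z := by
    have := (mul_mem_iff_of_index_two (H := Z.subgroupOf X) l2 (a := ⟨a, ha⟩)
      (b := ⟨z, hY hz⟩)).2 (by simp [mem_subgroupOf, haZ, l1])
    exact this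
  have := mul_mem (l5 h this) (inv_mem (k5 h hz))
  rwa [mul_inv_cancel_right] at this

theorem sq_of_tv (hW : ∀ w : W, w * w = 1) {a : MulAut W} (h : (fx (zpowers a)).index = 2) :
    a * a = 1 := by
  ext w
  rw [MulAut.mul_apply, MulAut.one_apply]
  by_cases hw : a w = w
  · rw [hw, hw]
  have h2 : a (a w) ≠ a w := fun e => hw (a.injective e)
  have := mem_fx_zpowers.1 ((mul_mem_iff_of_index_two h (a := w) (b := a w)).2
    (by rw [mem_fx_zpowers, mem_fx_zpowers]; exact iff_of_false hw h2))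
  rw [map_mul, cm hW w] at this
  exact mul_left_cancel this

theorem three (hW : ∀ w : W, w * w = 1) {D : Subgroup (MulAut W)}
    (ho : ∀ d ∈ D, ∃ n : ℕ, Odd n ∧ d ^ n = 1) {a : MulAut W} (hD : a ∈ 𝐍(D)) (hc : a ∉ 𝐂(D))
    (h : (fx (zpowers a)).index = 2) : 3 ∣ ♯D := by
  obtain ⟨d, hd, hda⟩ : ∃ d ∈ D, d * a ≠ a * d := by
    by_contra h
    push Not at h
    exact hc (mem_cent_iff.2 h)
  obtain ⟨t, ht⟩ : ∃ t, t = d * (a * d⁻¹ * a⁻¹) := ⟨_, rfl⟩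
  have htD : t ∈ D := ht ▸ mul_mem hd (conj_mem hD (inv_mem hd))
  have ht1 : t ≠ 1 := fun h => hda (by
    calc d * a = d * (a * d⁻¹ * a⁻¹) * (a * d) := by group
      _ = _ := by rw [← ht, h, one_mul])
  have i1 : ((fx (zpowers a)).comap (d⁻¹ : MulAut W).toMonoidHom).index = 2 := by
    rw [index_comap_of_surjective _ (d⁻¹ : MulAut W).surjective, h]
  have hle : fx (zpowers a) ⊓ (fx (zpowers a)).comap (d⁻¹ : MulAut W).toMonoidHom ≤
      (cmap hW t).ker := by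
    intro w hw
    rw [cmap_ker, mem_fx_zpowers]
    have e1 : a w = w := mem_fx_zpowers.1 hw.1
    have e2 : a (d⁻¹ w) = d⁻¹ w := mem_fx_zpowers.1 hw.2
    have e3 : a⁻¹ w = w := by
      nth_rewrite 1 [← e1]; rw [← MulAut.mul_apply, inv_mul_cancel, MulAut.one_apply]
    rw [ht, MulAut.mul_apply, MulAut.mul_apply, MulAut.mul_apply, e3, e2, ← MulAut.mul_apply,
      mul_inv_cancel, MulAut.one_apply]
  have i2 : ♯(cmap hW t).range ≤ 4 := by
    rw [← index_ker]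
    refine (Nat.le_of_dvd (Nat.pos_of_ne_zero index_ne_zero_of_finite) (index_dvd_of_le hle)).trans
      (index_inf_le.trans ?_)
    rw [h, i1]
  obtain ⟨⟨u, hu⟩, hu1⟩ := ne_bot_iff_exists_ne_one.1 (range_ne_bot hW ht1)
  have hu1' : u ≠ 1 := fun e => hu1 (Subtype.ext e)
  have hsub : MulAction.orbit (zpowers t) u ⊆ ((cmap hW t).range : Set W) \ {1} := by
    rintro _ ⟨⟨x, hx⟩, rfl⟩
    refine ⟨conj_range hW (x := x) ?_ hu, fun e => hu1' (x.injective (e.trans (map_one x).symm))⟩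
    obtain ⟨k, rfl⟩ := hx
    exact ((Commute.refl t).zpow_left k).eq
  have c1 : (MulAction.orbit (zpowers t) u).ncard ≤ 3 := by
    have := Set.ncard_le_ncard hsub
    rw [Set.ncard_diff_singleton_of_mem (one_mem (cmap hW t).range)] at this
    have e : ((cmap hW t).range : Set W).ncard = ♯(cmap hW t).range := rfl
    omega
  have c2 : (MulAction.orbit (zpowers t) u).ncard ∣ orderOf t := by
    rw [← Nat.card_zpowers, ← MulAction.index_stabilizer]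
    exact index_dvd_card _
  have c3 : (MulAction.orbit (zpowers t) u).ncard ≠ 1 := by
    intro e
    obtain ⟨v, hv⟩ := Set.ncard_eq_one.1 e
    have m1 : u ∈ MulAction.orbit (zpowers t) u := MulAction.mem_orbit_self u
    have m2 : t u ∈ MulAction.orbit (zpowers t) u := ⟨⟨t, mem_zpowers t⟩, rfl⟩
    rw [hv] at m1 m2
    exact hu1' (fpf hW (ho t htD) hu (m2.trans m1.symm))
  obtain ⟨n, hn, hn1⟩ := ho t htD
  have c4 := Odd.of_dvd_nat hn (c2.trans (orderOf_dvd_of_pow_eq_one hn1))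
  have c5 : (MulAction.orbit (zpowers t) u).ncard = 3 := by
    obtain ⟨k, hk⟩ := c4
    omega
  rw [c5] at c2
  exact c2.trans (D.orderOf_dvd_natCard htD)

end Cfsg.Agent.SG.Ma
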