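import Cfsg.Agent.SG.Defs
import Cfsg.Agent.FT.P.BG01
import Cfsg.Agent.SG.Ma1

/-! Section Ma: offenders (see notes/s0217_plan.md). -/

set_option autoImplicit false
set_option linter.unusedSectionVars false

namespace Cfsg.Agent.SG

open Subgroup Cfsg.Agent.FT Cfsg.Agent.SF Cfsg.Agent.H1
open scoped commutatorElement

universe u
variable {G : Type u} [Group G] [Finite G]

variable {V L D P X : Subgroup G}

namespace Ma

/-- the group of automorphisms of `V` induced by `X` -/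
def im (V X : Subgroup G) : Subgroup (MulAut V) :=
  (X.subgroupOf 𝐍(V)).map V.normalizerMonoidHom

theorem mem_im {x : MulAut V} : x ∈ im V X ↔
    ∃ g : 𝐍(V), (g : G) ∈ X ∧ V.normalizerMonoidHom g = x := Iff.rfl

theorem eq_one_iff (g : 𝐍(V)) : V.normalizerMonoidHom g = 1 ↔ (g : G) ∈ 𝐂(V) := by
  rw [← MonoidHom.mem_ker, normalizerMonoidHom_ker, mem_subgroupOf]

theorem fix_iff (g : 𝐍(V)) (v : V) :
    V.normalizerMonoidHom g v = v ↔ (g : G) * v = v * g := by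
  rw [Subtype.ext_iff]
  change (g : G) * v * (g : G)⁻¹ = v ↔ _
  rw [mul_inv_eq_iff_eq_mul]

theorem card_im (hX : X ≤ 𝐍(V)) : ♯(im V X) = (𝐂(V)).relIndex X := by
  rw [im, ← relIndex_ker, normalizerMonoidHom_ker, relIndex_subgroupOf hX]

theorem fx_im (hX : X ≤ 𝐍(V)) : fx (im V X) = (𝐂(X)).subgroupOf V := by
  ext v
  rw [mem_fx, mem_subgroupOf, mem_cent_iff]
  refine ⟨fun h x hx => (fix_iff ⟨x, hX hx⟩ v).1 (h _ ⟨⟨x, hX hx⟩, hx, rfl⟩), ?_⟩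
  rintro h _ ⟨g, hg, rfl⟩
  exact (fix_iff g v).2 (h g hg)

theorem fx_one (g : 𝐍(V)) :
    fx (zpowers (V.normalizerMonoidHom g)) = (𝐂[(g : G)]).subgroupOf V := by
  ext v
  rw [mem_fx_zpowers, mem_subgroupOf, mem_cent1_iff, fix_iff, eq_comm]

theorem odd_im (h : TM0 V L D P) : ∀ d ∈ im V D, ∃ n : ℕ, Odd n ∧ d ^ n = 1 := by
  rintro _ ⟨g, hg, rfl⟩
  obtain ⟨n, hn, h1⟩ := h.odd g hg
  exact ⟨n, hn, by rw [← map_pow, eq_one_iff]; exact h1⟩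

theorem norm_im (h : TM0 V L D P) (g : 𝐍(V)) (hg : (g : G) ∈ P) :
    V.normalizerMonoidHom g ∈ 𝐍(im V D) := by
  refine mem_normalizer_of_conj_mem ?_
  rintro _ ⟨d, hd, rfl⟩
  exact ⟨g * d * g⁻¹, conj_mem (D := D) (x := g) (d := d) (h.DL.2 (h.PL hg)) hd,
    by rw [map_mul, map_mul, map_inv]⟩

theorem faith_im (h : TM0 V L D P) (g : 𝐍(V)) (hg : (g : G) ∈ P)
    (hc : V.normalizerMonoidHom g ∈ 𝐂(im V D)) : V.normalizerMonoidHom g = 1 := by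
  rw [eq_one_iff]
  refine h.faith g hg fun d hd => ?_
  have hdN : d ∈ 𝐍(V) := h.nV (h.DL.1 hd)
  have e := mem_cent_iff.1 hc _ ⟨⟨d, hdN⟩, hd, rfl⟩
  refine (eq_one_iff ⁅g, ⟨d, hdN⟩⁆).1 ?_
  rw [map_commutatorElement, commutatorElement_eq_one_iff_mul_comm, e]

theorem both (h : TM0 V L D P) (hX : X ≤ P) (he : ∀ x ∈ X, x * x ∈ 𝐂(V)) :
    ♯(im V X) ≤ (fx (im V X)).index ∧ ((fx (im V X)).index ≤ ♯(im V X) →
      im V X ≤ closure {a | a ∈ im V X ∧ (fx (zpowers a)).index = 2}) := by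
  refine main (fun w => Subtype.ext (h.ea w w.2)) (odd_im h) _ _ rfl ?_ ?_ ?_
  · rintro _ ⟨g, hg, rfl⟩
    rw [← map_mul, eq_one_iff]
    exact he g hg
  · rintro _ ⟨g, hg, rfl⟩
    exact norm_im h g (hX hg)
  · rintro _ ⟨g, hg, rfl⟩
    exact faith_im h g (hX hg)

end Ma

open Ma

theorem TM0.ff1 (h : TM0 V L D P) (hX : X ≤ P) (he : ∀ x ∈ X, x * x ∈ 𝐂(V)) :
    (𝐂(V)).relIndex X ≤ (𝐂(X)).relIndex V := by
  have hN : X ≤ 𝐍(V) := hX.trans (h.PL.trans h.nV)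
  have := (both h hX he).1
  rwa [card_im hN, fx_im hN] at this

theorem TM0.ff2 (h : TM0 V L D P) (hX : X ≤ P) (he : ∀ x ∈ X, x * x ∈ 𝐂(V))
    (ho : (𝐂(X)).relIndex V ≤ (𝐂(V)).relIndex X) :
    X ≤ closure {a | a ∈ X ∧ tv V a} ⊔ (X ⊓ 𝐂(V)) := by
  have hN : X ≤ 𝐍(V) := hX.trans (h.PL.trans h.nV)
  have h1 := (both h hX he).2 (by rw [card_im hN, fx_im hN]; exact ho)
  have h2 : closure {a | a ∈ im V X ∧ (fx (zpowers a)).index = 2} ≤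
      im V (closure {a | a ∈ X ∧ tv V a}) := by
    rw [closure_le]
    rintro _ ⟨⟨g, hg, rfl⟩, h3⟩
    rw [fx_one] at h3
    exact ⟨g, subset_closure (k := {a | a ∈ X ∧ tv V a}) ⟨hg, h3⟩, rfl⟩
  intro x hx
  obtain ⟨g, hg, e⟩ := h2 (h1 ⟨⟨x, hN hx⟩, hx, rfl⟩)
  have hgX : (g : G) ∈ X := (closure_le X).2 (fun a ha => ha.1) hg
  have hc : (g : G)⁻¹ * x ∈ 𝐂(V) := (eq_one_iff (g⁻¹ * ⟨x, hN hx⟩)).1 (by
    rw [map_mul, map_inv, e, inv_mul_cancel])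
  have := mul_mem (mem_sup_left (T := X ⊓ 𝐂(V)) (mem_subgroupOf.1 hg))
    (mem_sup_right (mem_inf.2 ⟨X.mul_mem (X.inv_mem hgX) hx, hc⟩))
  rwa [mul_inv_cancel_left] at this

theorem TM0.three_dvd (h : TM0 V L D P) {a : G} (ha : a ∈ P) (h1 : tv V a) : 3 ∣ ♯D := by
  have hN : a ∈ 𝐍(V) := h.nV (h.PL ha)
  have h2 : (fx (zpowers (V.normalizerMonoidHom ⟨a, hN⟩))).index = 2 := by
    rw [fx_one]; exact h1
  refine (three (fun w => Subtype.ext (h.ea w w.2)) (odd_im h) (norm_im h ⟨a, hN⟩ ha)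
    (fun hc => ?_) h2).trans ?_
  · rw [faith_im h _ ha hc, zpowers_one_eq_bot,
      show fx (⊥ : Subgroup (MulAut V)) = ⊤ from
        eq_top_iff.2 fun w _ x hx => by rw [mem_bot.1 hx]; rfl, index_top] at h2
    omega
  · rw [card_im (h.DL.1.trans h.nV)]
    exact relIndex_dvd_card _ _

end Cfsg.Agent.SG
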