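import Cfsg.Agent.SG.Mb2
import Cfsg.Agent.FT.P.BG01

/-! Section Mb: transvections (see notes/s0217_plan.md). -/

set_option autoImplicit false
set_option linter.unusedSectionVars false

namespace Cfsg.Agent.SG

open Subgroup Cfsg.Agent.FT Cfsg.Agent.SF Cfsg.Agent.H1
open scoped commutatorElement

universe u
variable {G : Type u} [Group G] [Finite G]

variable {V L D P : Subgroup G} {a b t : G}

theorem TM.card_comm (h : TM V L D P) (ha : a ∈ P) (h1 : tv V a) : ♯⁅V, zpowers a⁆ = 2 := by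
  obtain ⟨b, y, z, hd⟩ := Mb.exists_dat h.toTM0 ha h1
  rw [hd.pr.ta.comm_eq hd.pr.ea]
  exact Mb.card_zpowers_sq (h.ea y hd.pr.yV) hd.pr.ta.z1

theorem TM.idx3 (h : TM V L D P) (ha : a ∈ P) (h1 : tv V a) :
    (L ⊓ 𝐂(V)).relIndex (Ta V L D a) = 3 := by
  obtain ⟨b, y, z, hd⟩ := Mb.exists_dat h.toTM0 ha h1
  exact hd.idx3 h.toTM0

theorem TM.card4 (h : TM V L D P) (ha : a ∈ P) (h1 : tv V a) : ♯(Va V L D a) = 4 := by
  obtain ⟨b, y, z, hd⟩ := Mb.exists_dat h.toTM0 ha h1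
  rw [hd.U]
  exact hd.pr.card_U

theorem TM.fpf (h : TM V L D P) (ha : a ∈ P) (h1 : tv V a) (ht : t ∈ Ta V L D a) (h2 : t ∉ 𝐂(V)) :
    Va V L D a ⊓ 𝐂[t] = ⊥ := by
  obtain ⟨b, y, z, hd⟩ := Mb.exists_dat h.toTM0 ha h1
  exact eq_bot_iff.2 fun v hv =>
    mem_bot.2 (hd.fpf h.toTM0 ht h2 (hd.U.le hv.1) (Mb.cc_eq_iff.2 hv.2))

theorem TM.split (h : TM V L D P) (ha : a ∈ P) (h1 : tv V a) :
    V ≤ Va V L D a ⊔ (V ⊓ 𝐂(Ta V L D a)) := by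
  obtain ⟨b, y, z, hd⟩ := Mb.exists_dat h.toTM0 ha h1
  intro v hv
  obtain ⟨u, hu, c, hc, h3, h4, rfl⟩ := hd.pr.dec hv
  exact mul_mem_sup (hd.U.ge hu) ⟨hc, hd.c_cent hc h3 h4⟩

theorem TM.cent_le (h : TM V L D P) (ha : a ∈ P) (h1 : tv V a) :
    V ⊓ 𝐂(Ta V L D a) ≤ 𝐂[a] := by
  obtain ⟨b, y, z, hd⟩ := Mb.exists_dat h.toTM0 ha h1
  exact hd.cent_le

theorem TM.comm_le (h : TM V L D P) (ha : a ∈ P) (h1 : tv V a) : ⁅V, zpowers a⁆ ≤ Va V L D a := by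
  obtain ⟨b, y, z, hd⟩ := Mb.exists_dat h.toTM0 ha h1
  rw [hd.pr.ta.comm_eq hd.pr.ea, hd.U]
  exact le_sup_left

/-- `[D, T_a] ≤ K` -/
theorem TM.central (h : TM V L D P) (ha : a ∈ P) (h1 : tv V a) : ⁅D, Ta V L D a⁆ ≤ 𝐂(V) := by
  obtain ⟨b, y, z, hd⟩ := Mb.exists_dat h.toTM0 ha h1
  exact hd.central h.toTM0 ha

theorem TM.sep (h : TM V L D P) (ha : a ∈ P) (h1 : tv V a) (hb : b ∈ P) (h2 : tv V b) :
    Ta V L D a = Ta V L D b ∨ Va V L D a ⊓ Va V L D b = ⊥ ∧ Va V L D a ≤ 𝐂(Ta V L D b) ∧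
      Va V L D a ≤ 𝐂[b] := by
  obtain ⟨c, y, z, hd⟩ := Mb.exists_dat h.toTM0 ha h1
  obtain ⟨c', y', z', hd'⟩ := Mb.exists_dat h.toTM0 hb h2
  by_cases h3 : Va V L D a ⊓ Va V L D b = ⊥
  · have h4 : Va V L D a ≤ 𝐂(Ta V L D b) := by
      rw [le_cent_iff_commutator, eq_bot_iff, ← h3]
      exact le_inf (commutator_le_left' ((Mb.Ta_le h.toTM0 hb).trans (Mb.norm_Va h.toTM0 a)))
        (commutator_mono (hd.U.le.trans hd.pr.U_le) le_rfl)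
    exact Or.inr ⟨h3, h4, (le_inf (hd.U.le.trans hd.pr.U_le) h4).trans hd'.cent_le⟩
  · have h4 : Va V L D a = Va V L D b :=
      le_antisymm (hd.V_le_of_ne h.toTM0 h3) (hd'.V_le_of_ne h.toTM0 (by rwa [inf_comm]))
    exact Or.inl (le_antisymm (hd'.T_le_of_eq h.toTM0 hb ha hd h4.symm)
      (hd.T_le_of_eq h.toTM0 ha hb hd' h4))

theorem TM.zc (h : TM V L D P) (ha : a ∈ P) (h1 : tv V a) (hb : b ∈ P) (h2 : tv V b) :
    ⁅V, zpowers a⁆ ≤ 𝐂[b] := by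
  rcases h.sep ha h1 hb h2 with h3 | h3
  swap
  · exact (h.comm_le ha h1).trans h3.2.2
  obtain ⟨c, y, z, hd⟩ := Mb.exists_dat h.toTM0 ha h1
  obtain ⟨c', y', z', hd'⟩ := Mb.exists_dat h.toTM0 hb h2
  have ea := hd.pr.ea
  have yV := hd.pr.yV
  have yV' := hd'.pr.yV
  rw [hd.pr.ta.comm_eq ea, zpowers_le, ← Mb.cc_eq_iff]
  refine (hd'.pr.ta.cas y yV).resolve_right fun h4 => ?_
  have h5 : y' ∈ zpowers y ⊔ zpowers z := by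
    rw [← hd.U, Va, h3]
    exact hd'.U.ge (mem_sup_left (mem_zpowers y'))
  have h6 : Mb.cc a y' = y' * y := by
    rcases hd.pr.mem_U.1 h5 with h6 | h6 | h6 | h6
    · exact absurd h6 hd'.pr.ta.z1
    · rw [← h6, hd'.pr.ta.fz, left_eq_mul] at h4
      exact absurd h4 hd'.pr.ta.z1
    · rw [h6, hd.pr.az]
    · rw [h6, Mb.cc_mul, hd.pr.ta.fz, hd.pr.az, mul_assoc]
  have hp : Mb.Pr V a b y y' := ⟨ea, hd.pr.ta, hd'.pr.ta, h6, h4⟩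
  obtain ⟨k, hk⟩ := isPGroup_iff_mem.1 h.two _ (mul_mem hb (inv_mem ha))
  refine hp.t_not ?_
  have h7 : (b * a⁻¹) ^ 3 ∈ 𝐂(V) := hp.t3
  have h8 : Nat.Coprime 3 (orderOf (b * a⁻¹)) :=
    Nat.Coprime.coprime_dvd_right (orderOf_dvd_of_pow_eq_one hk)
      (Nat.Coprime.pow_right k (by norm_num))
  obtain ⟨m, hm⟩ := exists_pow_eq_self_of_coprime h8
  rw [← hm]
  exact pow_mem h7 m

theorem cj_Ta {g : G} (h1 : g ∈ 𝐍(V)) (h2 : g ∈ 𝐍(L)) (h3 : g ∈ 𝐍(D)) :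
    cj g (Ta V L D a) = Ta V L D (g * a * g⁻¹) := by
  rw [Ta, Ta, cj_sup, cj_commutator, cj_inf, cj_centralizer, cj_zpowers,
    cj_eq_iff_mem_normalizer.2 h1, cj_eq_iff_mem_normalizer.2 h2, cj_eq_iff_mem_normalizer.2 h3]

theorem cj_Va {g : G} (h1 : g ∈ 𝐍(V)) (h2 : g ∈ 𝐍(L)) (h3 : g ∈ 𝐍(D)) :
    cj g (Va V L D a) = Va V L D (g * a * g⁻¹) := by
  rw [Va, Va, cj_commutator, cj_Ta h1 h2 h3, cj_eq_iff_mem_normalizer.2 h1]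

theorem tv.conj {g : G} (h : tv V a) (h1 : g ∈ 𝐍(V)) : tv V (g * a * g⁻¹) := by
  rw [tv, ← cj_cent1, ← cj_eq_iff_mem_normalizer.2 h1, relIndex_cj]
  exact h

end Cfsg.Agent.SG
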