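import Cfsg.Agent.SG.IMb
import Cfsg.Agent.H2.N8

/-! Section Mc: fixed points of a coprime operator group (see notes/s0217_plan.md). -/

set_option autoImplicit false
set_option linter.unusedSectionVars false

namespace Cfsg.Agent.SG

open Subgroup Cfsg.Agent.FT Cfsg.Agent.SF Cfsg.Agent.H1
open scoped commutatorElement

universe u
variable {G : Type u} [Group G] [Finite G]

variable {V L D P X B : Subgroup G}

theorem mc_glue {ι : Type*} (H : Subgroup G) (W : ι → Subgroup G) (s : ι → G) (hs : ∀ i, s i ∈ H)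
    (h1 : ∀ i j, W i ≠ W j → s i ∈ 𝐂(W j)) (h2 : ∀ i j, W i = W j → (s i)⁻¹ * s j ∈ 𝐂(W i))
    (h3 : ∀ i, s i ∈ 𝐍(W i)) (F : Finset ι) :
    ∃ d ∈ H, (∀ i ∈ F, (s i)⁻¹ * d ∈ 𝐂(W i)) ∧ ∀ j, (∀ i ∈ F, W i ≠ W j) → d ∈ 𝐂(W j) := by
  classical
  induction F using Finset.induction_on with
  | empty => exact ⟨1, one_mem _, by simp, fun _ _ => one_mem _⟩
  | insert i F _ ih =>
    obtain ⟨d, hd, k1, k2⟩ := ih
    by_cases e : ∃ k ∈ F, W k = W i
    · obtain ⟨k, hk, e⟩ := e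
      refine ⟨d, hd, fun j hj => ?_, fun j hj => k2 j fun l hl => hj l (Finset.mem_insert_of_mem hl)⟩
      rcases Finset.mem_insert.1 hj with rfl | hj
      · have := mul_mem (h2 j k e.symm) (e ▸ k1 k hk)
        rwa [mul_assoc, mul_inv_cancel_left] at this
      · exact k1 j hj
    · push Not at e
      refine ⟨d * s i, mul_mem hd (hs i), fun j hj => ?_, fun j hj => mul_mem
        (k2 j fun l hl => hj l (Finset.mem_insert_of_mem hl)) (h1 i j (hj i (Finset.mem_insert_self _ _)))⟩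
      rcases Finset.mem_insert.1 hj with rfl | hj
      · rw [← mul_assoc]
        exact conj_mem_of_mem_normalizer' (le_normalizer_centralizer le_rfl (h3 j)) (k2 j e)
      · rw [← mul_assoc]
        exact mul_mem (k1 j hj) (h1 i j (e j hj).symm)

theorem mc_cj {W : Subgroup G} {x : G} (g : G) (h : x ∈ 𝐂(W)) : g * x * g⁻¹ ∈ 𝐂(cj g W) := by
  rw [← cj_centralizer]; exact conj_mem_cj h

/-- the norm argument -/
theorem mc_norm {W B H : Subgroup G} (hBW : B ⊓ 𝐍(W) ≤ 𝐂(W)) (hB : B ≤ 𝐍(H)) (hH : H ≤ 𝐍(W))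
    (hc : (♯B).Coprime ♯H) (hs : Group.IsSolvable H) {s : G} (h0 : s ∈ H)
    (h1 : ∀ b ∈ B, cj b W ≠ W → s ∈ 𝐂(cj b W)) : ∃ d ∈ H ⊓ 𝐂(B), s⁻¹ * d ∈ 𝐂(W) := by
  classical
  have := Fintype.ofFinite B
  obtain ⟨d, hd, k, -⟩ := mc_glue H (fun b : B => cj b W) (fun b : B => b * s * (b : G)⁻¹)
    (fun b => conj_mem_of_mem_normalizer (hB b.2) h0)
    (fun b c e => by
      have := mc_cj (b : G) (h1 ((b : G)⁻¹ * c) (mul_mem (inv_mem b.2) c.2) fun e1 => e (by
        rw [cj_mul] at e1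
        rw [← cj_cj_inv (b : G) (cj (c : G) W), e1]))
      rwa [← cj_mul, mul_inv_cancel_left] at this)
    (fun b c e => by
      have e1 : (b : G)⁻¹ * c ∈ 𝐂(W) := hBW ⟨B.mul_mem (B.inv_mem b.2) c.2,
        cj_eq_iff_mem_normalizer.1 (by rw [cj_mul, ← show cj (b : G) W = cj (c : G) W from e, cj_inv_cj])⟩
      have := mc_cj (b : G) (mul_mem (conj_mem_of_mem_normalizer'
        (le_normalizer_centralizer le_rfl (hH h0)) e1) (inv_mem e1))
      convert this using 1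
      group)
    (fun b => by rw [← cj_normalizer]; exact conj_mem_cj (hH h0)) Finset.univ
  have k' : ∀ b ∈ B, (b * s * b⁻¹)⁻¹ * d ∈ 𝐂(cj b W) := fun b hb => k ⟨b, hb⟩ (Finset.mem_univ _)
  obtain ⟨c, hc, n, hn, rfl⟩ := H2.exists_centralizer_mul (A := B) (N := H ⊓ ⨅ b : B, 𝐂(cj (b : G) W))
    (le_normalizer_inf hB (le_normalizer_of_conj_mem fun a ha x hx => mem_iInf.2 fun b => by
      have := mc_cj a (mem_iInf.1 hx ⟨a⁻¹ * b, mul_mem (inv_mem ha) b.2⟩)
      rwa [← cj_mul, mul_inv_cancel_left] at this))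
    (hc.coprime_dvd_right (card_dvd_of_le' inf_le_left))
    (Or.inr (isSolvable_of_le inf_le_left hs)) (x := d) (fun a ha => ⟨by
      have := mul_mem (inv_mem hd) (conj_mem_of_mem_normalizer (hB ha) hd)
      rwa [← mul_assoc, ← mul_assoc] at this, mem_iInf.2 fun b => by
      have e1 := mc_cj a (k' (a⁻¹ * b) (mul_mem (inv_mem ha) b.2))
      rw [← cj_mul, mul_inv_cancel_left] at e1
      convert mul_mem (inv_mem (k' b b.2)) e1 using 1
      group⟩)
  refine ⟨c, ⟨by simpa using mul_mem hd (inv_mem hn.1), hc⟩, ?_⟩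
  have e1 := mul_mem (k' 1 (one_mem B)) (inv_mem (mem_iInf.1 hn.2 1))
  rw [cj_one] at e1
  convert e1 using 1
  group

theorem mc_four {W B : Subgroup G} (h4 : ♯W = 4) (h2 : ∀ w ∈ W, w * w = 1) (h6 : (♯B).Coprime 6) :
    B ⊓ 𝐍(W) ≤ 𝐂(W) := by
  rw [← relIndex_eq_one]
  exact Nat.eq_one_of_dvd_coprimes h6 ((relIndex_dvd_card' _ _).trans (card_dvd_of_le' inf_le_left))
    ((H2.relIndex_centralizer_dvd inf_le_right).trans
      (H2.card_mulAut_dvd_six h4 fun e => Subtype.ext (by simpa [sq] using h2 e e.2)))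

theorem TM.norm (h : TM V L D P) (hs : Group.IsSolvable L) (hc : (♯B).Coprime ♯L)
    (h6 : (♯B).Coprime 6) (h1 : B ≤ 𝐍(V)) (h2 : B ≤ 𝐍(L)) (h3 : B ≤ 𝐍(D)) (h4 : B ≤ 𝐍(X))
    (hX : X ≤ P) (he : ∀ x ∈ X, x * x ∈ 𝐂(V))
    (hg : X ≤ closure {a | a ∈ X ∧ tv V a} ⊔ (X ⊓ 𝐂(V))) :
    V ⊓ 𝐂(⁅D ⊓ 𝐂(B), X ⊓ 𝐂(B)⁆) ≤ 𝐂(X) := by
  rintro v ⟨hv, hv0⟩
  suffices k : ∀ a ∈ X, tv V a → v ∈ 𝐂[a] by
    rw [← le_cent1_iff]
    refine hg.trans (sup_le ((closure_le _).2 fun a ha => mem_cent1_comm.1 (k a ha.1 ha.2))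
      (inf_le_right.trans (cent_le_cent1 hv)))
  intro a ha ht
  have haP := hX ha
  have hTD : ∀ b ∈ P, Ta V L D b ≤ D := fun b hb =>
    sup_le (commutator_le_left' (zpowers_le_normalizer (h.DL.norm (h.PL hb)))) h.KD
  have hDV := h.DL.le.trans h.nV
  have hWV : Va V L D a ≤ V := commutator_le_left' ((hTD a haP).trans hDV)
  have hDT : D ≤ 𝐍(Ta V L D a) := le_normalizer_of_commutator_le (by
    rw [commutator_comm]
    exact (le_inf ((commutator_mono h.DL.le ((hTD a haP).trans h.DL.le)).trans (der_le L))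
      (h.central haP ht)).trans le_sup_right)
  have hDW : D ≤ 𝐍(Va V L D a) := le_normalizer_commutator hDV hDT
  have hXW : X ≤ 𝐍(Va V L D a) := by
    refine hg.trans (sup_le ((closure_le _).2 fun b hb => ?_)
      (inf_le_right.trans ((cent_anti hWV).trans (cent_le_norm _))))
    rcases h.sep haP ht (hX hb.1) hb.2 with e | ⟨-, -, e⟩
    · have e1 : Va V L D a = Va V L D b := by rw [Va, Va, e]
      have hb1 := h.PL (hX hb.1)
      refine cj_eq_iff_mem_normalizer.1 ?_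
      rw [e1, cj_Va (h.nV hb1) (le_normalizer hb1) (h.DL.norm hb1), mul_inv_cancel_right]
    · exact cent_le_norm _ (le_cent1_iff.1 e)
  have hBW := mc_four (h.card4 haP ht) (fun w hw => h.ea w (hWV hw)) h6
  have hsep : ∀ b ∈ B, cj b (Va V L D a) ≠ Va V L D a →
      Ta V L D a ≤ 𝐂(cj b (Va V L D a)) ∧ a ∈ 𝐂(cj b (Va V L D a)) := fun b hb e => by
    rw [cj_Va (h1 hb) (h2 hb) (h3 hb)] at e ⊢
    rcases h.sep (hX (conj_mem_of_mem_normalizer (h4 hb) ha)) (ht.conj (h1 hb)) haP ht with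
      e1 | ⟨-, e1, e2⟩
    · exact absurd (by rw [Va, Va, e1]) e
    · exact ⟨cent_symm e1, le_cent1_iff.1 e2⟩
  have haV : a ∉ 𝐂(V) := fun e => by
    have := relIndex_eq_one.2 (le_cent1_iff.2 e)
    rw [show (𝐂[a]).relIndex V = 2 from ht] at this
    omega
  obtain ⟨d₀, hd₀, ht0⟩ : ∃ d ∈ D, ⁅a, d⁆ ∉ 𝐂(V) := by
    by_contra hn
    push Not at hn
    exact haV (h.faith a haP hn)
  have htT : ⁅a, d₀⁆ ∈ Ta V L D a := by
    rw [← commutatorElement_inv]
    exact inv_mem (mem_sup_left (commutator_mem_commutator hd₀ (mem_zpowers a)))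
  generalize ht1 : ⁅a, d₀⁆ = t at ht0 htT
  have htD := hTD a haP htT
  have huT : ⁅t, a⁆ ∈ Ta V L D a := mem_sup_left (commutator_mem_commutator htD (mem_zpowers a))
  have hu : ⁅t, a⁆ ∉ 𝐂(V) := fun e => by
    have e1 : t * t ∈ 𝐂(V) := by
      have := mul_mem e (inv_mem (mul_mem (conj_mem_of_mem_normalizer
        (le_normalizer_centralizer hDV hd₀) (he a ha)) (inv_mem (he a ha))))
      convert this using 1
      rw [← ht1]; simp only [commutatorElement_def]; group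
    obtain ⟨n, ⟨m, rfl⟩, hn⟩ := h.odd t htD
    rw [pow_succ, pow_mul, sq] at hn
    exact ht0 ((mul_mem_cancel_left (pow_mem e1 m)).1 hn)
  obtain ⟨d, hd, e1⟩ := mc_norm hBW h3 hDW (hc.coprime_dvd_right (card_dvd_of_le' h.DL.le))
    (isSolvable_of_le h.DL.le hs) htD fun b hb e => (hsep b hb e).1 htT
  obtain ⟨τ, hτ, e2⟩ := mc_norm hBW h4 hXW
    (hc.coprime_dvd_right (card_dvd_of_le' (hX.trans h.PL)))
    (isSolvable_of_le (hX.trans h.PL) hs) ha fun b hb e => (hsep b hb e).2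
  have hg0 := mem_cent_iff.1 hv0 _ (commutator_mem_commutator hd hτ)
  have hgD : ⁅d, τ⁆ ∈ D := commutator_le_left' (hX.trans (h.PL.trans h.DL.norm))
    (commutator_mem_commutator hd.1 hτ.1)
  have e3 : ⁅t, a⁆⁻¹ * ⁅d, τ⁆ ∈ 𝐂(Va V L D a) := by
    have n1 := le_normalizer_centralizer hXW ha
    have n2 := le_normalizer_centralizer hDW htD
    have := conj_mem_of_mem_normalizer n1 (mul_mem (conj_mem_of_mem_normalizer n2
      (mul_mem (mul_mem (conj_mem_of_mem_normalizer' n1 e1) e2) (inv_mem e1))) (inv_mem e2))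
    convert this using 1
    simp only [commutatorElement_def]; group
  generalize ⁅d, τ⁆ = g at hg0 hgD e3
  have hf := h.fpf haP ht huT hu
  obtain ⟨w, hw, v', hv', rfl⟩ := (mem_sup_of_le_normalizer'
    (inf_le_left.trans (left_le_normalizer_commutator _ _))).1 (h.split haP ht hv)
  have e4 : w⁻¹ * (g * w * g⁻¹) = 1 := by
    refine mem_bot.1 (hf ▸ mem_inf.2 ⟨mul_mem (inv_mem hw)
      (conj_mem_of_mem_normalizer (hDW hgD) hw), ?_⟩)
    have e5 : w⁻¹ * (g * w * g⁻¹) = v' * (g * v' * g⁻¹)⁻¹ := by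
      calc _ = w⁻¹ * (g * (w * v')) * (v'⁻¹ * g⁻¹) := by group
        _ = _ := by rw [hg0]; group
    rw [e5]
    exact cent_le_cent1 huT (mul_mem hv'.2 (inv_mem (conj_mem_of_mem_normalizer
      (le_normalizer_centralizer hDT hgD) hv'.2)))
  have e6 : g ∈ 𝐂[w] := mem_cent1_iff.2 (by
    calc g * w = w * (w⁻¹ * (g * w * g⁻¹)) * g := by group
      _ = _ := by rw [e4, mul_one])
  have e7 : w = 1 := mem_bot.1 (hf ▸ ⟨hw, mem_cent1_comm.1
    (inv_mem_iff.1 ((mul_mem_cancel_right e6).1 (cent_le_cent1 hw e3)))⟩)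
  rw [e7, one_mul]
  exact h.cent_le haP ht hv'

end Cfsg.Agent.SG
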