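import Cfsg.Agent.SG.IT

/-! Section Ra: structure of the minimal counterexample (see notes/s0217_plan.md). -/

set_option autoImplicit false
set_option linter.unusedSectionVars false

namespace Cfsg.Agent.SG

open Subgroup Cfsg.Agent.FT Cfsg.Agent.SF Cfsg.Agent.H1 Cfsg.Agent.H2.PU
open scoped commutatorElement

universe u
variable {G : Type u} [Group G] [Finite G]

variable {A B L P N M H : Subgroup G}

theorem S2.fr (h : S2 A B L P N M H) {C : Subgroup G} (h1 : C ⊴ L) (h2 : A ≤ 𝐍(C)) (h3 : C ≤ M) :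
    P ⊓ C ≤ core {2} L := by
  refine le_pcore ⟨inf_le_left.trans h.syl.le, (h.min (L ⊓ 𝐍(P ⊓ C)) (le_inf h.syl.le
    (le_normalizer_inf le_normalizer (h.syl.le.trans h1.norm))) inf_le_left (le_normalizer_inf h.AL
    (le_normalizer_normalizer (le_normalizer_inf h.AP h2))) fun e => h.nle ?_).trans inf_le_right⟩
    (h.syl.isPGroup.to_le inf_le_left)
  rw [← Syl.frattini' (Syl.inf_of_nrm h.syl h1) h1]
  exact sup_le h3 e

/-- the elements all of whose `L`-conjugates lie in `M` -/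
def crM (L M : Subgroup G) : Subgroup G where
  carrier := {x | ∀ g ∈ L, g * x * g⁻¹ ∈ M}
  one_mem' := fun g _ => by simp
  mul_mem' := fun {a b} ha hb g hg => by
    rw [show g * (a * b) * g⁻¹ = g * a * g⁻¹ * (g * b * g⁻¹) by group]
    exact mul_mem (ha g hg) (hb g hg)
  inv_mem' := fun {a} ha g hg => by
    rw [show g * a⁻¹ * g⁻¹ = (g * a * g⁻¹)⁻¹ by group]
    exact inv_mem (ha g hg)

theorem S2.fr2 (h : S2 A B L P N M H) {a : G} (ha : a ∈ P) (h1 : ∀ g ∈ L, g * a * g⁻¹ ∈ M) :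
    a ∈ core {2} L := by
  refine h.fr (C := L ⊓ crM L M) (nrm_inf_of_le_normalizer (le_normalizer_of_conj_mem
    fun k hk x hx g hg => ?_)) (le_normalizer_inf h.AL (le_normalizer_of_conj_mem
    fun k hk x hx g hg => ?_)) (fun x hx => by simpa using hx.2 1 (one_mem _)) ⟨ha, h.syl.le ha, h1⟩
  · rw [show g * (k * x * k⁻¹) * g⁻¹ = g * k * x * (g * k)⁻¹ by group]
    exact hx _ (mul_mem hg hk)
  · rw [show g * (k * x * k⁻¹) * g⁻¹ = k * (k⁻¹ * g * k * x * (k⁻¹ * g * k)⁻¹) * k⁻¹ by group]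
    exact conj_mem_of_le_normalizer h.AM hk (hx _ (conj_mem_of_le_normalizer' h.AL hk hg))

theorem S2.F_not_le (h : S2 A B L P N M H) : ¬ core2 {2} {3} L ≤ M := fun hF => by
  have nF := core2_nrm {2} {3} L
  have aF := le_normalizer_core2 {2} {3} h.AL
  have QF := core_le_core2 {2} {3} L
  have e2 : core {2} (bar (core2 {2} {3} L) L) = ⊥ := by
    have n1 := nrm_unbar_of_nrm_bar nF (core_nrm {2} (bar (core2 {2} {3} L) L))
    have e := (Syl.inf_of_nrm h.syl n1).hall.sup_eq_of_relIndex (le_unbar _) (by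
      rw [relIndex_unbar_self]; exact core_piG _ _)
    have e1 := h.fr n1 (le_normalizer_unbar aF (le_normalizer_core _ (bar_le_normalizer _ h.AL)))
      (e.ge.trans (sup_le (inf_le_left.trans h.PM) hF))
    rw [← le_bot_iff, ← unbar_le_unbar_iff, unbar_bot]
    exact e.ge.trans (sup_le (e1.trans QF) le_rfl)
  have e3 : core {3} (bar (core2 {2} {3} L) L) = ⊥ := by
    have n1 := nrm_unbar_of_nrm_bar nF (core_nrm {3} (bar (core2 {2} {3} L) L))
    rw [← le_bot_iff, ← unbar_le_unbar_iff, unbar_bot]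
    refine le_core2 n1 ?_
    rw [← relIndex_mul_relIndex _ _ _ QF (le_unbar _), relIndex_unbar_self]
    exact piNum_mul_iff.2 ⟨piNum_relIndex_core2 _ _ L, core_piG _ _⟩
  refine h.nle (((bar_eq_bot_iff nF.norm).1 ?_).trans hF)
  by_contra e
  refine fit_ne_bot (isSolvable_bar h.sol _) e (le_bot_iff.1 (fit_le_of_forall_pcore fun q _ => ?_))
  by_contra e1
  rcases mem_of_piG_of_isPGroup ((h.pi.bar _).of_le (core_le {q} _)) (core_isPGroup _)
    (fun e4 => e1 e4.le) with rfl | rfl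
  · exact e1 e2.le
  · exact e1 e3.le

theorem S2.L_le_F (h : S2 A B L P N M H) : L ≤ P ⊔ core2 {2} {3} L :=
  h.min _ le_sup_left (sup_le h.syl.le (core2_le _ _ L))
    (le_normalizer_sup h.AP (le_normalizer_core2 _ _ h.AL)) fun e => h.F_not_le (le_sup_right.trans e)

theorem S2.CQ_le (h : S2 A B L P N M H) : L ⊓ 𝐂(core {2} L) ≤ M := by
  by_contra e
  haveI : Fact (Nat.Prime 3) := ⟨Nat.prime_three⟩
  have n1 : L ⊓ 𝐂(core {2} L) ⊴ L := nrm_inf_centralizer (core_nrm _ L).norm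
  have e1 := h.min (P ⊔ (L ⊓ 𝐂(core {2} L))) le_sup_left (sup_le h.syl.le inf_le_left)
    (le_normalizer_sup h.AP (le_normalizer_inf h.AL (le_normalizer_centralizer
      (le_normalizer_core _ h.AL)))) fun e1 => e (le_sup_right.trans e1)
  obtain ⟨T, hT⟩ := exists_syl 3 (core2 {2} {3} L)
  have e2 : T ≤ L ⊓ 𝐂(core {2} L) := by
    refine le_of_piG_of_nrm (π := {3}) n1.norm ?_ (hT.le.trans (core2_le _ _ L))
      (piG_singleton_iff.2 hT.isPGroup)
    have e3 := relIndex_sup_of_le_normalizer (h.syl.le.trans n1.norm)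
    rw [← le_antisymm e1 (sup_le h.syl.le inf_le_left)] at e3
    rw [e3]
    exact (piG_compl_of_isPGroup_ne h.syl.isPGroup (by decide)).relIndex _
  have e3 := hT.hall.sup_eq_of_relIndex (core_le_core2 {2} {3} L) (piNum_relIndex_core2 _ _ L)
  have e4 := Syl.eq_core hT (e3.ge.trans (sup_le le_normalizer
    ((cent_symm (e2.trans inf_le_right)).trans (cent_le_norm _))))
  refine h.F_not_le (e3.ge.trans (sup_le (h.h3 T (e2.trans inf_le_left) hT.isPGroup ?_)
    ((core_le_syl h.syl).trans h.PM)))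
  rw [e4]
  exact h.syl.le.trans ((core2_nrm _ _ L).core _).norm

theorem S2.AV (h : S2 A B L P N M H) : A ≤ 𝐍(VV L) := (le_normalizer_core _ h.AL).trans (norm_oz _)

theorem S2.P_ne (h : S2 A B L P N M H) : P ≠ ⊥ := fun e => h.nle (le_trans (le_inf le_rfl (by
  rw [le_bot_iff.1 ((core_le_syl h.syl).trans e.le), cent_bot]; exact le_top)) h.CQ_le)

theorem S2.K_le (h : S2 A B L P N M H) : L ⊓ 𝐂(VV L) ≤ M := by
  have e := h.fr (nrm_inf_centralizer (core_nrm {2} L).norm) (le_normalizer_inf h.AL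
    (le_normalizer_centralizer (le_normalizer_core _ h.AL))) h.CQ_le
  have e1 : oz P ≤ VV L := fun z hz =>
    have h1 := cent_anti (core_le_syl h.syl) hz.2.1
    ⟨e ⟨hz.1, h.syl.le hz.1, h1⟩, h1, hz.2.2⟩
  exact (inf_le_inf_left _ ((cent_anti e1).trans (cent_le_norm _))).trans (h.hU _
    (oz_ne_bot h.syl.isPGroup h.P_ne) (oz_le P) (h.AP.trans (norm_oz P)) (h.NP.trans (norm_oz P)))

theorem S2.PK (h : S2 A B L P N M H) : P ⊓ 𝐂(VV L) ≤ core {2} L :=
  (le_inf inf_le_left (inf_le_inf_right _ h.syl.le)).trans (h.fr (nrm_inf_centralizer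
    ((core_nrm {2} L).norm.trans (norm_oz _))) (le_normalizer_inf h.AL
      (le_normalizer_centralizer h.AV)) h.K_le)

theorem S2.L_le (h : S2 A B L P N M H) : L ≤ P ⊔ DD L :=
  h.L_le_F.trans (sup_le_sup_left le_sup_left _)

theorem DD_nrm (L : Subgroup G) : DD L ⊴ L :=
  (core2_nrm _ _ L).sup (nrm_inf_centralizer ((core_nrm {2} L).norm.trans (norm_oz _)))

theorem S2.mem_Q (h : S2 A B L P N M H) {a : G} (ha : a ∈ P) (h1 : ∀ d ∈ DD L, ⁅d, a⁆ ∈ M) :
    a ∈ core {2} L := by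
  refine h.fr2 ha fun g hg => ?_
  obtain ⟨p, hp, d, hd, rfl⟩ := (mem_sup_of_le_normalizer (h.syl.le.trans (DD_nrm L).norm)).1 (h.L_le hg)
  rw [show p * d * a * (p * d)⁻¹ = p * (⁅d, a⁆ * a) * p⁻¹ by simp only [commutatorElement_def]; group]
  exact mul_mem (mul_mem (h.PM hp) (mul_mem (h1 d hd) (h.PM ha))) (inv_mem (h.PM hp))

theorem S2.tm (h : S2 A B L P N M H) : TM (VV L) L (DD L) P := by
  have nV : L ≤ 𝐍(VV L) := (core_nrm {2} L).norm.trans (norm_oz _)
  have nK : L ⊓ 𝐂(VV L) ⊴ L := nrm_inf_centralizer nV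
  have QC : core {2} L ≤ 𝐂(VV L) := cent_symm (oz_cent _)
  have h3 : ∀ x ∈ DD L, ∃ k : ℕ, x ^ 3 ^ k ∈ 𝐂(VV L) := fun x hx => by
    have e : PiNum {3} ((L ⊓ 𝐂(VV L)).relIndex (DD L)) := by
      rw [DD, relIndex_sup_of_le_normalizer ((core2_le _ _ L).trans nK.norm)]
      exact (piNum_relIndex_core2 {2} {3} L).of_dvd
        (relIndex_dvd_of_le_left _ (le_inf (core_le _ _) QC))
    obtain ⟨k, hk⟩ := (piNum_singleton_iff Nat.prime_three (relIndex_pos _ _).ne').1 e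
    haveI : ((L ⊓ 𝐂(VV L)).subgroupOf (DD L)).Normal := (nK.of_le le_sup_right (DD_nrm L).le).normal
    have := pow_index_mem (H := (L ⊓ 𝐂(VV L)).subgroupOf (DD L)) ⟨x, hx⟩
    exact ⟨k, hk ▸ this.2⟩
  refine ⟨⟨fun v hv => hv.2.2, nV, DD_nrm L, le_sup_right, fun x hx => ?_, h.syl.le, h.syl.isPGroup,
    fun x hx h1 => QC (h.mem_Q hx fun d hd => h.K_le ⟨?_, comm_mem_symm (h1 d hd)⟩)⟩, h3⟩
  · obtain ⟨k, hk⟩ := h3 x hx
    exact ⟨_, Odd.pow (by decide), hk⟩
  · exact der_le L (commutator_mem_commutator ((DD_nrm L).le hd) (h.syl.le hx))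

theorem S2.AD (h : S2 A B L P N M H) : A ≤ 𝐍(DD L) :=
  le_normalizer_sup (le_normalizer_core2 _ _ h.AL)
    (le_normalizer_inf h.AL (le_normalizer_centralizer h.AV))

theorem S2.Ta_not_le (h : S2 A B L P N M H) {a : G} (ha : a ∈ P) (h1 : a ∉ core {2} L) :
    ¬ Ta (VV L) L (DD L) a ≤ M := fun e => h1 (h.mem_Q ha fun _ hd =>
      e (mem_sup_left (commutator_mem_commutator hd (mem_zpowers a))))

theorem S2.J_not_le (h : S2 A B L P N M H) : ¬ JJ 2 P ≤ core {2} L := fun e =>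
  h.nle (le_trans (le_inf le_rfl (by
    rw [← JJ_eq_of_le e (core_le_syl h.syl)]
    exact (core_nrm _ L).norm.trans (normalizer_le_normalizer_JJ _))) (h.hU _
      (JJ_ne_bot (Or.inr rfl) h.syl.isPGroup h.P_ne) (JJ_le P)
      (h.AP.trans (normalizer_le_normalizer_JJ P)) (h.NP.trans (normalizer_le_normalizer_JJ P))))

theorem S1.exists_S2 (h : S1 A B L P N M H) (h1 : ¬ L ≤ M) : ∃ L', S2 A B L' P N M H := by
  obtain ⟨Y, y1, y2⟩ := exists_minimal_le_of_wellFoundedLT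
    (fun Y : Subgroup G => P ≤ Y ∧ A ≤ 𝐍(Y) ∧ ¬ Y ≤ M) L ⟨h.syl.le, h.AL, h1⟩
  exact ⟨Y, ⟨h.cop, h.BA, isSolvable_of_le y1 h.sol, h.pi.of_le y1, y2.prop.2.1,
    h.syl.of_le y2.prop.1 y1, h.AP, h.PN, h.NP, h.AN, h.NB, h.AM, h.PM,
    fun R e => h.h3 R (e.trans y1), fun U a b c d => (inf_le_inf_right _ y1).trans (h.hU U a b c d),
    h.sH, (inf_le_inf_right _ y1).trans h.LH, h.NH⟩, y2.prop.2.2,
    fun L' a b c d => y2.le_of_le ⟨a, c, d⟩ b⟩

end Cfsg.Agent.SG
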