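import Cfsg.Agent.SG.IRa
import Cfsg.Agent.SG.IA
import Cfsg.Agent.SG.IMa
import Cfsg.Agent.SG.IMb

/-! Section Rb: the Baumann argument (see notes/s0217_plan.md). -/

set_option autoImplicit false
set_option linter.unusedSectionVars false

namespace Cfsg.Agent.SG

open Subgroup Cfsg.Agent.FT Cfsg.Agent.SF Cfsg.Agent.H1 Cfsg.Agent.H2.PU
open scoped commutatorElement

universe u
variable {G : Type u} [Group G] [Finite G]

variable {A B L P N M H : Subgroup G}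

theorem eq_of_card_two {Z : Subgroup G} (h : ♯Z = 2) {x y : G} (hx : x ∈ Z) (hy : y ∈ Z)
    (h1 : x ≠ 1) (h2 : y ≠ 1) : x = y := by
  obtain ⟨w, -, hw⟩ := (Nat.card_eq_two_iff' (1 : Z)).1 h
  exact congrArg Subtype.val ((hw ⟨x, hx⟩ fun e => h1 (congrArg Subtype.val e)).trans
    (hw ⟨y, hy⟩ fun e => h2 (congrArg Subtype.val e)).symm)

theorem sq_of_card_two {Z : Subgroup G} (h : ♯Z = 2) {x : G} (hx : x ∈ Z) : x * x = 1 := by
  rw [← pow_two, ← h]; exact pow_card_eq_one'' hx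

theorem abE_of_sq {Y : Subgroup G} (h : ∀ y ∈ Y, y * y = 1) : AbE 2 Y :=
  ⟨isMulCommutative_of_forall fun a ha b hb => by
    have e := h _ (mul_mem ha hb)
    have ia : a⁻¹ = a := inv_eq_of_mul_eq_one_right (h a ha)
    have ib : b⁻¹ = b := inv_eq_of_mul_eq_one_right (h b hb)
    rw [← inv_eq_of_mul_eq_one_right e, mul_inv_rev, ia, ib], fun a ha => by rw [pow_two, h a ha]⟩

theorem nrm_inf_cm {Y W X : Subgroup G} (h1 : Y ≤ 𝐍(W)) (h2 : Y ≤ 𝐍(X)) : Y ⊓ cm W X ⊴ Y :=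
  nrm_inf_of_le_normalizer fun g hg => cj_eq_iff_mem_normalizer.1 (by
    rw [cj_cm (h1 hg), cj_eq_iff_mem_normalizer.2 (h2 hg)])

theorem comm_mul_left (x y w : G) : ⁅x * y, w⁆ = x * ⁅y, w⁆ * x⁻¹ * ⁅x, w⁆ := by
  simp only [commutatorElement_def]; group

theorem comm_mul_right (x y w : G) : ⁅w, x * y⁆ = ⁅w, x⁆ * (x * ⁅w, y⁆ * x⁻¹) := by
  simp only [commutatorElement_def]; group

/-- the Baumann subgroup -/
def Bm (P : Subgroup G) : Subgroup G := P ⊓ 𝐂(oz (JJ 2 P))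

theorem norm_Bm (P : Subgroup G) : 𝐍(P) ≤ 𝐍(Bm P) := le_normalizer_inf le_rfl
  (le_normalizer_centralizer ((normalizer_le_normalizer_JJ P).trans (norm_oz _)))

theorem Bm_le (P : Subgroup G) : Bm P ≤ P := inf_le_left

theorem J_le_Bm (P : Subgroup G) : JJ 2 P ≤ Bm P := le_inf (JJ_le P) (cent_symm (oz_cent _))

namespace S2
variable (h : S2 A B L P N M H)
include h

theorem QP : core {2} L ≤ P := core_le_syl h.syl
theorem VQ : VV L ≤ core {2} L := oz_le _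
theorem QC : core {2} L ≤ 𝐂(VV L) := cent_symm (oz_cent _)
theorem VP : VV L ≤ P := h.VQ.trans h.QP
theorem VL : L ≤ 𝐍(VV L) := (core_nrm _ L).norm.trans (norm_oz _)
theorem Knrm : L ⊓ 𝐂(VV L) ⊴ L := nrm_inf_centralizer h.VL

theorem two_le_Q {X : Subgroup G} (h1 : IsPGroup 2 X) (h2 : X ≤ L ⊓ 𝐂(VV L)) : X ≤ core {2} L := by
  have e : P ⊓ (L ⊓ 𝐂(VV L)) = core {2} L := le_antisymm
    ((inf_le_inf_left _ inf_le_right).trans h.PK) (le_inf h.QP (le_inf (core_le _ _) h.QC))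
  have s := Syl.inf_of_nrm h.syl h.Knrm
  rw [e] at s
  exact Syl.le_of_nrm s (inf_le_left.trans (core_nrm _ L).norm) h1 h2

theorem off {X : Subgroup G} (hX : X ∈ maxAb 2 P) : (X ⊓ core {2} L) ⊔ VV L ∈ maxAb 2 P ∧
    X ≤ closure {a | a ∈ X ∧ tv (VV L) a} ⊔ (X ⊓ 𝐂(VV L)) := by
  have he : ∀ x ∈ X, x * x ∈ 𝐂(VV L) := fun x hx => by
    rw [← pow_two, hX.2.1.2 x hx]; exact one_mem _
  have aV : AbE 2 (VV L) := abE_of_sq h.tm.ea
  have c1 : VV L ≤ 𝐂(X ⊓ core {2} L) := cent_symm (inf_le_right.trans h.QC)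
  have a0 := (hX.2.1.of_le (inf_le_left : X ⊓ core {2} L ≤ X)).sup aV c1
  have l0 : (X ⊓ core {2} L) ⊔ VV L ≤ P := sup_le (inf_le_left.trans hX.1) h.VP
  have e1 : 𝐂(VV L) ⊓ X = X ⊓ core {2} L := le_antisymm
    (le_inf inf_le_right ((le_inf (inf_le_right.trans hX.1) inf_le_left).trans h.PK))
    (le_inf (inf_le_right.trans h.QC) inf_le_left)
  have e2 : X ⊓ core {2} L ⊓ VV L = 𝐂(X) ⊓ VV L := le_antisymm
    (inf_le_inf_right _ (inf_le_left.trans hX.2.1.le_centralizer))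
    (le_inf (le_inf (le_of_mem_maxAb hX (inf_le_right.trans h.VP) (aV.of_le inf_le_right) inf_le_left)
      (inf_le_right.trans h.VQ)) inf_le_right)
  have n1 := card_sup_mul_card_inf ((cent_symm c1).trans (cent_le_norm _))
  have n2 := card_inf_mul_relIndex 𝐂(VV L) X
  have n3 := card_inf_mul_relIndex 𝐂(X) (VV L)
  rw [e1] at n2
  rw [e2, ← n3] at n1
  have n4 : ♯(X ⊓ core {2} L ⊔ VV L : Subgroup G) =
      ♯(X ⊓ core {2} L : Subgroup G) * (𝐂(X)).relIndex (VV L) :=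
    Nat.eq_of_mul_eq_mul_right (card_pos' (𝐂(X) ⊓ VV L)) (by rw [n1]; ring)
  have n5 := h.tm.toTM0.ff1 hX.1 he
  refine ⟨mem_maxAb_of_card_le hX l0 a0 ?_, h.tm.toTM0.ff2 hX.1 he ?_⟩
  · rw [n4, ← n2]; exact Nat.mul_le_mul_left _ n5
  · have := hX.2.2 _ l0 a0
    rw [n4, ← n2] at this
    exact Nat.le_of_mul_le_mul_left this (card_pos' _)

theorem off_le {X : Subgroup G} : (X ⊓ core {2} L) ⊔ VV L ≤ core {2} L := sup_le inf_le_right h.VQ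

theorem off_le_J {X : Subgroup G} (hX : X ∈ maxAb 2 P) :
    (X ⊓ core {2} L) ⊔ VV L ≤ JJ 2 (core {2} L) :=
  le_JJ (mem_maxAb_of_le (h.off hX).1 h.off_le h.QP)

theorem JQ_le : JJ 2 (core {2} L) ≤ JJ 2 P :=
  let ⟨_, hX⟩ := exists_mem_maxAb 2 P; JJ_le_JJ (h.off hX).1 h.off_le h.QP

theorem le_Z0 {Y : Subgroup G} (h1 : Y ≤ P) (h2 : ∀ y ∈ Y, y * y = 1)
    (h3 : Y ≤ 𝐂(JJ 2 (core {2} L))) : Y ≤ oz (JJ 2 (core {2} L)) := fun y hy =>
  let ⟨_, hX⟩ := exists_mem_maxAb 2 P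
  ⟨h.off_le_J hX (le_of_mem_maxAb (h.off hX).1 h1 (abE_of_sq h2)
    (h3.trans (cent_anti (h.off_le_J hX))) hy), h3 hy, h2 y hy⟩

theorem Z0_le_Q : oz (JJ 2 (core {2} L)) ≤ core {2} L := (oz_le _).trans (JJ_le _)

theorem Z0L : L ≤ 𝐍(oz (JJ 2 (core {2} L))) :=
  ((core_nrm _ L).norm.trans (normalizer_le_normalizer_JJ _)).trans (norm_oz _)

theorem ZJ_le : oz (JJ 2 P) ≤ oz (JJ 2 (core {2} L)) :=
  h.le_Z0 ((oz_le _).trans (JJ_le _)) (fun _ hy => hy.2.2) ((oz_cent _).trans (cent_anti h.JQ_le))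

theorem V_le_Bm : VV L ≤ Bm P :=
  le_inf h.VP (cent_symm ((h.ZJ_le.trans h.Z0_le_Q).trans h.QC))

theorem comm_Z0 {X : Subgroup G} (hX : X ∈ maxAb 2 P) {a w : G} (ha : a ∈ X)
    (hw : w ∈ oz (JJ 2 (core {2} L))) : ⁅w, a⁆ ∈ ⁅VV L, zpowers a⁆ := by
  have h1 := mem_of_mem_maxAb (h.off hX).1 (h.QP (h.Z0_le_Q hw)) (by rw [pow_two, hw.2.2])
    (cent_anti (h.off_le_J hX) hw.2.1)
  obtain ⟨x, hx, v, hv, rfl⟩ := (mem_sup_of_le_normalizer' (K := X ⊓ core {2} L) (H := VV L)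
    ((cent_symm (inf_le_right.trans h.QC)).trans (cent_le_norm _))).1 h1
  have e1 : ⁅x, a⁆ = 1 := commutatorElement_eq_one_iff_mul_comm.2
    (comm_of_isMulCommutative hX.2.1.1 hx.1 ha)
  have e2 := commutator_mem_commutator hv (mem_zpowers a)
  have e3 : ⁅v, a⁆ ∈ VV L := commutator_le_left' (zpowers_le.2 (h.VL (h.syl.le (hX.1 ha)))) e2
  rw [comm_mul_left, e1, mul_one, ← mem_cent_iff.1 (h.QC hx.2) _ e3, mul_inv_cancel_right]
  exact e2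

theorem z_le_ZJ {a : G} (ha : a ∈ P) (h1 : tv (VV L) a) : ⁅VV L, zpowers a⁆ ≤ oz (JJ 2 P) := by
  have e1 : ⁅VV L, zpowers a⁆ ≤ VV L := commutator_le_left' (zpowers_le.2 (h.VL (h.syl.le ha)))
  have e2 : JJ 2 P ≤ 𝐂(⁅VV L, zpowers a⁆) := JJ_le_iff.2 fun X hX => (h.off hX).2.trans (sup_le
    ((closure_le _).2 fun b hb => le_cent1_iff.1 (h.tm.zc ha h1 (hX.1 hb.1) hb.2))
    (inf_le_right.trans (cent_anti e1)))
  obtain ⟨X, hX⟩ := exists_mem_maxAb 2 P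
  exact fun z hz => ⟨h.JQ_le (h.off_le_J hX (mem_sup_right (e1 hz))), cent_symm e2 hz,
    h.tm.ea z (e1 hz)⟩

theorem exists_tv : ∃ X ∈ maxAb 2 P, ∃ a ∈ X, tv (VV L) a := by
  by_contra! hc
  refine h.J_not_le (JJ_le_iff.2 fun X hX => (h.off hX).2.trans (sup_le
    ((closure_le _).2 fun b hb => absurd hb.2 (hc X hX b hb.1)) ?_))
  exact (inf_le_inf_right _ hX.1).trans h.PK

theorem Ta_le_D (a : G) (ha : a ∈ L) : Ta (VV L) L (DD L) a ≤ DD L :=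
  sup_le (commutator_le_left' (zpowers_le.2 (h.tm.DL.norm ha))) h.tm.KD

theorem Va_le {a : G} (ha : a ∈ L) : Va (VV L) L (DD L) a ≤ VV L :=
  commutator_le_left' (((h.Ta_le_D a ha).trans h.tm.DL.le).trans h.VL)

theorem Bm_norm {a : G} (ha : a ∈ P) (h1 : tv (VV L) a) : Bm P ≤ 𝐍(Ta (VV L) L (DD L) a) := by
  intro x hx
  have hxL := h.syl.le hx.1
  rw [← cj_eq_iff_mem_normalizer, cj_Ta (h.VL hxL) (le_normalizer hxL) (h.tm.DL.norm hxL)]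
  refine ((h.tm.sep ha h1 (mul_mem (mul_mem hx.1 ha) (inv_mem hx.1))
    (h1.conj (h.VL hxL))).resolve_right fun e => ?_).symm
  have e1 : ⁅VV L, zpowers a⁆ ≤ ⊥ := by
    rw [← e.1, ← cj_Va (h.VL hxL) (le_normalizer hxL) (h.tm.DL.norm hxL)]
    refine le_inf (h.tm.comm_le ha h1) fun z hz => mem_cj.2 ?_
    rw [mul_assoc, mem_cent_iff.1 hx.2 z (h.z_le_ZJ ha h1 hz), inv_mul_cancel_left]
    exact h.tm.comm_le ha h1 hz
  have := h.tm.card_comm ha h1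
  rw [le_bot_iff.1 e1, card_bot] at this
  omega

theorem dich {a : G} (ha : a ∈ P) (h1 : tv (VV L) a) {X : Subgroup G} (h2 : L ⊓ 𝐂(VV L) ≤ X) :
    X ⊓ Ta (VV L) L (DD L) a ≤ L ⊓ 𝐂(VV L) ∨ Ta (VV L) L (DD L) a ≤ X := by
  have e := relIndex_mul_relIndex (L ⊓ 𝐂(VV L)) (X ⊓ Ta (VV L) L (DD L) a) (Ta (VV L) L (DD L) a)
    (le_inf h2 le_sup_right) inf_le_right
  rw [h.tm.idx3 ha h1] at e
  rcases (Nat.dvd_prime Nat.prime_three).1 (Dvd.intro _ e) with e1 | e1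
  · exact Or.inl (relIndex_eq_one.1 e1)
  · rw [e1] at e
    have e2 : (X ⊓ Ta (VV L) L (DD L) a).relIndex (Ta (VV L) L (DD L) a) = 1 := by omega
    exact Or.inr ((relIndex_eq_one.1 e2).trans inf_le_left)

theorem le_BK {a : G} (ha : a ∈ P) (h1 : tv (VV L) a) {X : Subgroup G}
    (h2 : X ≤ Bm P ⊔ Ta (VV L) L (DD L) a) (h3 : Bm P ≤ X)
    (h4 : ¬ Ta (VV L) L (DD L) a ≤ X ⊔ (L ⊓ 𝐂(VV L))) : X ≤ Bm P ⊔ (L ⊓ 𝐂(VV L)) := by
  have e := inf_sup_of_le (H := X ⊔ (L ⊓ 𝐂(VV L))) (h3.trans le_sup_left)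
    (Or.inl (h.Bm_norm ha h1))
  refine (le_inf le_sup_left h2).trans (e.le.trans (sup_le_sup_left ?_ _))
  exact (h.dich ha h1 le_sup_right).resolve_right h4

theorem BK_le_M : Bm P ⊔ (L ⊓ 𝐂(VV L)) ≤ M := sup_le ((Bm_le P).trans h.PM) h.K_le

theorem norm_Bm_le (h0 : Bm P ≠ ⊥) : L ⊓ 𝐍(Bm P) ≤ M :=
  h.hU _ h0 (Bm_le P) (h.AP.trans (norm_Bm P)) (h.NP.trans (norm_Bm P))

end S2

/-- the minimal subgroup over the Baumann subgroup -/
structure BM (A B L P N M H X : Subgroup G) (a : G) (Y : Subgroup G) : Prop where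
  h : S2 A B L P N M H
  hX : X ∈ maxAb 2 P
  ha : a ∈ X
  ht : tv (VV L) a
  syl : Syl 2 (Bm P) Y
  le : Y ≤ Bm P ⊔ Ta (VV L) L (DD L) a
  nle : ¬ Y ≤ M
  min : ∀ Y', Bm P ≤ Y' → Y' ≤ Y → ¬ Y' ≤ M → Y ≤ Y'

theorem S2.exists_BM (h : S2 A B L P N M H) : ∃ X a Y, BM A B L P N M H X a Y := by
  obtain ⟨X, hX, a, ha, ht⟩ := h.exists_tv
  have haP := hX.1 ha
  have haL := h.syl.le haP
  have a2 : a * a = 1 := by rw [← pow_two, hX.2.1.2 a ha]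
  have ia : a⁻¹ = a := inv_eq_of_mul_eq_one_right a2
  have haB : a ∈ Bm P := J_le_Bm P (le_JJ hX ha)
  have h1 : a ∉ 𝐂(VV L) := fun e => by
    have := relIndex_eq_one.2 (le_cent1_iff.2 e)
    rw [ht] at this; omega
  obtain ⟨t, htD, h2⟩ : ∃ t ∈ DD L, ⁅a, t⁆ ∉ 𝐂(VV L) := by
    by_contra! hc; exact h1 (h.tm.faith a haP hc)
  have htL := h.tm.DL.le htD
  have h3 : ⁅a, t⁆ ∈ Ta (VV L) L (DD L) a :=
    mem_sup_left (comm_mem_symm (commutator_mem_commutator htD (mem_zpowers a)))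
  have e0 : ⁅a, t⁆ = a * (t * a * t⁻¹) := by rw [commutatorElement_def, ia]; group
  have c2 := h.tm.card_comm haP ht
  obtain ⟨z, hz, hz1⟩ := exists_ne_one_of_ne_bot (H := ⁅VV L, zpowers a⁆) fun e => by
    rw [e, card_bot] at c2; omega
  have hzJ := h.z_le_ZJ haP ht hz
  have cJ : ∀ w ∈ oz (JJ 2 P), a * w = w * a := fun w hw => mem_cent_iff.1 hw.2.1 a (le_JJ hX ha)
  have h4 : ⁅z, t * a * t⁻¹⁆ ≠ 1 := fun e => hz1 (mem_bot.1 ((h.tm.fpf haP ht h3 h2).le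
    ⟨h.tm.comm_le haP ht hz, mem_cent1_iff.2 (by
      rw [e0, ← mul_assoc, ← cJ z hzJ, mul_assoc, commutatorElement_eq_one_iff_mul_comm.1 e,
        ← mul_assoc])⟩))
  have h5 : ∀ w ∈ oz (JJ 2 P), ⁅w, t * a * t⁻¹⁆ ∈ cj t ⁅VV L, zpowers a⁆ := fun w hw => by
    have := conj_mem_cj (g := t) (h.comm_Z0 hX ha (conj_mem_of_mem_normalizer' (h.Z0L htL) (h.ZJ_le hw)))
    rwa [conj_comm, show t * (t⁻¹ * w * t) * t⁻¹ = w by group] at this
  set Z' := oz (JJ 2 P) ⊓ 𝐂[t * a * t⁻¹] with hZ'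
  have h6 : oz (JJ 2 P) ≤ VV L ⊔ Z' := fun w hw => by
    by_cases e : ⁅w, t * a * t⁻¹⁆ = 1
    · exact mem_sup_right ⟨hw, mem_cent1_iff.2 (commutatorElement_eq_one_iff_mul_comm.1 e)⟩
    · have e1 := eq_of_card_two (by rw [card_cj, c2]) (h5 w hw) (h5 z hzJ) e h4
      have hzV : z ∈ VV L := commutator_le_left' (zpowers_le.2 (h.VL haL)) hz
      rw [show w = z * (z⁻¹ * w) by group]
      refine mul_mem (mem_sup_left hzV) (mem_sup_right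
        ⟨(oz (JJ 2 P)).mul_mem (inv_mem hzJ) hw, mem_cent1_iff.2 ?_⟩)
      simp only [commutatorElement_def] at e1
      calc z⁻¹ * w * (t * a * t⁻¹) = z⁻¹ * (w * (t * a * t⁻¹) * w⁻¹ * (t * a * t⁻¹)⁻¹) *
            (t * a * t⁻¹) * w := by group
        _ = _ := by rw [e1]; group
  set L₁ := (Bm P ⊔ Ta (VV L) L (DD L) a) ⊓ 𝐂(Z') with hL₁
  have b1 : Bm P ≤ L₁ := le_inf le_sup_left (inf_le_right.trans (cent_anti inf_le_left))
  have b2 : ⁅a, t⁆ ∈ L₁ := ⟨mem_sup_right h3, e0 ▸ mul_mem (b1 haB).2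
    (mem_cent_iff.2 fun w hw => mem_cent1_iff.1 hw.2)⟩
  have b0 : Bm P ⊔ Ta (VV L) L (DD L) a ≤ L :=
    sup_le ((Bm_le P).trans h.syl.le) ((h.Ta_le_D a haL).trans h.tm.DL.le)
  have b3 : Syl 2 (Bm P) L₁ := by
    refine isSylowIn_of_maximal (h.syl.isPGroup.to_le (Bm_le P)) b1 fun R r1 r2 r3 => ?_
    have r4 : R ≤ L := r3.trans (inf_le_left.trans b0)
    have r5 := h.le_BK haP ht (r3.trans inf_le_left) r2 fun e => by
      have e1 := relIndex_dvd_of_nrm (sup_le (r4.trans h.Knrm.norm) le_normalizer) e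
      rw [h.tm.idx3 haP ht, relIndex_sup_of_le_normalizer (r4.trans h.Knrm.norm)] at e1
      have := eq_of_isPGroup_of_dvd r1 Nat.prime_three (e1.trans (relIndex_dvd_card' _ _))
      omega
    have r6 := inf_sup_of_le r2 (Or.inl (((Bm_le P).trans h.syl.le).trans h.Knrm.norm))
    rw [inf_eq_left.2 r5] at r6
    refine le_antisymm (r6.le.trans (sup_le le_rfl (le_inf ((h.two_le_Q (r1.to_le inf_le_left)
      inf_le_right).trans h.QP) (le_trans ?_ (cent_anti h6))))) r2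
    rw [cent_sup]
    exact le_inf (inf_le_right.trans inf_le_right) (inf_le_left.trans (r3.trans inf_le_right))
  have b4 : ¬ L₁ ≤ M := fun e => h.Ta_not_le haP (fun e1 => h1 (h.QC e1))
    ((h.dich haP ht h.K_le).resolve_left fun e1 => h2 (e1 ⟨e b2, h3⟩).2)
  obtain ⟨Y, y1, y2⟩ := exists_minimal_le_of_wellFoundedLT
    (fun Y : Subgroup G => Bm P ≤ Y ∧ ¬ Y ≤ M) L₁ ⟨b1, b4⟩
  exact ⟨X, a, Y, h, hX, ha, ht, b3.of_le y2.prop.1 y1, y1.trans inf_le_left, y2.prop.2,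
    fun Y' e1 e2 e3 => y2.le_of_le ⟨e1, e3⟩ e2⟩

namespace BM
variable {X Y : Subgroup G} {a : G} (c : BM A B L P N M H X a Y)
include c

theorem haP : a ∈ P := c.hX.1 c.ha
theorem haL : a ∈ L := c.h.syl.le c.haP
theorem haB : a ∈ Bm P := J_le_Bm P (le_JJ c.hX c.ha)
theorem YL : Y ≤ L := c.le.trans
  (sup_le ((Bm_le P).trans c.h.syl.le) ((c.h.Ta_le_D a c.haL).trans c.h.tm.DL.le))
theorem nVa : Y ≤ 𝐍(Va (VV L) L (DD L) a) := le_normalizer_commutator (c.YL.trans c.h.VL)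
  (c.le.trans (sup_le (c.h.Bm_norm c.haP c.ht) le_normalizer))
theorem zV : ⁅VV L, zpowers a⁆ ≤ VV L := commutator_le_left' (zpowers_le.2 (c.h.VL c.haL))
theorem Bz : Bm P ≤ 𝐂(⁅VV L, zpowers a⁆) :=
  inf_le_right.trans (cent_anti (c.h.z_le_ZJ c.haP c.ht))

theorem exists_v : ∃ v ∈ Va (VV L) L (DD L) a, ⁅v, a⁆ ≠ 1 := by
  by_contra! hc
  have := relIndex_eq_one.2 ((c.h.tm.split c.haP c.ht).trans (sup_le (fun v hv =>
    mem_cent1_iff.2 (commutatorElement_eq_one_iff_mul_comm.1 (hc v hv))) (c.h.tm.cent_le c.haP c.ht)))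
  rw [c.ht] at this; omega

theorem Bm_ne : Bm P ≠ ⊥ := by
  obtain ⟨v, -, hv⟩ := c.exists_v
  exact ne_bot_of_mem c.haB (by rintro rfl; simp at hv)

theorem nb {W : Subgroup G} (h1 : W ⊴ Y) (h2 : Bm P ≤ W) : Y ≤ W := by
  refine c.min W h2 h1.le fun e => c.nle ?_
  rw [← Syl.frattini' (c.syl.of_le h2 h1.le) h1]
  exact sup_le e ((inf_le_inf_right _ c.YL).trans (c.h.norm_Bm_le c.Bm_ne))

theorem Ta_le : Ta (VV L) L (DD L) a ≤ Y ⊔ (L ⊓ 𝐂(VV L)) := by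
  by_contra e
  exact c.nle ((c.h.le_BK c.haP c.ht c.le c.syl.le e).trans c.h.BK_le_M)

theorem inf_M_le : Y ⊓ M ≤ Bm P ⊔ (L ⊓ 𝐂(VV L)) :=
  c.h.le_BK c.haP c.ht (inf_le_left.trans c.le) (le_inf c.syl.le ((Bm_le P).trans c.h.PM))
    fun e => c.h.Ta_not_le c.haP (fun e1 => by
      obtain ⟨v, hv, h1⟩ := c.exists_v
      exact h1 (commutatorElement_eq_one_iff_mul_comm.2
        (mem_cent_iff.1 (c.h.QC e1) v (c.h.Va_le c.haL hv)))) (e.trans (sup_le inf_le_right c.h.K_le))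

theorem cz_le : Y ⊓ 𝐂(⁅VV L, zpowers a⁆) ≤ M := by
  refine (c.h.le_BK c.haP c.ht (inf_le_left.trans c.le) (le_inf c.syl.le c.Bz) fun e => ?_).trans
    c.h.BK_le_M
  have e1 : Ta (VV L) L (DD L) a ≤ 𝐂(⁅VV L, zpowers a⁆) :=
    e.trans (sup_le inf_le_right (inf_le_right.trans (cent_anti c.zV)))
  obtain ⟨t, ht, h1⟩ := SetLike.not_le_iff_exists.1 (show ¬ Ta (VV L) L (DD L) a ≤ L ⊓ 𝐂(VV L) from
    fun e2 => by have := relIndex_eq_one.2 e2; rw [c.h.tm.idx3 c.haP c.ht] at this; omega)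
  have e2 := c.h.tm.fpf c.haP c.ht ht fun e3 =>
    h1 ⟨((c.h.Ta_le_D a c.haL).trans c.h.tm.DL.le) ht, e3⟩
  have e3 : ⁅VV L, zpowers a⁆ ≤ ⊥ :=
    e2 ▸ le_inf (c.h.tm.comm_le c.haP c.ht) (le_cent1_iff.2 (e1 ht))
  have := c.h.tm.card_comm c.haP c.ht
  rw [le_bot_iff.1 e3, card_bot] at this
  omega

theorem idx : (Bm P ⊓ 𝐂(Va (VV L) L (DD L) a)).relIndex (Bm P) = 2 := by
  obtain ⟨v, hv, h1⟩ := c.exists_v
  have hvV := c.h.Va_le c.haL hv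
  have c2 := c.h.tm.card_comm c.haP c.ht
  have zl := c.h.tm.comm_le c.haP c.ht
  have i2 : (⁅VV L, zpowers a⁆).relIndex (Va (VV L) L (DD L) a) = 2 := by
    have := card_mul_relIndex zl
    rw [c2, c.h.tm.card4 c.haP c.ht] at this; omega
  have hvz : v ∉ ⁅VV L, zpowers a⁆ := fun e => h1 (commutatorElement_eq_one_iff_mul_comm.2
    (mem_cent_iff.1 (c.Bz c.haB) v e))
  have k1 : ∀ w ∈ Va (VV L) L (DD L) a, w ∉ ⁅VV L, zpowers a⁆ → w * v⁻¹ ∈ ⁅VV L, zpowers a⁆ :=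
    fun w hw e => (mul_mem_iff_of_index_two (H := (⁅VV L, zpowers a⁆).subgroupOf _) i2
      (a := ⟨w, hw⟩) (b := ⟨v⁻¹, inv_mem hv⟩)).2 (iff_of_false e fun e1 => hvz (inv_mem_iff.1 e1))
  have k2 : ∀ x ∈ Bm P, ⁅x, v⁆ ∈ ⁅VV L, zpowers a⁆ := fun x hx =>
    k1 _ (conj_mem_of_mem_normalizer (c.nVa (c.syl.le hx)) hv) fun e => hvz (by
      have := mem_cent_iff.1 (c.Bz hx) _ e
      rwa [show v = x * v * x⁻¹ from by
        calc v = x⁻¹ * (x * v * x⁻¹ * x) := by group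
          _ = _ := by rw [this]; group])
  have k3 : ∀ x ∈ Bm P, ⁅x, v⁆ = 1 → x ∈ 𝐂(Va (VV L) L (DD L) a) := fun x hx e =>
    mem_cent_iff.2 fun w hw => by
      by_cases e1 : w ∈ ⁅VV L, zpowers a⁆
      · exact mem_cent_iff.1 (c.Bz hx) w e1
      · have e2 := mem_cent_iff.1 (c.Bz hx) _ (k1 w hw e1)
        have e3 := commutatorElement_eq_one_iff_mul_comm.1 e
        calc w * x = w * v⁻¹ * (v * x) := by group
          _ = _ := by rw [← e3, ← mul_assoc, e2]; group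
  have h2 : ⁅a, v⁆ ≠ 1 := fun e => h1 (by rw [← commutatorElement_inv, e, inv_one])
  refine relIndex_eq_two_iff_exists_notMem_and.2 ⟨a, c.haB, fun e => h1
    (commutatorElement_eq_one_iff_mul_comm.2 (mem_cent_iff.1 e.2 v hv)), fun x hx => ?_⟩
  by_cases e : ⁅x, v⁆ = 1
  · exact Or.inr ⟨hx, k3 x hx e⟩
  · refine Or.inl ⟨mul_mem hx c.haB, k3 _ (mul_mem hx c.haB) ?_⟩
    rw [comm_mul_left, ← mem_cent_iff.1 (c.Bz hx) _ (k2 a c.haB), mul_inv_cancel_right,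
      eq_of_card_two c2 (k2 x hx) (k2 a c.haB) e h2, sq_of_card_two c2 (k2 a c.haB)]

theorem not_mem : a ∉ Bm P ⊓ 𝐂(Va (VV L) L (DD L) a) := fun e =>
  let ⟨v, hv, h1⟩ := c.exists_v
  h1 (commutatorElement_eq_one_iff_mul_comm.2 (mem_cent_iff.1 e.2 v hv))

theorem dec {x : G} (hx : x ∈ Bm P) : x ∈ Bm P ⊓ 𝐂(Va (VV L) L (DD L) a) ∨
    x * a ∈ Bm P ⊓ 𝐂(Va (VV L) L (DD L) a) := by
  by_cases e : x ∈ Bm P ⊓ 𝐂(Va (VV L) L (DD L) a)
  · exact Or.inl e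
  · exact Or.inr ((mul_mem_iff_of_index_two (H := (Bm P ⊓ 𝐂(Va (VV L) L (DD L) a)).subgroupOf _)
      c.idx (a := ⟨x, hx⟩) (b := ⟨a, c.haB⟩)).2 (iff_of_false e c.not_mem))

theorem Bm_le_sup : Bm P ≤ (Bm P ⊓ 𝐂(Va (VV L) L (DD L) a)) ⊔ zpowers a := fun x hx =>
  (c.dec hx).elim mem_sup_left fun e => by
    simpa using mul_mem (mem_sup_left e) (mem_sup_right (inv_mem (mem_zpowers a)))

theorem core_eq : core {2} Y = Bm P ⊓ 𝐂(Va (VV L) L (DD L) a) := by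
  have n1 : Y ⊓ 𝐂(Va (VV L) L (DD L) a) ⊴ Y := nrm_inf_centralizer c.nVa
  have s1 := Syl.inf_of_nrm c.syl n1
  rw [← inf_assoc, inf_eq_left.2 c.syl.le] at s1
  have n2 : Y ≤ 𝐍(Bm P ⊓ 𝐂(Va (VV L) L (DD L) a)) := by
    refine (c.min _ (le_inf c.syl.le (le_normalizer_inf le_normalizer
      (le_normalizer_centralizer (c.syl.le.trans c.nVa)))) inf_le_left fun e => c.nle ?_).trans
      inf_le_right
    rw [← Syl.frattini' s1 n1]
    exact sup_le ((inf_le_inf_left _ (cent_anti (c.h.tm.comm_le c.haP c.ht))).trans c.cz_le) e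
  have l1 : Bm P ⊓ 𝐂(Va (VV L) L (DD L) a) ≤ core {2} Y :=
    le_pcore ⟨inf_le_left.trans c.syl.le, n2⟩ (c.syl.isPGroup.to_le inf_le_left)
  refine le_antisymm (fun x hx => (c.dec (core_le_syl c.syl hx)).resolve_right fun e => c.nle ?_) l1
  have h1 : a ∈ core {2} Y := by simpa using mul_mem (inv_mem hx) (l1 e)
  exact (c.nb (core_nrm _ Y) (c.Bm_le_sup.trans (sup_le l1 (zpowers_le.2 h1)))).trans
    ((core_le_syl c.syl).trans ((Bm_le P).trans c.h.PM))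

theorem QB_le : Bm P ⊓ core {2} L ≤ core {2} Y :=
  c.core_eq ▸ inf_le_inf_left _ (c.h.QC.trans (cent_anti (c.h.Va_le c.haL)))

theorem Va_le_Z : Va (VV L) L (DD L) a ≤ oz (core {2} Y) := fun v hv =>
  have hV := c.h.Va_le c.haL hv
  ⟨c.QB_le ⟨c.h.V_le_Bm hV, c.h.VQ hV⟩, cent_symm (c.core_eq.le.trans inf_le_right) hv,
    c.h.tm.ea v hV⟩

theorem Z_le_Z0 : oz (core {2} Y) ≤ oz (JJ 2 (core {2} L)) :=
  c.h.le_Z0 ((oz_le _).trans ((core_le_syl c.syl).trans (Bm_le P))) (fun _ hy => hy.2.2)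
    ((oz_cent _).trans (cent_anti ((le_inf (c.h.JQ_le.trans (J_le_Bm P)) (JJ_le _)).trans c.QB_le)))

theorem Zn : Y ≤ 𝐍(oz (core {2} Y)) := (core_nrm _ Y).norm.trans (norm_oz _)

theorem comm_Z {w x : G} (hw : w ∈ oz (core {2} Y)) (hx : x ∈ Bm P) :
    ⁅w, x⁆ = 1 ∨ ⁅w, x⁆ = ⁅w, a⁆ := by
  have k : ∀ y ∈ Bm P ⊓ 𝐂(Va (VV L) L (DD L) a), ∀ w ∈ oz (core {2} Y), y * w = w * y :=
    fun y hy w hw => mem_cent_iff.1 hw.2.1 y (c.core_eq.ge hy)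
  rcases c.dec hx with e | e
  · exact Or.inl (commutatorElement_eq_one_iff_mul_comm.2 (k x e w hw).symm)
  · right
    have a2 : a * a = 1 := by rw [← pow_two, c.hX.2.1.2 a c.ha]
    have e1 : x = x * a * a := by rw [mul_assoc, a2, mul_one]
    have e2 : ⁅w, a⁆ ∈ oz (core {2} Y) := commutator_le_left' (c.syl.le.trans c.Zn)
      (commutator_mem_commutator hw c.haB)
    rw [e1, comm_mul_right, commutatorElement_eq_one_iff_mul_comm.2 (k _ e w hw).symm, one_mul,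
      k _ e _ e2, mul_inv_cancel_right]

theorem comm_Z_mem {w x : G} (hw : w ∈ oz (core {2} Y)) (hx : x ∈ Bm P) :
    ⁅w, x⁆ ∈ ⁅VV L, zpowers a⁆ :=
  (c.comm_Z hw hx).elim (fun e => e ▸ one_mem _) fun e => e ▸ c.h.comm_Z0 c.hX c.ha (c.Z_le_Z0 hw)

theorem ZY {w y : G} (hw : w ∈ oz (core {2} Y)) (hy : y ∈ Y) : ⁅y, w⁆ ∈ Va (VV L) L (DD L) a :=
  (c.nb (nrm_inf_cm c.nVa c.Zn) (fun x hx => ⟨c.syl.le hx, c.nVa (c.syl.le hx), fun w hw =>
    comm_mem_symm (c.h.tm.comm_le c.haP c.ht (c.comm_Z_mem hw hx))⟩) hy).2.2 w hw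

theorem r2 : R2 Y (Bm P) := by
  obtain ⟨v, hv, h1⟩ := c.exists_v
  have c2 := c.h.tm.card_comm c.haP c.ht
  have hvz := c.comm_Z_mem (c.Va_le_Z hv) c.haB
  refine ⟨c.syl, c.core_eq.symm ▸ c.idx, (inf_le_inf_left _ (cent_anti c.Va_le_Z)).trans c.core_eq.ge,
    fun g hg h2 W h3 h4 => ?_, ?_, fun e => c.nle ?_, fun C h2 h3 h4 => ?_⟩
  · refine (c.min (Y ⊓ W) (le_inf c.syl.le h3) inf_le_left fun e => h2 ?_).trans inf_le_right
    have e1 := inf_sup_of_le c.syl.le (Or.inl (((Bm_le P).trans c.h.syl.le).trans c.h.Knrm.norm))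
    refine (e1.le.trans (sup_le le_sup_left ?_)) ⟨hg, c.inf_M_le ⟨hg, e ⟨hg, h4⟩⟩⟩
    have s1 := Syl.inf_of_nrm c.syl (c.h.Knrm.inf_left c.YL)
    rw [← s1.pResidualOf_sup]
    refine sup_le (le_sup_of_le_right (pResidualOf_le_iff.2 fun x hx ho => ⟨hx.1, ?_⟩))
      (le_sup_of_le_left inf_le_left)
    refine stable_factor_cent (N := VV L) (zpowers_le.2 (c.Zn hx.1)) ?_ ?_ (zpowers_le.2 hx.2.2)
      (mem_zpowers x)
    · obtain ⟨k, hk⟩ := IsPGroup.iff_card.1 ((core_isPGroup (p := 2) Y).to_le (oz_le _))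
      rw [Nat.card_zpowers, hk]; exact ho.pow_right k
    · exact commutator_le.2 fun w hw y hy =>
        c.h.Va_le c.haL (comm_mem_symm (c.ZY hw (zpowers_le.2 hx.1 hy)))
  · have k : ∀ w ∈ oz (core {2} Y), ⁅w, a⁆ = 1 → w ∈ 𝐂(Bm P) := fun w hw e =>
      mem_cent_iff_comm.2 fun x hx => (c.comm_Z hw hx).elim id fun e1 => e1.trans e
    refine relIndex_eq_two_iff_exists_notMem_and.2 ⟨v, c.Va_le_Z hv,
      fun e => h1 (mem_cent_iff_comm.1 e a c.haB), fun w hw => ?_⟩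
    by_cases e : ⁅w, a⁆ = 1
    · exact Or.inr (k w hw e)
    · refine Or.inl (k _ (mul_mem hw (c.Va_le_Z hv)) ?_)
      rw [comm_mul_left, ← mem_cent_iff.1 (c.Bz (core_le_syl c.syl hw.1)) _ hvz, mul_inv_cancel_right,
        eq_of_card_two c2 (c.comm_Z_mem hw c.haB) hvz e h1, sq_of_card_two c2 hvz]
  · refine (le_inf le_rfl (cent_symm fun z hz => ?_)).trans c.cz_le
    by_cases e1 : z = 1
    · rw [e1]; exact one_mem _
    · rw [eq_of_card_two c2 hz hvz e1 h1]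
      exact e (commutator_mem_commutator (c.Va_le_Z hv) c.haB)
  · by_contra e
    exact c.nle ((le_inf c.YL h4).trans (c.h.hU C e (h2.trans (Bm_le P))
      ((c.h.AP.trans (norm_Bm P)).trans h3) ((c.h.NP.trans (norm_Bm P)).trans h3)))

theorem QY : ⁅core {2} L, Y⁆ ≤ core {2} Y := by
  have nQ := c.YL.trans (core_nrm {2} L).norm
  have e : Y ⊓ core {2} L ≤ Bm P := Syl.le_of_normalizes c.syl ((core_isPGroup L).to_le inf_le_right)
    inf_le_left (le_normalizer_inf (c.syl.le.trans le_normalizer) (c.syl.le.trans nQ))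
  have n1 : Y ≤ 𝐍(Y ⊓ core {2} L) := le_normalizer_inf le_normalizer nQ
  have := c.nb (nrm_inf_cm n1 nQ) fun x hx => ⟨c.syl.le hx, n1 (c.syl.le hx), fun w hw =>
    ⟨c.syl.le (commutator_le_left' (c.h.QP.trans (le_normalizer.trans (norm_Bm P)))
      (commutator_mem_commutator hx hw)),
      commutator_le_right' (c.syl.le.trans nQ) (commutator_mem_commutator hx hw)⟩⟩
  exact commutator_le.2 fun w hw y hy =>
    comm_mem_symm (c.QB_le ⟨e ((this hy).2.2 w hw), ((this hy).2.2 w hw).2⟩)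

theorem exists_odd : ∃ x ∈ L, x ∉ M ∧ ⁅core {2} L, zpowers x⁆ ≤ VV L := by
  obtain ⟨x, hx, ho, h1⟩ : ∃ x ∈ Y, (orderOf x).Coprime 2 ∧ x ∉ M := by
    by_contra! hc
    refine c.nle ?_
    rw [← c.syl.pResidualOf_sup]
    exact sup_le (pResidualOf_le_iff.2 hc) ((Bm_le P).trans c.h.PM)
  have hx' : zpowers x ≤ Y := zpowers_le.2 hx
  obtain ⟨k, hk⟩ := IsPGroup.iff_card.1 (core_isPGroup (p := 2) L)
  have e := H2.commutator_commutator_eq (K := core {2} L) (A := zpowers x)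
    ((hx'.trans c.YL).trans (core_nrm _ L).norm) (by rw [Nat.card_zpowers, hk]; exact ho.pow_right k)
  have e1 : ⁅core {2} L, zpowers x⁆ ≤ oz (core {2} Y) := by
    rw [← e, commutator_comm]
    exact (commutator_mono (zpowers_le.2 (mem_pResidualOf hx ho))
      ((commutator_mono le_rfl hx').trans c.QY)).trans c.r2.main
  refine ⟨x, c.YL hx, h1, ?_⟩
  rw [← e]
  exact commutator_le.2 fun w hw y hy => c.h.Va_le c.haL (comm_mem_symm (c.ZY (e1 hw) (hx' hy)))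

end BM

theorem S2.c1 (h : S2 A B L P N M H) {U : Subgroup G} (h1 : VV L ≤ U) (h2 : U ≤ core {2} L)
    (h3 : P ≤ 𝐍(U)) : L ≤ 𝐍(U) := by
  obtain ⟨X, a, Y, c⟩ := h.exists_BM
  obtain ⟨x, hx, h4, h5⟩ := c.exists_odd
  have n1 : A ≤ 𝐍(L ⊓ cm (VV L) (core {2} L)) := le_normalizer_inf h.AL fun g hg =>
    cj_eq_iff_mem_normalizer.1 (by
      rw [cj_cm (h.AV hg), cj_eq_iff_mem_normalizer.2 (le_normalizer_core _ h.AL hg)])
  refine (h.min (P ⊔ (L ⊓ cm (VV L) (core {2} L))) le_sup_left (sup_le h.syl.le inf_le_left)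
    (le_normalizer_sup h.AP n1) fun e => h4 (e (mem_sup_right ⟨hx, h.VL hx, fun w hw =>
      comm_mem_symm (h5 (commutator_mem_commutator hw (mem_zpowers x)))⟩))).trans (sup_le h3 ?_)
  exact le_normalizer_of_commutator_le (commutator_le.2 fun u hu y hy =>
    h1 (comm_mem_symm (hy.2.2 u (h2 hu))))

end Cfsg.Agent.SG
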