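import Cfsg.Agent.SG.IRb
import Cfsg.Agent.SG.IMc

/-! Section Rc: the local step for the primes two and three (see notes/s0217_plan.md). -/

set_option autoImplicit false
set_option linter.unusedSectionVars false

namespace Cfsg.Agent.SG

open Subgroup Cfsg.Agent.FT Cfsg.Agent.SF Cfsg.Agent.H1 Cfsg.Agent.H2.PU
open scoped commutatorElement

universe u
variable {G : Type u} [Group G] [Finite G]

variable {A B L P N M H : Subgroup G}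

theorem TM.cop {V D E W : Subgroup G} (h : TM V L D P) (h1 : E ≤ D) (h2 : W ≤ V) (h3 : E ≤ 𝐍(W)) :
    W ≤ (W ⊓ 𝐂(E)) ⊔ ⁅W, E⁆ ∧ ⁅W, E⁆ ≤ ⁅⁅W, E⁆, E⁆ := by
  haveI : Fact (Nat.Prime 3) := ⟨Nat.prime_three⟩
  have nK : E ≤ 𝐍(L ⊓ 𝐂(V)) := (h1.trans h.DL.le).trans (nrm_inf_centralizer h.nV).norm
  have e1 : IsPGroup 3 (bar (L ⊓ 𝐂(V)) E) := isPGroup_iff_mem.2 fun z hz => by
    obtain ⟨x, hx, rfl⟩ := (mem_bar' nK).1 hz
    obtain ⟨k, hk⟩ := h.three x (h1 hx)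
    exact ⟨k, by rw [← coset_pow (nK hx), coset_eq_one (mem_inf.2 ⟨pow_mem (h.DL.le (h1 hx)) _, hk⟩)]⟩
  obtain ⟨T, hT⟩ := exists_syl 3 E
  have e2 := hT.hall.sup_eq_of_relIndex (N := (L ⊓ 𝐂(V)) ⊓ E) inf_le_right (by
    rw [inf_relIndex_right]; exact (piG_bar_iff nK).1 (piG_singleton_iff.2 e1))
  have e3 : E ≤ T ⊔ (E ⊓ 𝐂(W)) := e2.ge.trans (sup_le_sup_left
    (le_inf inf_le_right ((inf_le_left.trans inf_le_right).trans (cent_anti h2))) _)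
  have pW : IsPGroup 2 W := isPGroup_iff_mem.2 fun w hw => ⟨1, by rw [pow_one, pow_two, h.ea w (h2 hw)]⟩
  have c := coprime_of_isPGroup_ne hT.isPGroup pW (by decide)
  have e4 : ⁅W, E⁆ ≤ ⁅W, T⁆ := (commutator_mono le_rfl e3).trans (commutator_sup_right_le
    (right_le_normalizer_commutator _ _) (inf_le_right.trans ((cent_anti (commutator_le_left'
      (hT.le.trans h3))).trans (cent_le_norm _))) le_rfl
    ((le_cent_iff_commutator'.1 inf_le_right).le.trans bot_le))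
  refine ⟨(H2.centralizer_sup_commutator (hT.le.trans h3) c
    (Or.inr (isSolvable_of_isPGroup pW))).ge.trans (sup_le_sup (le_inf inf_le_left (cent_symm
      (e3.trans (sup_le (cent_symm inf_le_right) (inf_le_right.trans (cent_anti inf_le_left))))))
      (commutator_mono le_rfl hT.le)), e4.trans ?_⟩
  rw [← H2.commutator_commutator_eq (hT.le.trans h3) c]
  exact commutator_mono (commutator_mono le_rfl hT.le) hT.le

/-- `[C_D(B), C_X(B)]` for `X = V^y` -/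
def Gy (B L : Subgroup G) (y : G) : Subgroup G := ⁅DD L ⊓ 𝐂(B), cj y (VV L) ⊓ 𝐂(B)⁆

namespace S2
variable (h : S2 A B L P N M H) {y : G}
include h

theorem cjV_le (hy : y ∈ N) : cj y (VV L) ≤ P :=
  (cj_mono y h.VP).trans (cj_eq_iff_mem_normalizer.2 (h.NP hy)).le

theorem cjV_sq : ∀ x ∈ cj y (VV L), x * x ∈ 𝐂(VV L) := fun x hx => by
  have := h.tm.ea _ (mem_cj.1 hx)
  rw [show x * x = y * (y⁻¹ * x * y * (y⁻¹ * x * y)) * y⁻¹ by group, this, mul_one, mul_inv_cancel]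
  exact one_mem _

theorem nm (hy : y ∈ N ⊓ 𝐂(B)) : VV L ⊓ 𝐂(Gy B L y) ≤ 𝐂(cj y (VV L)) := by
  have c6 := h.cop.coprime_dvd_left (card_dvd_of_le' h.BA)
  have e := h.tm.toTM0.ff1 (h.cjV_le (inv_mem hy.1)) h.cjV_sq
  rw [← relIndex_cj y, ← relIndex_cj y _ (VV L), cj_centralizer, cj_centralizer, cj_cj_inv] at e
  refine h.tm.norm h.sol (piNum_coprime' (π := {2, 3}) (fun p hp hd e => ?_) h.pi) c6
    (h.BA.trans h.AV) (h.BA.trans h.AL) (h.BA.trans h.AD) (fun b hb => ?_) (h.cjV_le hy.1) h.cjV_sq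
    (h.tm.toTM0.ff2 (h.cjV_le hy.1) h.cjV_sq e)
  · have := (Nat.Coprime.coprime_dvd_left hd c6).eq_one_of_dvd
    rcases e with rfl | rfl <;> omega
  · rw [← cj_eq_iff_mem_normalizer, ← cj_mul, mem_cent_iff.1 hy.2 b hb, cj_mul,
      cj_eq_iff_mem_normalizer.2 (h.AV (h.BA hb))]

theorem Gy_le (hy : y ∈ N) : Gy B L y ≤ DD L ⊓ 𝐂(B) :=
  commutator_le_left' (le_normalizer_inf
    (inf_le_left.trans ((h.cjV_le hy).trans (h.syl.le.trans h.tm.DL.norm)))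
    (inf_le_right.trans le_normalizer))

theorem nVB : L ⊓ 𝐂(B) ≤ 𝐍(VV L ⊓ 𝐂(B)) :=
  le_normalizer_inf (inf_le_left.trans h.VL) (inf_le_right.trans le_normalizer)

theorem cop' (hy : y ∈ N) : VV L ⊓ 𝐂(B) ≤ (VV L ⊓ 𝐂(B) ⊓ 𝐂(Gy B L y)) ⊔ ⁅VV L ⊓ 𝐂(B), Gy B L y⁆ ∧
    ⁅VV L ⊓ 𝐂(B), Gy B L y⁆ ≤ ⁅⁅VV L ⊓ 𝐂(B), Gy B L y⁆, Gy B L y⁆ :=
  h.tm.cop ((h.Gy_le hy).trans inf_le_left) inf_le_left
    (((h.Gy_le hy).trans (inf_le_inf_right _ h.tm.DL.le)).trans h.nVB)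

theorem Y_le (hy : y ∈ N) : ⁅VV L ⊓ 𝐂(B), Gy B L y⁆ ≤ VV L ⊓ 𝐂(B) :=
  commutator_le_left' (((h.Gy_le hy).trans (inf_le_inf_right _ h.tm.DL.le)).trans h.nVB)

theorem VB_le : VV L ⊓ 𝐂(B) ≤ H := (inf_le_inf_right _ (h.VP.trans h.syl.le)).trans h.LH

theorem XB_le (hy : y ∈ N ⊓ 𝐂(B)) : cj y (VV L) ⊓ 𝐂(B) ≤
    (H ⊓ 𝐂(VV L)) ⊔ cj y ⁅VV L ⊓ 𝐂(B), Gy B L y⁻¹⁆ := by
  have e0 : cj y (VV L ⊓ 𝐂(B)) = cj y (VV L) ⊓ 𝐂(B) := by
    rw [cj_inf, cj_eq_of_mem (mem_inf.1 hy).2]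
  refine e0.ge.trans ((cj_mono y (h.cop' (inv_mem hy.1)).1).trans ?_)
  rw [cj_sup]
  refine sup_le_sup_right (le_inf (cj_le_of_le (h.NH hy) (inf_le_left.trans h.VB_le)) ?_) _
  refine (cj_mono y ((inf_le_inf_right _ inf_le_left).trans (h.nm (inv_mem hy)))).trans ?_
  rw [cj_centralizer, cj_cj_inv]

theorem descend (hy : y ∈ N ⊓ 𝐂(B)) {R : Subgroup G} (hR : R ⊴ H)
    (h1 : ⁅VV L ⊓ 𝐂(B), Gy B L y⁆ ≤ R) (h2 : ⁅VV L ⊓ 𝐂(B), Gy B L y⁻¹⁆ ≤ R) :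
    ⁅VV L ⊓ 𝐂(B), Gy B L y⁆ ≤ ⁅R, R⁆ := by
  have n := (hR.commutator hR).norm
  have dl : DD L ⊓ 𝐂(B) ≤ L ⊓ 𝐂(B) := inf_le_inf_right _ h.tm.DL.le
  have e1 : cj y ⁅VV L ⊓ 𝐂(B), Gy B L y⁻¹⁆ ≤ R := (cj_mono y h2).trans (hR.cj_eq (h.NH hy)).le
  have e2 : ⁅⁅VV L ⊓ 𝐂(B), Gy B L y⁆, cj y (VV L) ⊓ 𝐂(B)⁆ ≤ ⁅R, R⁆ :=
    (commutator_mono le_rfl (h.XB_le hy)).trans (commutator_sup_right_le (inf_le_left.trans n)
      ((e1.trans hR.le).trans n) ((le_cent_iff_commutator'.1 (inf_le_right.trans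
        (cent_anti ((h.Y_le hy.1).trans inf_le_left)))).le.trans bot_le) (commutator_mono h1 e1))
  refine (h.cop' hy.1).2.trans ?_
  rw [commutator_comm]
  refine three_subgroups' ((dl.trans h.LH).trans n)
    (((inf_le_inf_right _ ((h.cjV_le hy.1).trans h.syl.le)).trans h.LH).trans n)
    ((h1.trans hR.le).trans n) ?_ ((commutator_mono (commutator_le_left' ?_) le_rfl).trans e2)
  · rw [commutator_comm] at e2
    exact (commutator_mono e2 le_rfl).trans (commutator_le_left' ((dl.trans h.LH).trans n))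
  · exact le_normalizer_commutator (dl.trans h.nVB) (left_le_normalizer_commutator _ _)

theorem cjV_cent (hy : y ∈ N ⊓ 𝐂(B)) : cj y (VV L) ≤ 𝐂(VV L) := by
  obtain ⟨R, -, r⟩ := exists_minimal_le_of_wellFoundedLT (fun R : Subgroup G => R ⊴ H ∧
    ⁅VV L ⊓ 𝐂(B), Gy B L y⁆ ≤ R ∧ ⁅VV L ⊓ 𝐂(B), Gy B L y⁻¹⁆ ≤ R) H
    ⟨Nrm.refl H, (h.Y_le hy.1).trans h.VB_le, (h.Y_le (inv_mem hy.1)).trans h.VB_le⟩
  obtain ⟨r1, r2, r3⟩ := r.prop
  have e : R = ⊥ := by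
    by_contra e
    exact (der_lt (isSolvable_of_le r1.le h.sH) e).not_ge (r.le_of_le ⟨r1.commutator r1,
      h.descend hy r1 r2 r3, h.descend (inv_mem hy) r1 r3 (by rwa [inv_inv])⟩ (der_le R))
  have e1 := h.XB_le hy
  rw [le_bot_iff.1 (r3.trans e.le), cj_bot, sup_bot_eq] at e1
  refine cent_symm ((le_inf le_rfl (cent_symm ?_)).trans (h.nm hy))
  exact (commutator_mono le_rfl (e1.trans inf_le_right)).trans (commutator_le_right'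
    (le_normalizer_centralizer ((inf_le_left.trans h.tm.DL.le).trans h.VL)))

end S2

theorem S2.false (h : S2 A B L P N M H) : False := by
  set U := ⨆ g ∈ N, cj g (VV L) with hU
  have e0 : ∀ g ∈ N, cj g (VV L) ≤ U := fun g hg => le_iSup₂ (f := fun g _ => cj g (VV L)) g hg
  have e1 : VV L ≤ U := (cj_one _).ge.trans (e0 1 (one_mem _))
  have e2 : U ≤ core {2} L := iSup₂_le fun g hg => by
    obtain ⟨y, hy, p, hp, rfl⟩ := (mem_sup_of_le_normalizer (inf_le_left.trans h.NP)).1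
      ((h.NB.trans (sup_comm _ _).le) hg)
    rw [cj_mul, cj_eq_iff_mem_normalizer.2 (h.VL (h.syl.le hp))]
    exact (le_inf (h.cjV_le hy.1) (h.cjV_cent hy)).trans h.PK
  have e3 : ∀ a, a ∈ 𝐍(N) → (∀ g ∈ N, ∃ k ∈ N, cj (a * g) (VV L) = cj k (VV L)) → a ∈ 𝐍(U) :=
    fun a _ h2 => mem_normalizer_of_cj_le (cj_le_iff_le_cj_inv.2 (iSup₂_le fun g hg => by
      obtain ⟨k, hk, e⟩ := h2 g hg
      rw [← cj_le_iff_le_cj_inv, ← cj_mul, e]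
      exact e0 k hk))
  have e4 : N ≤ 𝐍(U) := fun a ha => e3 a (le_normalizer ha) fun g hg => ⟨_, mul_mem ha hg, rfl⟩
  have e5 : A ≤ 𝐍(U) := fun a ha => e3 a (h.AN ha) fun g hg =>
    ⟨_, conj_mem_of_le_normalizer h.AN ha hg, by
      conv_rhs => rw [← cj_eq_iff_mem_normalizer.2 (h.AV ha), ← cj_mul, inv_mul_cancel_right]⟩
  refine h.nle ((le_inf le_rfl (h.c1 e1 e2 (h.PN.trans e4))).trans
    (h.hU U (ne_bot_of_le e1 fun e => h.nle ?_) (e2.trans h.QP) e5 e4))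
  refine le_trans (le_inf le_rfl ?_) h.K_le
  rw [e, cent_bot]; exact le_top

theorem S1.le (h : S1 A B L P N M H) : L ≤ M := by
  by_contra h1
  obtain ⟨L', h2⟩ := h.exists_S2 h1
  exact h2.false

end Cfsg.Agent.SG
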