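import Cfsg.Agent.SG.IF
import Cfsg.Agent.SG.IG
import Cfsg.Agent.SG.IRc
import Cfsg.Agent.H9.Burnside

/-! Section X: the three factorizations and the nonabelian case (see notes/s0217_plan.md). -/

set_option autoImplicit false
set_option linter.unusedSectionVars false

namespace Cfsg.Agent.SG

open Subgroup Cfsg.Agent.FT Cfsg.Agent.SF Cfsg.Agent.H1
open Cfsg.Agent.H2 (le_normalizer_inf le_normalizer_sup le_normalizer_normalizer)
open scoped commutatorElement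

universe u
variable {G : Type u} [Group G] [Finite G]

variable {r q : ℕ} [Fact r.Prime] [Fact q.Prime] {A S : Subgroup G} {θ : G → Subgroup G}

theorem norm_ZJ (n : ℕ) (P : Subgroup G) : 𝐍(P) ≤ 𝐍(ZJ n P) :=
  (normalizer_le_normalizer_JJ P).trans (normalizer_JJ_le P)

theorem lt_norm_inf {S' L : Subgroup G} (hp : IsPGroup q S') (h : ¬ S' ≤ L) :
    ¬ S' ⊓ 𝐍(S' ⊓ L) ≤ S' ⊓ L :=
  (lt_inf_normalizer_of_isPGroup hp (inf_lt_left.2 h)).not_ge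

theorem fac_ZJ (h : Min r A θ) (hS : MaxP r A θ q S) (h0 : S ≠ ⊥) (hq : 5 ≤ q) :
    Fac q A θ (nT A θ (ZJ q S)) := by
  have hZ : IsT r A θ (ZJ q S) := hS.isT.mono (ZJ_le S) (hS.isT.inv.trans (norm_ZJ q S))
  have hX := h.isT_nT hZ (ZJ_ne_bot (.inr rfl) hS.pgp h0)
  have hSX : S ≤ nT A θ (ZJ q S) := h.le_nT hS.isT (le_normalizer_ZJ S)
  refine fgen h hS hX hSX (fun S' L hS' h1 hL h2 => ?_)
    fun S' L U M hS' hL hU h1 h2 e hP h3 hM h4 h5 h6 => ?_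
  · obtain ⟨g, hg, e⟩ := (syl_ge h hS' hX h1).exists_cj_eq (syl_ge h hS hX hSX)
    have e2 : ZJ q S' = ZJ q S := by
      rw [← e, ← cj_ZJ, cj_eq_iff_mem_normalizer.2 (nT_le A θ _ hg)]
    refine (zj hq hL.solv (syl_ge h hS' hL h2)).trans (sup_le_sup_left (le_inf inf_le_left ?_) _)
    rw [e2]
    exact h.le_nT (hL.inf (le_normalizer_normalizer hZ.inv)) inf_le_right
  · have hUL : U ≤ L := e ▸ h.le_nT (hS'.isT.mono h1 h2) le_normalizer
    refine (zj hq hL.solv hP).trans (sup_le h5 (h6 _ (ZJ_ne_bot (.inr rfl) hP.isPGroup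
      (ne_bot_of_le (le_inf h1 hUL) hU)) (ZJ_le _)
      ((le_normalizer_inf hS'.isT.inv hL.inv).trans (norm_ZJ q _)) (le_normalizer_ZJ _)
      fun h7 => lt_norm_inf hS'.pgp h3 (le_inf inf_le_left
        ((inf_le_inf_left _ (norm_ZJ q _)).trans h7))))

theorem fac_ab (h : Min r A θ) (hS : MaxP r A θ q S) (h0 : S ≠ ⊥) (ha : S ≤ 𝐂(S)) :
    Fac q A θ (nT A θ S) := by
  have hX := h.isT_nT hS.isT h0
  have hSX : S ≤ nT A θ S := h.le_nT hS.isT le_normalizer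
  refine fgen h hS hX hSX (fun S' L hS' h1 hL h2 => ?_)
    fun S' L U M hS' hL hU h1 h2 e hP h3 hM h4 h5 h6 => ?_
  · have h3 : S' ≤ S := (syl_ge h hS hX hSX).le_of_nrm (nT_le A θ S) hS'.pgp h1
    obtain rfl : S' = S := le_antisymm h3 (hS'.max S hS.isT hS.pgp h3)
    exact (abfac hL.solv (syl_ge h hS' hL h2) ha).trans (sup_le_sup_left (le_inf inf_le_left
      (h.le_nT (hL.inf (le_normalizer_normalizer hS.isT.inv)) inf_le_right)) _)
  · obtain ⟨c, -, e2⟩ := h.transitivity hS hS'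
    rw [smul_eq_cj] at e2
    have h7 : S' ≤ 𝐂(S') := by rw [← e2, ← cj_centralizer]; exact cj_mono c ha
    exact absurd (e ▸ h.le_nT hS'.isT ((h7.trans (cent_anti h1)).trans (cent_le_norm U))) h3

theorem isProd_of_syl {L P Q : Subgroup G} (hL : PiG {2, 3} L) (hP : Syl 2 P L) (hQ : Syl 3 Q L) :
    IsProd L P Q := by
  have : Fact (Nat.Prime 3) := ⟨Nat.prime_three⟩
  have h1 : Hall {2}ᶜ Q L := hQ.hall.congr fun p hp hd => by
    rcases hL p hp hd with rfl | rfl <;> simp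
  rw [isProd_iff_card hP.le hQ.le, hP.hall.piG.inf_eq_bot h1.piG, card_bot, mul_one,
    hP.hall.card_mul h1]

theorem piG_of_forall_theta (h : Min r A θ) {π : Set ℕ} (hπ : ∀ a ∈ A, a ≠ 1 → PiG π (θ a))
    {L : Subgroup G} (hL : IsT r A θ L) : PiG π L :=
  h.toFn.piNum_of_forall h.card2 hL fun a ha h1 => (hπ a ha h1).of_le (hL.le a ha h1)

theorem exists_uniq (h : Min r A θ) (hS : MaxP r A θ 2 S)
    (h23 : ∀ a ∈ A, a ≠ 1 → PiG {2, 3} (θ a)) :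
    ∃ X, IsT r A θ X ∧ S ≤ X ∧ ∀ L, IsT r A θ L → S ≤ L → L ≤ X := by
  have : Fact (Nat.Prime 3) := ⟨Nat.prime_three⟩
  obtain ⟨T, hT, -⟩ := (isT_bot (r := r) A θ).exists_maxP (p := 3) IsPGroup.of_bot
  have hp : ∀ L, IsT r A θ L → S ≤ L → IsProd L S (L ⊓ T) := fun L hL hSL => by
    obtain ⟨T₁, h1, h2⟩ := exists_invariant_syl 3 hL.inv (h.toFn.coprime le_rfl hL) (.inr hL.solv)
    obtain ⟨c, hc, h3⟩ := exists_cj_le h hT (hL.mono h1.le h2) h1.isPGroup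
    obtain ⟨t, ht, s, hs, rfl⟩ := (isProd_of_syl (piG_of_forall_theta h h23 h.isT_C)
      (syl_inf h hS h.isT_C le_normalizer) (syl_inf h hT h.isT_C le_normalizer)).symm c hc
    rw [cj_mul, cj_le_iff_le_cj_inv, cj_eq_of_mem (inv_mem ht.1)] at h3
    have h4 := h1.cj_of_mem (hSL hs.1)
    intro g hg
    obtain ⟨x, hx, y, hy, e⟩ :=
      isProd_of_syl (piG_of_forall_theta h h23 hL) (syl_ge h hS hL hSL) h4 g hg
    exact ⟨x, hx, y, ⟨h4.le hy, h3 hy⟩, e⟩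
  let X : Subgroup G := sSup {L | IsT r A θ L ∧ S ≤ L}
  have hle : ∀ L, IsT r A θ L → S ≤ L → L ≤ X := fun L h1 h2 => le_sSup ⟨h1, h2⟩
  have hSX := hle S hS.isT le_rfl
  have hA : A ≤ 𝐍(X) := fun d hd =>
    mem_normalizer_of_cj_le (cj_le_iff_le_cj_inv.2 (sSup_le fun Y hY => cj_le_iff_le_cj_inv.1 (by
      rw [cj_eq_iff_mem_normalizer.2 (hY.1.inv hd)]; exact le_sSup hY)))
  have hX : IsProd X S (X ⊓ T) := fun g hg => by
    have key : ∀ s ∈ S, ∀ t ∈ X ⊓ T, ∃ s' ∈ S, ∃ t' ∈ X ⊓ T, g * (s * t) = s' * t' := by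
      have hg' : g ∈ ⨆ L : {L | IsT r A θ L ∧ S ≤ L}, (L : Subgroup G) := by
        rwa [← sSup_eq_iSup']
      refine iSup_induction _ (C := fun g => ∀ s ∈ S, ∀ t ∈ X ⊓ T, ∃ s' ∈ S, ∃ t' ∈ X ⊓ T,
        g * (s * t) = s' * t') hg' (fun L x hx s hs t ht => ?_)
        (fun s hs t ht => ⟨s, hs, t, ht, one_mul _⟩) fun x y hx hy s hs t ht => ?_
      · obtain ⟨s', hs', t', ht', e⟩ := hp L L.2.1 L.2.2 (x * s) (mul_mem hx (L.2.2 hs))
        exact ⟨s', hs', t' * t, mul_mem ⟨hle L L.2.1 L.2.2 ht'.1, ht'.2⟩ ht, by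
          rw [← mul_assoc, e, mul_assoc]⟩
      · obtain ⟨s', hs', t', ht', e⟩ := hy s hs t ht
        rw [mul_assoc, e]
        exact hx s' hs' t' ht'
    simpa only [mul_one] using key 1 (one_mem _) 1 (one_mem _)
  have hd : ♯X ∣ ♯S * ♯T :=
    (Dvd.intro _ ((isProd_iff_card hSX inf_le_left).1 hX)).trans
      (Nat.mul_dvd_mul_left _ (card_dvd_of_le' inf_le_right))
  refine ⟨X, ⟨hA, fun h1 => ((Nat.Prime.dvd_mul Fact.out).1 (h1.trans hd)).elim hS.isT.cop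
    hT.isT.cop, ?_, fun a ha h1 g hg => ?_⟩, hSX, hle⟩
  · obtain ⟨m, hm⟩ := IsPGroup.iff_card.1 hS.pgp
    obtain ⟨n, hn⟩ := IsPGroup.iff_card.1 hT.pgp
    rw [hm, hn] at hd
    exact H9.burnside_pq Nat.prime_two Nat.prime_three hd
  · obtain ⟨s, hs, t, ht, rfl⟩ := hX g hg.1
    obtain ⟨s', hs', t', ht', e⟩ := h.toFn.exists_cen_mul_cen ((zpowers_le (G := G)).2 ha) hS.isT
      (le_normalizer_inf hA hT.isT.inv) hs ht (by rw [cent_zpowers]; exact hg.2)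
    rw [cent_zpowers] at hs' ht'
    rw [e]
    exact mul_mem (hS.isT.le a ha h1 hs') (hT.isT.le a ha h1 ⟨ht'.1.2, ht'.2⟩)

theorem fac_23 (h : Min r A θ) (hS : MaxP r A θ 2 S) (hr : 5 ≤ r)
    (h23 : ∀ a ∈ A, a ≠ 1 → PiG {2, 3} (θ a)) : ∃ X, IsT r A θ X ∧ S ≤ X ∧ Fac 2 A θ X := by
  have : Fact (Nat.Prime 3) := ⟨Nat.prime_three⟩
  obtain ⟨X, hX, hSX, hu⟩ := exists_uniq h hS h23
  refine ⟨X, hX, hSX, fgen h hS hX hSX (fun S' L hS' h1 hL h2 => ?_)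
    fun S' L U M hS' hL hU h1 h2 e hP h3 hM h4 h5 h6 => ?_⟩
  · obtain ⟨c, hc, e⟩ := (syl_ge h hS' hX h1).hall.exists_cent_cj_eq (syl_ge h hS hX hSX).hall
      hX.inv (h.toFn.coprime le_rfl hX) hX.solv hS'.isT.inv hS.isT.inv
    have h3 := hu _ (h.toFn.isT_conj hL (hX.inf_le_thB le_rfl hc) h.ne_bot)
      (by rw [smul_eq_cj, ← e]; exact cj_mono c h2)
    rw [smul_eq_cj, cj_le_iff_le_cj_inv, cj_eq_of_mem (inv_mem hc.1)] at h3
    exact (le_inf le_rfl h3).trans le_sup_right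
  · have hAP : A ≤ 𝐍(S' ⊓ L) := le_normalizer_inf hS'.isT.inv hL.inv
    have hY : IsT r A θ (S' ⊓ 𝐍(S' ⊓ L)) := hS'.isT.inf (le_normalizer_normalizer hAP)
    obtain ⟨B, hB, hB2, h7⟩ : ∃ B ≤ A, ♯B = r ^ 2 ∧ ¬ S' ⊓ 𝐍(S' ⊓ L) ⊓ 𝐂(B) ≤ S' ⊓ L := by
      by_contra! h7
      exact lt_norm_inf hS'.pgp h3 (le_of_lines h hY h7)
    have hAN : A ≤ 𝐍(S' ⊓ L ⊔ S' ⊓ 𝐍(S' ⊓ L) ⊓ 𝐂(B)) :=
      le_normalizer_sup hAP (le_normalizer_inf hY.inv (h.toFn.le_normalizer_cen hB))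
    refine S1.le (A := A) (B := B) (P := S' ⊓ L) (N := S' ⊓ L ⊔ S' ⊓ 𝐍(S' ⊓ L) ⊓ 𝐂(B))
      (H := thB θ B) ⟨?_, hB, hL.solv, piG_of_forall_theta h h23 hL, hL.inv, hP, hAP, le_sup_left,
      sup_le le_normalizer (inf_le_left.trans inf_le_right), hAN,
      sup_le le_sup_left ((le_inf le_sup_right inf_le_right).trans le_sup_right), hM, h4,
      fun R h8 h9 h10 => (le_core_of_syl hL.solv hP h8 (piG_compl_of_isPGroup_ne h9 (by decide))
        h10).trans h5,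
      fun U' h8 h9 h10 h11 => h6 U' h8 h9 h10 (le_sup_left.trans h11) fun h12 => h7
        (le_inf (inf_le_left.trans inf_le_left) ((le_inf (inf_le_left.trans inf_le_left)
          (le_sup_right.trans h11)).trans h12)),
      (h.toFn.isT_thB hB (line_ne_bot hB2)).solv, hL.inf_le_thB hB,
      (hS'.isT.mono (sup_le inf_le_left (inf_le_left.trans inf_le_left)) hAN).inf_le_thB hB⟩
    rw [h.card]
    refine Nat.Coprime.pow_left _ ((Nat.Prime.coprime_iff_not_dvd Fact.out).2 fun h8 => ?_)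
    have h9 := Nat.le_of_dvd (by decide) h8
    have h10 : r.Prime := Fact.out
    interval_cases r
    · exact absurd h8 (by decide)
    · exact absurd h10 (by decide)

/-- the nonabelian case -/
theorem nonab (h : Min r A θ) (hS : MaxP r A θ q S) {X : Subgroup G} (hX : IsT r A θ X)
    (hSX : S ≤ X) (hf : Fac q A θ X) : S ≤ 𝐂(S) := by
  by_contra hna
  have h1 := syl_ge h hS hX hSX
  have h2 := h1.inf_of_nrm (core2_nrm {q}ᶜ {q} X)
  have hAQ : A ≤ 𝐍(S ⊓ core2 {q}ᶜ {q} X) :=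
    le_normalizer_inf hS.isT.inv (le_normalizer_core2 _ _ hX.inv)
  have h0 : S ⊓ core2 {q}ᶜ {q} X ≠ ⊥ := fun e => hna (by
    have h3 := solvable_p_constrained hX.solv h2
    rw [e, cent_bot, inf_top_eq] at h3
    rw [inf_of_le_left (hSX.trans h3)] at e
    rw [e]; exact bot_le)
  have hN : IsT r A θ (X ⊓ 𝐍(S ⊓ core2 {q}ᶜ {q} X)) := hX.inf (le_normalizer_normalizer hAQ)
  have hQN : S ⊓ core2 {q}ᶜ {q} X ≤ X ⊓ 𝐍(S ⊓ core2 {q}ᶜ {q} X) :=
    le_inf (inf_le_left.trans hSX) le_normalizer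
  have h3 : X ≤ core {q}ᶜ X ⊔ (X ⊓ 𝐍(S ⊓ core2 {q}ᶜ {q} X)) :=
    (h2.frattini' (core2_nrm _ _ X)).ge.trans (sup_le ((core2_eq_sup h1.hall).le.trans
      (sup_le_sup_left hQN _)) le_sup_right)
  have hK : IsT r A θ (core {q}ᶜ X) := hX.mono (core_le _ _) (le_normalizer_core _ hX.inv)
  have hf' : Fac q A θ (X ⊓ 𝐍(S ⊓ core2 {q}ᶜ {q} X)) := fun a ha h4 =>
    (hf a ha h4).trans (sup_le le_sup_left fun x hx => by
      obtain ⟨k, hk, n, hn, rfl⟩ := (mem_sup_iff_of_le_normalizer'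
        (inf_le_left.trans (core_nrm _ _).norm)).1 (h3 hx.2)
      obtain ⟨k', hk', n', hn', e⟩ := h.toFn.exists_cen_mul_cen ((zpowers_le (G := G)).2 ha) hK
        hN.inv hk hn (by rw [cent_zpowers]; exact h.cen a ha h4 hx.1)
      rw [cent_zpowers] at hk' hn'
      rw [e]
      refine mul_mem (mem_sup_left (le_core_of_syl (h.solv a ha h4) (syl_theta h hS ha h4)
        (hK.le a ha h4) ((core_piG _ _).of_le inf_le_left) (le_normalizer_inf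
          ((inf_le_left.trans hSX).trans (core_nrm _ _).norm)
          ((inf_le_right.trans (h.cen a ha h4)).trans le_normalizer)) hk'))
        (mem_sup_right ⟨hN.le a ha h4 hn', hn'.1⟩))
  have hD : 𝐙(S ⊓ core2 {q}ᶜ {q} X) ⊴ X ⊓ 𝐍(S ⊓ core2 {q}ᶜ {q} X) :=
    ⟨inf_le_left.trans hQN, le_normalizer_ctr inf_le_right⟩
  obtain ⟨L, hL, h4, h5⟩ := exists_phi h hS hN hf' hD (le_normalizer_ctr hAQ)
    (lt_of_le_of_ne (inf_le_left.trans inf_le_left) fun e => hna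
      ((e.ge.trans inf_le_right).trans (cent_anti (e.ge.trans inf_le_left))))
  exact kl h hN hL (ctr_ne_bot (isNilpotent_of_isPGroup h2.isPGroup) h0) hD (le_normalizer_ctr hAQ)
    h4 fun a ha h6 => ⟨core_nrm _ _, le_normalizer_core _ (h.inv a ha h6), h5 a ha h6, hf' a ha h6⟩

theorem exists_not_piG_x (h : Min r A θ) (p : ℕ) [Fact p.Prime] :
    ∃ a ∈ A, a ≠ 1 ∧ ¬ PiG {p} (θ a) := by
  by_contra! h1
  obtain ⟨T, hT, -⟩ := (isT_bot (r := r) A θ).exists_maxP (p := p) IsPGroup.of_bot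
  exact h.ncomp ⟨T, hT.isT, fun a ha h2 => ((syl_theta h hT ha h2).eq_of_le (h1 a ha h2).isPGroup
    inf_le_right le_rfl).le.trans inf_le_left⟩

theorem exists_ab (h : Min r A θ) : ∃ (q : ℕ) (_ : Fact q.Prime) (S : Subgroup G), Ab r q A θ S := by
  have ne : ∀ (q : ℕ) [Fact q.Prime] (S : Subgroup G), MaxP r A θ q S → ∀ a ∈ A, a ≠ 1 →
      q ∣ ♯(θ a) → S ≠ ⊥ := fun q _ S hS a ha h1 h2 =>
    ne_bot_of_le inf_le_left ((syl_theta h hS ha h1).ne_bot h2)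
  by_cases h5 : ∃ q : ℕ, q.Prime ∧ 5 ≤ q ∧ ∃ a ∈ A, a ≠ 1 ∧ q ∣ ♯(θ a)
  · obtain ⟨q, hq, hq5, a, ha, h1, h2⟩ := h5
    have := Fact.mk hq
    obtain ⟨S, hS, -⟩ := (isT_bot (r := r) A θ).exists_maxP (p := q) IsPGroup.of_bot
    have h0 := ne q S hS a ha h1 h2
    have hab := nonab h hS (h.isT_nT (hS.isT.mono (ZJ_le S) (hS.isT.inv.trans (norm_ZJ q S)))
      (ZJ_ne_bot (.inr rfl) hS.pgp h0)) (h.le_nT hS.isT (le_normalizer_ZJ S)) (fac_ZJ h hS h0 hq5)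
    exact ⟨q, this, S, h, hS, h0, hab, fac_ab h hS h0 hab, .inl hq5⟩
  have h23 : ∀ a ∈ A, a ≠ 1 → PiG {2, 3} (θ a) := fun a ha h1 p hp hd => by
    by_contra h2
    simp only [Set.mem_insert_iff, Set.mem_singleton_iff, not_or] at h2
    exact h5 ⟨p, hp, hp.five_le_of_ne_two_of_ne_three h2.1 h2.2, a, ha, h1, hd⟩
  have : Fact (Nat.Prime 3) := ⟨Nat.prime_three⟩
  obtain ⟨a, ha, a1, a2⟩ := exists_not_piG_x h 3
  obtain ⟨b, hb, b1, b2⟩ := exists_not_piG_x h 2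
  have a3 : 2 ∣ ♯(θ a) := by
    by_contra h2
    exact a2 fun p hp hd => (h23 a ha a1 p hp hd).resolve_left fun e => h2 (e ▸ hd)
  have b3 : 3 ∣ ♯(θ b) := by
    by_contra h2
    exact b2 fun p hp hd => (h23 b hb b1 p hp hd).resolve_right fun e => h2 ((show p = 3 from e) ▸ hd)
  have hr : 5 ≤ r := (Fact.out : r.Prime).five_le_of_ne_two_of_ne_three
    (fun e => h.cop a ha a1 (e ▸ a3)) fun e => h.cop b hb b1 (e ▸ b3)
  obtain ⟨S, hS, -⟩ := (isT_bot (r := r) A θ).exists_maxP (p := 2) IsPGroup.of_bot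
  have h0 := ne 2 S hS a ha a1 a3
  obtain ⟨X, hX, hSX, hf⟩ := fac_23 h hS hr h23
  have hab := nonab h hS hX hSX hf
  exact ⟨2, inferInstance, S, h, hS, h0, hab, fac_ab h hS h0 hab, .inr ⟨rfl, h23⟩⟩

end Cfsg.Agent.SG
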