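import Cfsg.Agent.SG.Defs

/-! Transvections on an elementary abelian `2`-group: element calculus. -/

set_option autoImplicit false
set_option linter.unusedSectionVars false

namespace Cfsg.Agent.SG.Mb

open Subgroup Cfsg.Agent.FT
open scoped commutatorElement

variable {G : Type*} [Group G] {V : Subgroup G} {a b t g v w y z : G}

/-- conjugation -/
def cc (g v : G) : G := g * v * g⁻¹

theorem cc_mul (g v w : G) : cc g (v * w) = cc g v * cc g w := by simp [cc, mul_assoc]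
theorem cc_cc (g h v : G) : cc (g * h) v = cc g (cc h v) := by simp [cc, mul_assoc]
theorem cc_one (g : G) : cc g 1 = 1 := by simp [cc]
theorem cc_inv_cc (g v : G) : cc g⁻¹ (cc g v) = v := by simp [cc, mul_assoc]
theorem cc_cc_inv (g v : G) : cc g (cc g⁻¹ v) = v := by simp [cc, mul_assoc]
theorem cc_inj (h : cc g v = cc g w) : v = w := by
  rw [← cc_inv_cc g v, h, cc_inv_cc]
theorem cc_eq_iff : cc g v = v ↔ v ∈ 𝐂[g] := by
  rw [mem_cent1_iff, cc, mul_inv_eq_iff_eq_mul, eq_comm]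
theorem cc_eq_iff' : cc g v = v ↔ g ∈ 𝐂[v] := cc_eq_iff.trans mem_cent1_comm
theorem cc_mem (hg : g ∈ 𝐍(V)) (hv : v ∈ V) : cc g v ∈ V := conj_mem_of_mem_normalizer hg hv
theorem cent_iff : g ∈ 𝐂(V) ↔ ∀ v ∈ V, cc g v = v := by
  rw [mem_cent_iff]
  exact forall₂_congr fun v _ => by rw [cc_eq_iff, mem_cent1_iff]
theorem cc_inv_of_fix (h : cc g v = v) : cc g⁻¹ v = v := cc_eq_iff'.2 (inv_mem (cc_eq_iff'.1 h))
theorem cc_of_cent (hg : g ∈ 𝐂(V)) (hv : v ∈ V) : cc g v = v := cent_iff.1 hg v hv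

/-- exponent two -/
def EA (V : Subgroup G) : Prop := ∀ v ∈ V, v * v = 1

theorem EA.inv (h : EA V) (hv : v ∈ V) : v⁻¹ = v := inv_eq_of_mul_eq_one_right (h v hv)
theorem EA.comm (h : EA V) (hv : v ∈ V) (hw : w ∈ V) : v * w = w * v := by
  rw [← h.inv (mul_mem hv hw), mul_inv_rev, h.inv hv, h.inv hw]
theorem EA.mm (h : EA V) (hw : w ∈ V) (v : G) : v * w * w = v := by
  rw [mul_assoc, h w hw, mul_one]
theorem EA.mm' (h : EA V) (hw : w ∈ V) (v : G) : w * (w * v) = v := by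
  rw [← mul_assoc, h w hw, one_mul]
theorem EA.aba (h : EA V) (hv : v ∈ V) (hw : w ∈ V) : v * w * v = w := by
  rw [h.comm hv hw, h.mm hv]
theorem EA.le_cent (h : EA V) : V ≤ 𝐂(V) := fun _ hv => mem_cent_iff.2 fun _ hw => h.comm hw hv

/-- odd order modulo the centralizer of `V` -/
def Od (V : Subgroup G) (t : G) : Prop := ∃ n : ℕ, Odd n ∧ t ^ n ∈ 𝐂(V)

theorem Od.inv (h : Od V t) : Od V t⁻¹ := by
  obtain ⟨n, h1, h2⟩ := h
  exact ⟨n, h1, by rw [inv_pow]; exact inv_mem h2⟩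

theorem mem_of_sq_of_odd {H : Subgroup G} {n : ℕ} (hn : Odd n) (h1 : t ^ n ∈ H) (h2 : t * t ∈ H) :
    t ∈ H := by
  obtain ⟨k, rfl⟩ := hn
  rw [pow_succ, pow_mul, pow_two] at h1
  exact (mul_mem_cancel_left (pow_mem h2 k)).1 h1

theorem Od.fix (h : Od V t) (hv : v ∈ V) (h2 : cc t (cc t v) = v) : cc t v = v := by
  obtain ⟨n, h1, h3⟩ := h
  rw [← cc_cc, cc_eq_iff'] at h2
  exact cc_eq_iff'.2 (mem_of_sq_of_odd h1 (cc_eq_iff'.1 (cc_of_cent h3 hv)) h2)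

theorem Od.fix' (ea : EA V) (h : Od V t) (hv : v ∈ V) (hw : w ∈ V) (h1 : cc t v = v * w)
    (h2 : cc t w = w) : cc t v = v :=
  h.fix hv (by rw [h1, cc_mul, h1, h2, ea.mm hw])

theorem Od.cent (h : Od V t) (h2 : t * t ∈ 𝐂(V)) : t ∈ 𝐂(V) := by
  obtain ⟨n, h1, h3⟩ := h
  exact mem_of_sq_of_odd h1 h3 h2

/-- `a` acts on `V` as a transvection with centre `z` -/
structure Tr (V : Subgroup G) (a z : G) : Prop where
  nV : a ∈ 𝐍(V)
  zV : z ∈ V
  z1 : z ≠ 1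
  fz : cc a z = z
  cas : ∀ v ∈ V, cc a v = v ∨ cc a v = v * z
  ex : ∃ v ∈ V, cc a v = v * z

theorem exists_Tr (ea : EA V) (ha : a ∈ 𝐍(V)) (h : tv V a) : ∃ z, Tr V a z := by
  obtain ⟨u, hu, h1⟩ := relIndex_eq_two_iff.1 h
  have h2 : u ∉ 𝐂[a] := by
    rcases h1 1 (one_mem _) with h3 | h3
    · exact absurd (one_mem _) h3.2
    · simpa using h3.2
  have hz : u * cc a u ∈ V := mul_mem hu (cc_mem ha hu)
  have h3 : cc a u = u * (u * cc a u) := (ea.mm' hu _).symm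
  have h4 : ∀ v ∈ V, cc a v = v ∨ cc a v = v * (u * cc a u) := by
    intro v hv
    rcases h1 v hv with h5 | h5
    · right
      have h6 := cc_eq_iff.2 h5.1
      rw [cc_mul] at h6
      rw [← mul_assoc, ← h6, ea.mm (cc_mem ha hu)]
    · exact Or.inl (cc_eq_iff.2 h5.1)
  have h5 : u * cc a u ≠ 1 := fun h6 => h2 (cc_eq_iff.1 (by rw [h3, h6, mul_one]))
  refine ⟨u * cc a u, ha, hz, h5, ?_, h4, u, hu, h3⟩
  rcases h4 _ hz with h6 | h6
  · exact h6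
  · rw [ea _ hz, ← cc_one a] at h6
    exact absurd (cc_inj h6) h5

theorem Tr.sq (ea : EA V) (h : Tr V a z) (hv : v ∈ V) : cc a (cc a v) = v := by
  rcases h.cas v hv with h1 | h1
  · rw [h1, h1]
  · rw [h1, cc_mul, h1, h.fz, ea.mm h.zV]

theorem Tr.cc_inv (ea : EA V) (h : Tr V a z) (hv : v ∈ V) : cc a⁻¹ v = cc a v := by
  conv_lhs => rw [← h.sq ea hv]
  rw [cc_inv_cc]

theorem Tr.sq_mem (ea : EA V) (h : Tr V a z) : a * a ∈ 𝐂(V) :=
  cent_iff.2 fun v hv => by rw [cc_cc, h.sq ea hv]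

theorem Tr.not_cent (h : Tr V a z) : a ∉ 𝐂(V) := by
  intro h1
  obtain ⟨v, hv, h2⟩ := h.ex
  rw [cc_of_cent h1 hv, left_eq_mul] at h2
  exact h.z1 h2

theorem Tr.conj (h : Tr V a z) (hg : g ∈ 𝐍(V)) : Tr V (g * a * g⁻¹) (cc g z) where
  nV := mul_mem (mul_mem hg h.nV) (inv_mem hg)
  zV := cc_mem hg h.zV
  z1 := fun h1 => h.z1 (cc_inj (h1.trans (cc_one g).symm))
  fz := by rw [cc_cc, cc_cc, cc_inv_cc, h.fz]
  cas := fun v hv => by
    rw [cc_cc, cc_cc]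
    rcases h.cas _ (cc_mem (inv_mem hg) hv) with h1 | h1
    · rw [h1, cc_cc_inv]; exact Or.inl rfl
    · rw [h1, cc_mul, cc_cc_inv]; exact Or.inr rfl
  ex := by
    obtain ⟨v, hv, h1⟩ := h.ex
    exact ⟨cc g v, cc_mem hg hv, by rw [cc_cc, cc_cc, cc_inv_cc, h1, cc_mul]⟩

/-- two transvections whose quotient has odd order: if one fixes the centre of the other,
they agree -/
theorem Tr.cent_of_fix (ea : EA V) (h1 : Tr V a y) (h2 : Tr V b z) (od : Od V (b * a⁻¹))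
    (hf : cc a z = z) : b * a⁻¹ ∈ 𝐂(V) := by
  have h3 : cc (b * a⁻¹) z = z := by rw [cc_cc, cc_inv_of_fix hf, h2.fz]
  have h4 : cc (b * a⁻¹) y = cc b y := by rw [cc_cc, cc_inv_of_fix h1.fz]
  have h5 : cc (b * a⁻¹) y = y := by
    rcases h2.cas y h1.zV with h6 | h6
    · rw [h4, h6]
    · exact od.fix' ea h1.zV h2.zV (h4.trans h6) h3
  have h6 : cc b y = y := h4.symm.trans h5
  refine cent_iff.2 fun v hv => ?_
  have h7 : cc (b * a⁻¹) v = cc b (cc a v) := by rw [cc_cc, h1.cc_inv ea hv]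
  rcases h1.cas v hv with h8 | h8 <;> rcases h2.cas v hv with h9 | h9
  · rw [h7, h8, h9]
  · exact od.fix' ea hv h2.zV (by rw [h7, h8, h9]) h3
  · exact od.fix' ea hv h1.zV (by rw [h7, h8, cc_mul, h9, h6]) h5
  · exact od.fix' ea hv (mul_mem h2.zV h1.zV) (by rw [h7, h8, cc_mul, h9, h6, mul_assoc])
      (by rw [cc_mul, h3, h5])

theorem mem_zpowers_sq (hy : y * y = 1) (hv : v ∈ zpowers y) : v = 1 ∨ v = y := by
  obtain ⟨n, rfl⟩ := hv
  have h2 : y ^ (2 : ℤ) = 1 := by rw [zpow_two, hy]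
  rcases Int.even_or_odd' n with ⟨k, rfl | rfl⟩
  · left; simp only [zpow_mul, h2, one_zpow]
  · right; simp only [zpow_add, zpow_mul, h2, one_zpow, one_mul, zpow_one]

theorem card_zpowers_sq (hy : y * y = 1) (h1 : y ≠ 1) : ♯(zpowers y) = 2 := by
  rw [Nat.card_zpowers]
  exact orderOf_eq_prime (by rw [pow_two, hy]) h1

theorem Tr.comm_eq (ea : EA V) (h : Tr V a z) : ⁅V, zpowers a⁆ = zpowers z := by
  have h0 : ∀ v ∈ V, ∀ s : G, s ∈ 𝐍(V) → ⁅v, s⁆ = v * cc s v := fun v hv s _ => by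
    rw [commutatorElement_def, ea.inv hv, cc]; simp only [mul_assoc]
  apply le_antisymm
  · rw [commutator_le]
    rintro v hv _ ⟨n, rfl⟩
    rw [h0 v hv _ (zpow_mem h.nV n)]
    have h2 : ∀ k : ℤ, ∀ w ∈ V, cc (a ^ (2 * k)) w = w := fun k w hw =>
      cc_of_cent (by rw [zpow_mul, zpow_two]; exact zpow_mem (h.sq_mem ea) k) hw
    rcases Int.even_or_odd' n with ⟨k, rfl | rfl⟩
    · rw [h2 k v hv, ea v hv]; exact one_mem _
    · rw [zpow_add, zpow_one, cc_cc, h2 k _ (cc_mem h.nV hv)]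
      rcases h.cas v hv with h3 | h3
      · rw [h3, ea v hv]; exact one_mem _
      · rw [h3, ea.mm' hv]; exact mem_zpowers z
  · obtain ⟨v, hv, h1⟩ := h.ex
    rw [zpowers_le, ← ea.mm' hv z, ← h1, ← h0 v hv a h.nV]
    exact commutator_mem_commutator hv (mem_zpowers a)

/-- two transvections generating a symmetric group of degree three on `V` -/
structure Pr (V : Subgroup G) (a b y z : G) : Prop where
  ea : EA V
  ta : Tr V a y
  tb : Tr V b z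
  az : cc a z = z * y
  bz : cc b y = y * z

theorem exists_Pr (ea : EA V) (h1 : Tr V a y) (h2 : Tr V b z) (od : Od V (b * a⁻¹))
    (h3 : b * a⁻¹ ∉ 𝐂(V)) : Pr V a b y z := by
  refine ⟨ea, h1, h2, (h1.cas z h2.zV).resolve_left fun h4 => h3 (h1.cent_of_fix ea h2 od h4),
    (h2.cas y h1.zV).resolve_left fun h4 => h3 ?_⟩
  have h5 := inv_mem (h2.cent_of_fix ea h1 (by simpa using od.inv) h4)
  simpa using h5

namespace Pr

theorem yV (h : Pr V a b y z) : y ∈ V := h.ta.zV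
theorem zV (h : Pr V a b y z) : z ∈ V := h.tb.zV
theorem ne (h : Pr V a b y z) : y ≠ z := by
  intro h1
  have h2 := h.az
  rw [← h1, h.ta.fz, left_eq_mul] at h2
  exact h.ta.z1 h2
theorem yz1 (h : Pr V a b y z) : y * z ≠ 1 := fun h1 =>
  h.ne (by rw [← h.ea.mm h.zV y, h1, one_mul])
theorem tN (h : Pr V a b y z) : b * a⁻¹ ∈ 𝐍(V) := mul_mem h.tb.nV (inv_mem h.ta.nV)
theorem ty (h : Pr V a b y z) : cc (b * a⁻¹) y = y * z := by
  rw [cc_cc, cc_inv_of_fix h.ta.fz, h.bz]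
theorem tz (h : Pr V a b y z) : cc (b * a⁻¹) z = y := by
  rw [cc_cc, h.ta.cc_inv h.ea h.zV, h.az, cc_mul, h.tb.fz, h.bz, ← mul_assoc, h.ea.aba h.zV h.yV]
theorem tyz (h : Pr V a b y z) : cc (b * a⁻¹) (y * z) = z := by
  rw [cc_mul, h.ty, h.tz, h.ea.aba h.yV h.zV]

theorem mem_U (h : Pr V a b y z) :
    v ∈ zpowers y ⊔ zpowers z ↔ v = 1 ∨ v = y ∨ v = z ∨ v = y * z := by
  constructor
  · intro hv
    obtain ⟨p, hp, q, hq, rfl⟩ := (mem_sup_of_le_normalizer (le_normalizer_of_le_centralizer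
      ((zpowers_le.2 h.yV).trans (h.ea.le_cent.trans
        (centralizer_le (SetLike.coe_subset_coe.2 (zpowers_le.2 h.zV))))))).1 hv
    rcases mem_zpowers_sq (h.ea y h.yV) hp with rfl | rfl <;>
      rcases mem_zpowers_sq (h.ea z h.zV) hq with rfl | rfl <;> simp
  · rintro (rfl | rfl | rfl | rfl)
    · exact one_mem _
    · exact mem_sup_left (mem_zpowers _)
    · exact mem_sup_right (mem_zpowers _)
    · exact mul_mem_sup (mem_zpowers _) (mem_zpowers _)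

theorem U_le (h : Pr V a b y z) : zpowers y ⊔ zpowers z ≤ V :=
  sup_le (zpowers_le.2 h.yV) (zpowers_le.2 h.zV)

theorem card_U [Finite G] (h : Pr V a b y z) : ♯(zpowers y ⊔ zpowers z : Subgroup G) = 4 := by
  have h1 := card_sup_mul_card_inf (H := zpowers y) (K := zpowers z) (le_normalizer_of_le_centralizer
      ((zpowers_le.2 h.yV).trans (h.ea.le_cent.trans
        (centralizer_le (SetLike.coe_subset_coe.2 (zpowers_le.2 h.zV))))))
  have h2 : zpowers y ⊓ zpowers z = ⊥ := by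
    rw [eq_bot_iff]
    intro v hv
    rcases mem_zpowers_sq (h.ea y h.yV) hv.1 with h3 | h3
    · exact mem_bot.2 h3
    · rcases mem_zpowers_sq (h.ea z h.zV) hv.2 with h4 | h4
      · exact mem_bot.2 h4
      · exact absurd (h3.symm.trans h4) h.ne
  rw [h2, card_bot, mul_one, card_zpowers_sq (h.ea y h.yV) h.ta.z1,
    card_zpowers_sq (h.ea z h.zV) h.tb.z1] at h1
  exact h1

theorem dec (h : Pr V a b y z) (hv : v ∈ V) :
    ∃ u ∈ zpowers y ⊔ zpowers z, ∃ c ∈ V, cc a c = c ∧ cc b c = c ∧ u * c = v := by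
  have hy := h.yV
  have hz := h.zV
  rcases h.ta.cas v hv with h1 | h1 <;> rcases h.tb.cas v hv with h2 | h2
  · exact ⟨1, one_mem _, v, hv, h1, h2, one_mul _⟩
  · refine ⟨y, h.mem_U.2 (by simp), y * v, mul_mem hy hv, by rw [cc_mul, h.ta.fz, h1], ?_,
      h.ea.mm' hy v⟩
    rw [cc_mul, h.bz, h2, h.ea.comm hv hz, mul_assoc, h.ea.mm' hz]
  · refine ⟨z, h.mem_U.2 (by simp), z * v, mul_mem hz hv, ?_, by rw [cc_mul, h.tb.fz, h2],
      h.ea.mm' hz v⟩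
    rw [cc_mul, h.az, h1, h.ea.comm hv hy, mul_assoc, h.ea.mm' hy]
  · refine ⟨y * z, h.mem_U.2 (by simp), y * z * v, mul_mem (mul_mem hy hz) hv, ?_, ?_,
      h.ea.mm' (mul_mem hy hz) v⟩
    · rw [cc_mul, cc_mul, h.ta.fz, h.az, h1, h.ea.comm hv hy, mul_assoc, mul_assoc, h.ea.mm' hy,
        mul_assoc]
    · rw [cc_mul, cc_mul, h.tb.fz, h.bz, h2, h.ea.mm hz, h.ea.comm hv hz, mul_assoc]

theorem tc (_h : Pr V a b y z) {c : G} (h1 : cc a c = c) (h2 : cc b c = c) :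
    cc (b * a⁻¹) c = c := by
  rw [cc_cc, cc_inv_of_fix h1, h2]

theorem t3 (h : Pr V a b y z) : (b * a⁻¹) ^ 3 ∈ 𝐂(V) := by
  refine cent_iff.2 fun v hv => ?_
  obtain ⟨u, hu, c, -, h1, h2, rfl⟩ := h.dec hv
  have h3 := h.tc h1 h2
  rw [pow_three, cc_mul, cc_cc (b * a⁻¹), cc_cc (b * a⁻¹), cc_cc (b * a⁻¹), cc_cc (b * a⁻¹),
    h3, h3, h3]
  rcases h.mem_U.1 hu with rfl | rfl | rfl | rfl
  · rw [cc_one, cc_one, cc_one]
  · rw [h.ty, h.tyz, h.tz]
  · rw [h.tz, h.ty, h.tyz]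
  · rw [h.tyz, h.tz, h.ty]

theorem fpf1 (h : Pr V a b y z) (hv : v ∈ zpowers y ⊔ zpowers z) (h1 : cc (b * a⁻¹) v = v) :
    v = 1 := by
  rcases h.mem_U.1 hv with rfl | rfl | rfl | rfl
  · rfl
  · rw [h.ty, mul_eq_left] at h1
    exact absurd h1 h.tb.z1
  · rw [h.tz] at h1
    exact absurd h1 h.ne
  · rw [h.tyz, right_eq_mul] at h1
    exact absurd h1 h.ta.z1

theorem t_not (h : Pr V a b y z) : b * a⁻¹ ∉ 𝐂(V) := fun h1 =>
  h.ta.z1 (h.fpf1 (h.mem_U.2 (by simp)) (cc_of_cent h1 h.yV))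

theorem tU [Finite G] (h : Pr V a b y z) :
    b * a⁻¹ ∈ 𝐍((zpowers y ⊔ zpowers z : Subgroup G)) := by
  refine mem_normalizer_of_conj_mem fun v hv => ?_
  change cc (b * a⁻¹) v ∈ _
  rcases h.mem_U.1 hv with rfl | rfl | rfl | rfl
  · rw [cc_one]; exact one_mem _
  · rw [h.ty]; exact h.mem_U.2 (by simp)
  · rw [h.tz]; exact h.mem_U.2 (by simp)
  · rw [h.tyz]; exact h.mem_U.2 (by simp)

theorem third (h : Pr V a b y z) : Tr V (b * a * b⁻¹) (y * z) := by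
  rw [← h.bz]
  exact h.ta.conj h.tb.nV

/-- a fourth transvection at odd distance from the three agrees with one of them -/
theorem fourth (h : Pr V a b y z) {c x : G} (hc : Tr V c x) (o1 : Od V (a * c⁻¹))
    (o2 : Od V (b * c⁻¹)) (o3 : Od V (b * a * b⁻¹ * c⁻¹)) :
    a * c⁻¹ ∈ 𝐂(V) ∨ b * c⁻¹ ∈ 𝐂(V) ∨ b * a * b⁻¹ * c⁻¹ ∈ 𝐂(V) := by
  rcases hc.cas y h.yV with h1 | h1
  · exact Or.inl (hc.cent_of_fix h.ea h.ta o1 h1)
  rcases hc.cas z h.zV with h2 | h2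
  · exact Or.inr (Or.inl (hc.cent_of_fix h.ea h.tb o2 h2))
  refine Or.inr (Or.inr (hc.cent_of_fix h.ea h.third o3 ?_))
  rw [cc_mul, h1, h2, h.ea.comm h.zV hc.zV, mul_assoc, h.ea.mm' hc.zV]

end Pr

end Cfsg.Agent.SG.Mb
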