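import Cfsg.Agent.SG.Mb1

/-! Transvections in the `TM0` setting: the structure of `T_a` and `V_a`. -/

set_option autoImplicit false
set_option linter.unusedSectionVars false

namespace Cfsg.Agent.SG.Mb

open Subgroup Cfsg.Agent.FT
open scoped commutatorElement

variable {G : Type*} [Group G] [Finite G] {V L D P : Subgroup G} {a b s v w y z : G}

theorem EA.comm_eq (ea : EA V) (hv : v ∈ V) (s : G) : ⁅v, s⁆ = v * cc s v := by
  rw [commutatorElement_def, ea.inv hv, cc]; simp only [mul_assoc]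

theorem comm_of_odd {H : Type*} [Group H] {x τ : H} {n : ℕ} (hn : Odd n) (hx : x ^ n = 1)
    (h3 : τ ^ 3 = 1) (h : cc x τ = 1 ∨ cc x τ = τ ∨ cc x τ = τ * τ) : x ∈ 𝐂[τ] := by
  rcases h with h | h | h
  · rw [cc_inj (h.trans (cc_one x).symm)]
    exact mem_cent1_iff.2 (by simp)
  · exact cc_eq_iff'.1 h
  · refine mem_of_sq_of_odd hn (by rw [hx]; exact one_mem _) (cc_eq_iff'.1 ?_)
    rw [cc_cc, h, cc_mul, h, mul_assoc, ← pow_three, h3, mul_one]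

theorem Pr.U_le_of_mem (h : Pr V a b y z) {I : Subgroup G} (hI : b * a⁻¹ ∈ 𝐍(I)) (hw : w ∈ I)
    (hU : w ∈ zpowers y ⊔ zpowers z) (h1 : w ≠ 1) : zpowers y ⊔ zpowers z ≤ I := by
  have h2 : y ∈ I := by
    rcases h.mem_U.1 hU with rfl | rfl | rfl | rfl
    · exact absurd rfl h1
    · exact hw
    · rw [← h.tz]; exact cc_mem hI hw
    · have h3 := cc_mem hI (cc_mem hI hw)
      rwa [h.tyz, h.tz] at h3
  refine sup_le (zpowers_le.2 h2) (zpowers_le.2 ?_)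
  rw [← h.tyz, ← h.ty]
  exact cc_mem hI (cc_mem hI h2)

theorem Pr.cent_of_fix (h : Pr V a b y z) {r : G} (od : Od V r)
    (hU : r ∈ 𝐍((zpowers y ⊔ zpowers z : Subgroup G)))
    (hc : ∀ v ∈ V, ⁅v, r⁆ ∈ zpowers y ⊔ zpowers z) (hy : cc r y = y) : r ∈ 𝐂(V) := by
  have hz : cc r z = z := by
    rcases h.mem_U.1 (cc_mem hU (h.mem_U.2 (Or.inr (Or.inr (Or.inl rfl))))) with h1 | h1 | h1 | h1
    · exact absurd (cc_inj (h1.trans (cc_one r).symm)) h.tb.z1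
    · exact absurd (cc_inj (hy.trans h1.symm)) h.ne
    · exact h1
    · exact od.fix' h.ea h.zV h.yV (h1.trans (h.ea.comm h.yV h.zV)) hy
  refine cent_iff.2 fun v hv => od.fix' h.ea hv (h.U_le (hc v hv))
    (by rw [h.ea.comm_eq hv, h.ea.mm' hv]) ?_
  rcases h.mem_U.1 (hc v hv) with h1 | h1 | h1 | h1 <;> rw [h1]
  · exact cc_one r
  · exact hy
  · exact hz
  · rw [cc_mul, hy, hz]

/-- the explicit description of `T_a` and `V_a` -/
structure Dat (V L D : Subgroup G) (a b y z : G) : Prop where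
  pr : Pr V a b y z
  tD : b * a⁻¹ ∈ D
  T : Ta V L D a = zpowers (b * a⁻¹) ⊔ (L ⊓ 𝐂(V))
  U : Va V L D a = zpowers y ⊔ zpowers z

theorem K_nrm (h : TM0 V L D P) : L ⊓ 𝐂(V) ⊴ L := nrm_inf_centralizer h.nV

theorem od_of_mem (h : TM0 V L D P) (hs : s ∈ D) : Od V s := h.odd s hs

theorem T_le_cent (hp : Pr V a b y z) {c : G} (hc : c ∈ V) (h1 : cc a c = c) (h2 : cc b c = c) :
    zpowers (b * a⁻¹) ⊔ (L ⊓ 𝐂(V)) ≤ 𝐂[c] :=
  sup_le (zpowers_le.2 (cc_eq_iff'.1 (hp.tc h1 h2))) (inf_le_right.trans (cent_le_cent1 hc))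

theorem T_le_norm (hp : Pr V a b y z) :
    zpowers (b * a⁻¹) ⊔ (L ⊓ 𝐂(V)) ≤ 𝐍((zpowers y ⊔ zpowers z : Subgroup G)) :=
  sup_le (zpowers_le.2 hp.tU) (inf_le_right.trans ((cent_anti hp.U_le).trans (cent_le_norm _)))

theorem exists_dat (h : TM0 V L D P) (ha : a ∈ P) (h1 : tv V a) : ∃ b y z, Dat V L D a b y z := by
  have ea : EA V := h.ea
  have aL := h.PL ha
  have hK := K_nrm h
  obtain ⟨y, hy⟩ := exists_Tr ea (h.nV aL) h1
  obtain ⟨d, hd, h2⟩ : ∃ d ∈ D, ⁅a, d⁆ ∉ 𝐂(V) := by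
    by_contra h3
    push Not at h3
    exact hy.not_cent (h.faith a ha h3)
  have hD : ∀ e ∈ D, e * a * e⁻¹ * a⁻¹ ∈ D := fun e he => by
    have h3 := mul_mem he (h.DL.conj_mem aL (inv_mem he))
    simpa only [mul_assoc] using h3
  have hD2 : ∀ e ∈ D, ∀ f ∈ D, e * a * e⁻¹ * (f * a * f⁻¹)⁻¹ ∈ D := fun e he f hf => by
    have h3 := mul_mem (hD e he) (inv_mem (hD f hf))
    have h4 : e * a * e⁻¹ * a⁻¹ * (f * a * f⁻¹ * a⁻¹)⁻¹ = e * a * e⁻¹ * (f * a * f⁻¹)⁻¹ := by group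
    rwa [h4] at h3
  have dL := h.DL.le hd
  have hb := hy.conj (h.nV dL)
  set b := d * a * d⁻¹ with hbd
  have bL : b ∈ L := mul_mem (mul_mem dL aL) (inv_mem dL)
  have tD : b * a⁻¹ ∈ D := hD d hd
  have hp : Pr V a b y (cc d y) := exists_Pr ea hy hb (od_of_mem h tD) fun h3 => h2 (by
    have h4 := inv_mem h3
    have h5 : (b * a⁻¹)⁻¹ = ⁅a, d⁆ := by rw [hbd, commutatorElement_def]; group
    rwa [h5] at h4)
  have hT : Ta V L D a = zpowers (b * a⁻¹) ⊔ (L ⊓ 𝐂(V)) := by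
    have ht : b * a⁻¹ ∈ zpowers (b * a⁻¹) ⊔ (L ⊓ 𝐂(V)) := mem_sup_left (mem_zpowers _)
    refine le_antisymm (sup_le ?_ le_sup_right) (sup_le ?_ le_sup_right)
    · have h3 : ∀ e ∈ D, ⁅e, a⁆ ∈ zpowers (b * a⁻¹) ⊔ (L ⊓ 𝐂(V)) := by
        intro e he
        have eL := h.DL.le he
        have cL : e * a * e⁻¹ ∈ L := mul_mem (mul_mem eL aL) (inv_mem eL)
        have o1 : a * (e * a * e⁻¹)⁻¹ ∈ D := by simpa using hD2 1 (one_mem _) e he
        have o3 : b * a * b⁻¹ * (e * a * e⁻¹)⁻¹ ∈ D := by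
          have h4 := hD2 _ tD e he
          have h5 : b * a⁻¹ * a * (b * a⁻¹)⁻¹ = b * a * b⁻¹ := by group
          rwa [h5] at h4
        rcases hp.fourth (hy.conj (h.nV eL)) (od_of_mem h o1) (od_of_mem h (hD2 d hd e he))
          (od_of_mem h o3) with h4 | h4 | h4
        · have h5 : ⁅e, a⁆ = (a * (e * a * e⁻¹)⁻¹)⁻¹ := by rw [commutatorElement_def]; group
          rw [h5]
          exact mem_sup_right (inv_mem ⟨h.DL.le o1, h4⟩)
        · have h5 : ⁅e, a⁆ = (b * (e * a * e⁻¹)⁻¹)⁻¹ * (b * a⁻¹) := by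
            rw [commutatorElement_def]; group
          rw [h5]
          exact mul_mem (mem_sup_right (inv_mem (mem_inf.2 ⟨mul_mem bL (inv_mem cL), h4⟩))) ht
        · have h5 : ⁅e, a⁆ = (b * a * b⁻¹ * (e * a * e⁻¹)⁻¹)⁻¹ *
              (b * a⁻¹ * (a * a) * (b * b)⁻¹ * (b * a⁻¹)) := by
            rw [commutatorElement_def]; group
          rw [h5]
          exact mul_mem (mem_sup_right (inv_mem ⟨h.DL.le o3, h4⟩))
            (mul_mem (mul_mem (mul_mem ht (mem_sup_right ⟨mul_mem aL aL, hy.sq_mem ea⟩))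
              (mem_sup_right (inv_mem ⟨mul_mem bL bL, hb.sq_mem ea⟩))) ht)
      have h4 : ∀ k : ℤ, a ^ (2 * k) ∈ L ⊓ 𝐂(V) := fun k => by
        rw [zpow_mul, zpow_two]
        exact zpow_mem (show a * a ∈ L ⊓ 𝐂(V) from ⟨mul_mem aL aL, hy.sq_mem ea⟩) k
      have h5 : ∀ e ∈ D, ∀ k ∈ L ⊓ 𝐂(V), ⁅e, k⁆ ∈ zpowers (b * a⁻¹) ⊔ (L ⊓ 𝐂(V)) :=
        fun e he k hk => mem_sup_right (mul_mem (hK.conj_mem (h.DL.le he) hk) (inv_mem hk))
      rw [commutator_le]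
      rintro e he _ ⟨n, rfl⟩
      rcases Int.even_or_odd' n with ⟨k, rfl | rfl⟩
      · exact h5 e he _ (h4 k)
      · have h6 : ⁅e, a ^ (2 * k + 1)⁆ =
            ⁅e, a ^ (2 * k)⁆ * (a ^ (2 * k) * ⁅e, a⁆ * (a ^ (2 * k))⁻¹) := by
          simp only [commutatorElement_def]; group
        change ⁅e, a ^ (2 * k + 1)⁆ ∈ _
        rw [h6]
        exact mul_mem (h5 e he _ (h4 k)) (mul_mem (mul_mem (mem_sup_right (h4 k)) (h3 e he))
          (mem_sup_right (inv_mem (h4 k))))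
    · exact (zpowers_le.2 (commutator_mem_commutator hd (mem_zpowers a))).trans le_sup_left
  refine ⟨b, y, cc d y, hp, tD, hT, ?_⟩
  rw [Va, hT]
  apply le_antisymm
  · rw [commutator_le]
    intro v hv s hs
    obtain ⟨u, hu, c, hc, h3, h4, rfl⟩ := hp.dec hv
    rw [ea.comm_eq hv, cc_mul, cc_eq_iff'.2 (T_le_cent hp hc h3 h4 hs),
      ea.comm (cc_mem (sup_le (zpowers_le.2 hp.tN) (inf_le_left.trans h.nV) hs) (hp.U_le hu)) hc,
      mul_assoc, ea.mm' hc]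
    exact mul_mem hu (cc_mem (T_le_norm hp hs) hu)
  · have ht : b * a⁻¹ ∈ zpowers (b * a⁻¹) ⊔ (L ⊓ 𝐂(V)) := mem_sup_left (mem_zpowers _)
    have h3 := commutator_mem_commutator hp.yV ht
    have h4 := commutator_mem_commutator hp.zV ht
    rw [ea.comm_eq hp.yV, hp.ty, ea.mm' hp.yV] at h3
    rw [ea.comm_eq hp.zV, hp.tz] at h4
    exact sup_le (zpowers_le.2 ((mul_mem_cancel_left h3).1 h4)) (zpowers_le.2 h3)

theorem Ta_le (h : TM0 V L D P) (ha : a ∈ P) : Ta V L D a ≤ D :=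
  sup_le (commutator_le_left' ((zpowers_le.2 (h.PL ha)).trans h.DL.norm)) h.KD

theorem norm_Ta (h : TM0 V L D P) (a : G) : D ≤ 𝐍(Ta V L D a) :=
  le_normalizer_sup (left_le_normalizer_commutator _ _) (h.DL.le.trans (K_nrm h).norm)

theorem norm_Va (h : TM0 V L D P) (a : G) : D ≤ 𝐍(Va V L D a) :=
  le_normalizer_commutator (h.DL.le.trans h.nV) (norm_Ta h a)

namespace Dat

theorem tT (hd : Dat V L D a b y z) : b * a⁻¹ ∈ Ta V L D a := by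
  rw [hd.T]; exact mem_sup_left (mem_zpowers _)

theorem mem_T (h : TM0 V L D P) (hd : Dat V L D a b y z) (hs : s ∈ Ta V L D a) :
    ∃ k ∈ L ⊓ 𝐂(V), s = k ∨ s = b * a⁻¹ * k ∨ s = b * a⁻¹ * (b * a⁻¹) * k := by
  have tL := h.DL.le hd.tD
  rw [hd.T] at hs
  obtain ⟨_, ⟨n, rfl⟩, k, hk, rfl⟩ :=
    (mem_sup_of_le_normalizer ((zpowers_le.2 tL).trans (K_nrm h).norm)).1 hs
  have h3 : ∀ q : ℤ, (b * a⁻¹) ^ (3 * q) * k ∈ L ⊓ 𝐂(V) := fun q => by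
    refine mul_mem ?_ hk
    rw [zpow_mul]
    exact zpow_mem (show (b * a⁻¹) ^ (3 : ℤ) ∈ L ⊓ 𝐂(V) from
      ⟨zpow_mem tL 3, by exact_mod_cast hd.pr.t3⟩) q
  obtain ⟨q, rfl | rfl | rfl⟩ : ∃ q : ℤ, n = 3 * q ∨ n = 1 + 3 * q ∨ n = 2 + 3 * q :=
    ⟨n / 3, by omega⟩
  · exact ⟨_, h3 q, Or.inl rfl⟩
  · exact ⟨_, h3 q, Or.inr (Or.inl (by simp only [zpow_add, zpow_one, mul_assoc]))⟩
  · exact ⟨_, h3 q, Or.inr (Or.inr (by simp only [zpow_add, zpow_two, mul_assoc]))⟩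

theorem fpf (h : TM0 V L D P) (hd : Dat V L D a b y z) (hs : s ∈ Ta V L D a) (h2 : s ∉ 𝐂(V))
    (hv : v ∈ zpowers y ⊔ zpowers z) (h3 : cc s v = v) : v = 1 := by
  have vV := hd.pr.U_le hv
  obtain ⟨k, hk, rfl | rfl | rfl⟩ := hd.mem_T h hs
  · exact absurd hk.2 h2
  · rw [cc_cc, cc_of_cent hk.2 vV] at h3
    exact hd.pr.fpf1 hv h3
  · rw [cc_cc, cc_of_cent hk.2 vV, cc_cc] at h3
    exact hd.pr.fpf1 hv ((od_of_mem h hd.tD).fix vV h3)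

theorem c_cent (hd : Dat V L D a b y z) {c : G} (hc : c ∈ V) (h1 : cc a c = c) (h2 : cc b c = c) :
    c ∈ 𝐂(Ta V L D a) := by
  rw [hd.T]
  exact le_cent1_iff.1 (T_le_cent hd.pr hc h1 h2)

theorem cent_le (hd : Dat V L D a b y z) : V ⊓ 𝐂(Ta V L D a) ≤ 𝐂[a] := by
  rintro v ⟨hv, h1⟩
  obtain ⟨u, hu, c, hc, h3, h4, rfl⟩ := hd.pr.dec hv
  have h5 : u ∈ 𝐂(Ta V L D a) := (mul_mem_cancel_right (hd.c_cent hc h3 h4)).1 h1
  rw [hd.pr.fpf1 hu (cc_eq_iff.2 (cent_le_cent1 hd.tT h5)), one_mul]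
  exact cc_eq_iff.1 h3

theorem cube (h : TM0 V L D P) (hd : Dat V L D a b y z) :
    coset (L ⊓ 𝐂(V)) (b * a⁻¹) ^ 3 = 1 := by
  have tL := h.DL.le hd.tD
  rw [← coset_pow ((K_nrm h).norm tL)]
  exact coset_eq_one ⟨pow_mem tL 3, hd.pr.t3⟩

theorem coset_T (h : TM0 V L D P) (hd : Dat V L D a b y z) (hs : s ∈ Ta V L D a) :
    coset (L ⊓ 𝐂(V)) s = 1 ∨ coset (L ⊓ 𝐂(V)) s = coset (L ⊓ 𝐂(V)) (b * a⁻¹) ∨
      coset (L ⊓ 𝐂(V)) s = coset (L ⊓ 𝐂(V)) (b * a⁻¹) * coset (L ⊓ 𝐂(V)) (b * a⁻¹) := by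
  have tN := (K_nrm h).norm (h.DL.le hd.tD)
  obtain ⟨k, hk, rfl | rfl | rfl⟩ := hd.mem_T h hs
  · exact Or.inl (coset_eq_one hk)
  · exact Or.inr (Or.inl (by rw [coset_mul tN (le_normalizer hk), coset_eq_one hk, mul_one]))
  · exact Or.inr (Or.inr (by
      rw [coset_mul (mul_mem tN tN) (le_normalizer hk), coset_eq_one hk, mul_one, coset_mul tN tN]))

theorem idx3 (h : TM0 V L D P) (hd : Dat V L D a b y z) :
    (L ⊓ 𝐂(V)).relIndex (Ta V L D a) = 3 := by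
  have tN := (K_nrm h).norm (h.DL.le hd.tD)
  rw [hd.T, relIndex_sup_of_le_normalizer (zpowers_le.2 tN), ← card_bar (zpowers_le.2 tN),
    bar_zpowers tN, Nat.card_zpowers]
  have : Fact (Nat.Prime 3) := ⟨Nat.prime_three⟩
  exact orderOf_eq_prime (hd.cube h) fun h1 => hd.pr.t_not ((coset_eq_one_iff tN).1 h1).2

theorem central (h : TM0 V L D P) (ha : a ∈ P) (hd : Dat V L D a b y z) :
    ⁅D, Ta V L D a⁆ ≤ 𝐂(V) := by
  have hN : D ≤ 𝐍((L ⊓ 𝐂(V) : Subgroup G)) := h.DL.le.trans (K_nrm h).norm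
  rw [commutator_le]
  intro d hD s hs
  obtain ⟨n, hn, h1⟩ := h.odd d hD
  have h2 : coset (L ⊓ 𝐂(V)) d ∈ 𝐂[coset (L ⊓ 𝐂(V)) (b * a⁻¹)] := by
    refine comm_of_odd hn ?_ (hd.cube h) ?_
    · rw [← coset_pow (hN hD)]
      exact coset_eq_one ⟨pow_mem (h.DL.le hD) n, h1⟩
    · rw [cc, ← coset_conj (hN hD) (hN hd.tD)]
      exact hd.coset_T h (conj_mem_of_mem_normalizer (norm_Ta h a hD) hd.tT)
  have sN := hN (Ta_le h ha hs)
  have h3 : coset (L ⊓ 𝐂(V)) s ∈ 𝐂[coset (L ⊓ 𝐂(V)) d] := by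
    have h4 := mem_cent1_comm.1 h2
    rcases hd.coset_T h hs with h5 | h5 | h5 <;> rw [h5]
    · exact one_mem _
    · exact h4
    · exact mul_mem h4 h4
  have h4 : ⁅d, s⁆ ∈ 𝐍((L ⊓ 𝐂(V) : Subgroup G)) :=
    mul_mem (mul_mem (mul_mem (hN hD) sN) (inv_mem (hN hD))) (inv_mem sN)
  refine ((coset_eq_one_iff h4).1 ?_).2
  rw [coset_commutator (hN hD) sN, commutatorElement_eq_one_iff_mul_comm]
  exact (mem_cent1_iff.1 h3).symm

theorem T_le_of_eq (h : TM0 V L D P) {a' b' y' z' : G} (ha : a ∈ P) (ha' : a' ∈ P)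
    (hd : Dat V L D a b y z) (hd' : Dat V L D a' b' y' z') (he : Va V L D a = Va V L D a') :
    Ta V L D a' ≤ Ta V L D a := by
  have hN : D ≤ 𝐍((zpowers y ⊔ zpowers z : Subgroup G)) := by rw [← hd.U]; exact norm_Va h a
  have hc : ⁅V, Ta V L D a ⊔ Ta V L D a'⁆ ≤ zpowers y ⊔ zpowers z :=
    commutator_sup_right_le ((Ta_le h ha).trans hN) ((Ta_le h ha').trans hN) hd.U.le
      (he.symm.trans hd.U).le
  have key : ∀ t ∈ Ta V L D a, cc t y = cc (b' * a'⁻¹) y → b' * a'⁻¹ ∈ Ta V L D a := by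
    intro t ht h1
    have h2 : t⁻¹ * (b' * a'⁻¹) ∈ D := mul_mem (inv_mem (Ta_le h ha ht)) hd'.tD
    have h3 := hd.pr.cent_of_fix (od_of_mem h h2) (hN h2) (fun v hv => hc
      (commutator_mem_commutator hv (mul_mem_sup (inv_mem ht) hd'.tT)))
      (by rw [cc_cc, ← h1, cc_inv_cc])
    exact (mul_mem_cancel_left (inv_mem ht)).1 (mem_sup_right ⟨h.DL.le h2, h3⟩)
  have hy : y ∈ zpowers y ⊔ zpowers z := mem_sup_left (mem_zpowers y)
  rw [hd'.T]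
  refine sup_le (zpowers_le.2 ?_) le_sup_right
  rcases hd.pr.mem_U.1 (cc_mem (hN hd'.tD) hy) with h1 | h1 | h1 | h1
  · exact absurd (cc_inj (h1.trans (cc_one _).symm)) hd.pr.ta.z1
  · exact absurd (hd'.pr.fpf1 (by rw [← hd'.U, ← he, hd.U]; exact hy) h1) hd.pr.ta.z1
  · exact key _ (mul_mem hd.tT hd.tT) (by rw [h1, cc_cc, hd.pr.ty, hd.pr.tyz])
  · exact key _ hd.tT (by rw [h1, hd.pr.ty])

theorem V_le_of_ne (h : TM0 V L D P) {a' : G} (hd : Dat V L D a b y z)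
    (hn : Va V L D a ⊓ Va V L D a' ≠ ⊥) : Va V L D a ≤ Va V L D a' := by
  obtain ⟨w, hw, h1⟩ := exists_ne_one_of_ne_bot hn
  have h2 := hd.pr.U_le_of_mem (le_normalizer_inf (norm_Va h a) (norm_Va h a') hd.tD) hw
    (hd.U.le hw.1) h1
  exact hd.U.le.trans (h2.trans inf_le_right)

end Dat

end Cfsg.Agent.SG.Mb
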